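import Mathlib
import Cfsg.Agent.Helper10.ConjFam2
import Cfsg.Agent.Helper10.SylowRel
import Cfsg.Agent.Helper10.WellPlaced
import Cfsg.Agent.Helper19.SylowQuot
import Cfsg.Agent.Helper16.Basic
import Cfsg.Agent.Helper9.StrEmb

set_option autoImplicit false

namespace Cfsg.Agent.Helper10

open scoped commutatorElement

variable {G : Type*} [Group G]

/-- The chain `⊤ ≥ W ≥ [W,W] ≥ [W,W,W] ≥ …` (lower central series of `W` with `⊤` on top). -/
def wChain (W : Subgroup G) : ℕ → Subgroup G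
  | 0 => ⊤
  | 1 => W
  | (j + 2) => ⁅wChain W (j + 1), W⁆

theorem wChain_succ_le (W : Subgroup G) : ∀ j, wChain W (j + 1) ≤ W := by
  intro j
  induction j with
  | zero => exact le_rfl
  | succ j ih =>
    show ⁅wChain W (j + 1), W⁆ ≤ W
    rw [Subgroup.commutator_le]
    intro a ha b hb
    exact W.mul_mem (W.mul_mem (W.mul_mem (ih ha) hb) (W.inv_mem (ih ha))) (W.inv_mem hb)

theorem wChain_map (W : Subgroup G) {g : G} (hg : g ∈ Subgroup.normalizer (W : Set G)) :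
    ∀ j, (wChain W j).map (MulAut.conj g).toMonoidHom = wChain W j := by
  have h1 : (wChain W 1).map (MulAut.conj g).toMonoidHom = wChain W 1 :=
    Cfsg.Agent.Helper16.map_conj_eq_of_mem_normalizer hg
  intro j
  rcases j with _ | j
  · exact Subgroup.map_top_of_surjective _ (MulAut.conj g).surjective
  · induction j with
    | zero => exact h1
    | succ j ih =>
      show (⁅wChain W (j + 1), W⁆).map (MulAut.conj g).toMonoidHom = ⁅wChain W (j + 1), W⁆
      rw [Subgroup.map_commutator, ih]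
      congr 1

theorem wChain_bot [Finite G] {p : ℕ} [Fact p.Prime] (W : Subgroup G) (hW : IsPGroup p W) :
    ∃ c, wChain W (c + 1) = ⊥ := by
  have key : ∀ j, wChain W (j + 1) = W.lowerCentralSeries j := by
    intro j
    induction j with
    | zero => rfl
    | succ j ih =>
      show ⁅wChain W (j + 1), W⁆ = W.lowerCentralSeries (j + 1)
      rw [Subgroup.lowerCentralSeries_succ, ih]
  have hnil : Group.IsNilpotent ↥W := hW.isNilpotent
  obtain ⟨n, hn⟩ := (Subgroup.isNilpotent_iff_lowerCentralSeries W).1 hnil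
  exact ⟨n, by rw [key, hn]⟩

/-- The subgroup of `N_G(T)` acting "unipotently" along the chain of `W` on `T`. -/
def stab (P W T : Subgroup G) (hTP : T ≤ P)
    (hsc : ∀ j, ∀ x ∈ wChain W j, ∀ g : G, x ∈ P → g * x * g⁻¹ ∈ P → g * x * g⁻¹ ∈ wChain W j) :
    Subgroup G where
  carrier := {y | y ∈ Subgroup.normalizer (T : Set G) ∧
    ∀ j, ∀ t ∈ T, t ∈ wChain W j → ⁅y, t⁆ ∈ wChain W (j + 1)}
  one_mem' := ⟨Subgroup.one_mem _, fun j t _ _ => by
    rw [commutatorElement_one_left]; exact Subgroup.one_mem _⟩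
  mul_mem' := by
    rintro y₁ y₂ ⟨hy₁, h₁⟩ ⟨hy₂, h₂⟩
    refine ⟨Subgroup.mul_mem _ hy₁ hy₂, fun j t ht htj => ?_⟩
    have e : ⁅y₁ * y₂, t⁆ = y₁ * ⁅y₂, t⁆ * y₁⁻¹ * ⁅y₁, t⁆ := by
      simp only [commutatorElement_def]; group
    rw [e]
    have hu : ⁅y₂, t⁆ ∈ T := by
      rw [commutatorElement_def]
      exact T.mul_mem ((Subgroup.mem_normalizer_iff.1 hy₂ t).1 ht) (T.inv_mem ht)
    refine Subgroup.mul_mem _ ?_ (h₁ j t ht htj)
    exact hsc (j + 1) _ (h₂ j t ht htj) y₁ (hTP hu)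
      (hTP ((Subgroup.mem_normalizer_iff.1 hy₁ _).1 hu))
  inv_mem' := by
    rintro y ⟨hy, h⟩
    refine ⟨Subgroup.inv_mem _ hy, fun j t ht htj => ?_⟩
    have e : ⁅y⁻¹, t⁆ = y⁻¹ * (⁅y, t⁆)⁻¹ * y⁻¹⁻¹ := by
      simp only [commutatorElement_def]; group
    rw [e]
    have hu : (⁅y, t⁆)⁻¹ ∈ T := by
      rw [commutatorElement_def]
      exact T.inv_mem (T.mul_mem ((Subgroup.mem_normalizer_iff.1 hy t).1 ht) (T.inv_mem ht))
    exact hsc (j + 1) _ (Subgroup.inv_mem _ (h j t ht htj)) y⁻¹ (hTP hu)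
      (hTP ((Subgroup.mem_normalizer_iff.1 (Subgroup.inv_mem _ hy) _).1 hu))

theorem mem_stab_iff (P W T : Subgroup G) (hTP : T ≤ P)
    (hsc : ∀ j, ∀ x ∈ wChain W j, ∀ g : G, x ∈ P → g * x * g⁻¹ ∈ P → g * x * g⁻¹ ∈ wChain W j)
    (y : G) : y ∈ stab P W T hTP hsc ↔ (y ∈ Subgroup.normalizer (T : Set G) ∧
      ∀ j, ∀ t ∈ T, t ∈ wChain W j → ⁅y, t⁆ ∈ wChain W (j + 1)) := Iff.rfl

theorem stab_le_normalizer (P W T : Subgroup G) (hTP : T ≤ P)
    (hsc : ∀ j, ∀ x ∈ wChain W j, ∀ g : G, x ∈ P → g * x * g⁻¹ ∈ P → g * x * g⁻¹ ∈ wChain W j) :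
    stab P W T hTP hsc ≤ Subgroup.normalizer (T : Set G) := fun _ hy => hy.1

theorem stab_conj (P W T : Subgroup G) (hTP : T ≤ P)
    (hsc : ∀ j, ∀ x ∈ wChain W j, ∀ g : G, x ∈ P → g * x * g⁻¹ ∈ P → g * x * g⁻¹ ∈ wChain W j)
    {u y : G} (hu : u ∈ Subgroup.normalizer (T : Set G)) (hy : y ∈ stab P W T hTP hsc) :
    u * y * u⁻¹ ∈ stab P W T hTP hsc := by
  obtain ⟨hyN, h⟩ := hy
  refine ⟨Subgroup.mul_mem _ (Subgroup.mul_mem _ hu hyN) (Subgroup.inv_mem _ hu), fun j t ht htj => ?_⟩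
  have e : ⁅u * y * u⁻¹, t⁆ = u * ⁅y, u⁻¹ * t * u⁆ * u⁻¹ := by
    simp only [commutatorElement_def]; group
  rw [e]
  have ht' : u⁻¹ * t * u ∈ T := by
    have := (Subgroup.mem_normalizer_iff.1 (Subgroup.inv_mem _ hu) t).1 ht
    rwa [inv_inv] at this
  have htj' : u⁻¹ * t * u ∈ wChain W j := by
    have := hsc j t htj u⁻¹ (hTP ht) (by rw [inv_inv]; exact hTP ht')
    rwa [inv_inv] at this
  have hv : ⁅y, u⁻¹ * t * u⁆ ∈ T := by
    rw [commutatorElement_def]
    exact T.mul_mem ((Subgroup.mem_normalizer_iff.1 hyN _).1 ht') (T.inv_mem ht')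
  exact hsc (j + 1) _ (h j _ ht' htj') u (hTP hv) (hTP ((Subgroup.mem_normalizer_iff.1 hu _).1 hv))

theorem le_stab (P W T : Subgroup G) (hTP : T ≤ P) (hPW : P ≤ Subgroup.normalizer (W : Set G))
    (hsc : ∀ j, ∀ x ∈ wChain W j, ∀ g : G, x ∈ P → g * x * g⁻¹ ∈ P → g * x * g⁻¹ ∈ wChain W j) :
    W ⊓ Subgroup.normalizer (T : Set G) ≤ stab P W T hTP hsc := by
  rintro y ⟨hyW, hyN⟩
  refine ⟨hyN, fun j t ht htj => ?_⟩
  rcases j with _ | j
  · show ⁅y, t⁆ ∈ W
    have h1 : t * y⁻¹ * t⁻¹ ∈ W :=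
      (Subgroup.mem_normalizer_iff.1 (hPW (hTP ht)) _).1 (W.inv_mem hyW)
    have e : ⁅y, t⁆ = y * (t * y⁻¹ * t⁻¹) := by simp only [commutatorElement_def]; group
    rw [e]; exact W.mul_mem hyW h1
  · show ⁅y, t⁆ ∈ ⁅wChain W (j + 1), W⁆
    rw [Subgroup.commutator_comm]
    exact Subgroup.commutator_mem_commutator hyW htj

theorem stab_coprime_centralizes [Finite G] {p : ℕ} [Fact p.Prime] (P W T : Subgroup G)
    (hP : IsPGroup p P) (hTP : T ≤ P) (hWP : W ≤ P)
    (hsc : ∀ j, ∀ x ∈ wChain W j, ∀ g : G, x ∈ P → g * x * g⁻¹ ∈ P → g * x * g⁻¹ ∈ wChain W j)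
    {y : G} (hy : y ∈ stab P W T hTP hsc) (hco : (orderOf y).Coprime p) :
    ∀ t ∈ T, ⁅y, t⁆ = 1 := by
  obtain ⟨hyN, h⟩ := hy
  obtain ⟨c, hc⟩ := wChain_bot W (hP.to_le hWP)
  have key : ∀ d j, j + d = c + 1 → ∀ t ∈ T, t ∈ wChain W j → ⁅y, t⁆ = 1 := by
    intro d
    induction d with
    | zero =>
      intro j hj t _ htj
      have hj' : j = c + 1 := by omega
      rw [hj', hc, Subgroup.mem_bot] at htj
      rw [htj, commutatorElement_one_right]
    | succ d ih =>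
      intro j hj t ht htj
      have hz := h j t ht htj
      have hzT : ⁅y, t⁆ ∈ T := by
        rw [commutatorElement_def]
        exact T.mul_mem ((Subgroup.mem_normalizer_iff.1 hyN t).1 ht) (T.inv_mem ht)
      have hyz := ih (j + 1) (by omega) _ hzT hz
      have hcomm : y * ⁅y, t⁆ = ⁅y, t⁆ * y := by
        have e : y * ⁅y, t⁆ = ⁅y, ⁅y, t⁆⁆ * ⁅y, t⁆ * y := by
          simp only [commutatorElement_def]; group
        rw [e, hyz, one_mul]
      have hpow : ∀ k : ℕ, y ^ k * t * (y ^ k)⁻¹ = ⁅y, t⁆ ^ k * t := by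
        intro k
        induction k with
        | zero => simp
        | succ k ihk =>
          have hcomm' : y * ⁅y, t⁆ ^ k = ⁅y, t⁆ ^ k * y := by
            have : Commute y (⁅y, t⁆) := hcomm
            exact (this.pow_right k)
          have e1 : y * t * y⁻¹ = ⁅y, t⁆ * t := by simp only [commutatorElement_def]; group
          calc y ^ (k + 1) * t * (y ^ (k + 1))⁻¹ = y * (y ^ k * t * (y ^ k)⁻¹) * y⁻¹ := by
                rw [pow_succ']; group
            _ = y * (⁅y, t⁆ ^ k * t) * y⁻¹ := by rw [ihk]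
            _ = (y * ⁅y, t⁆ ^ k) * t * y⁻¹ := by group
            _ = ⁅y, t⁆ ^ k * (y * t * y⁻¹) := by rw [hcomm']; group
            _ = ⁅y, t⁆ ^ k * (⁅y, t⁆ * t) := by rw [e1]
            _ = ⁅y, t⁆ ^ (k + 1) * t := by rw [pow_succ]; group
      have h1 := hpow (orderOf y)
      rw [pow_orderOf_eq_one, inv_one, mul_one, one_mul] at h1
      have h2 : ⁅y, t⁆ ^ orderOf y = 1 := by
        exact mul_right_cancel (h1.symm.trans (one_mul t).symm)
      obtain ⟨e, he⟩ := hP ⟨⁅y, t⁆, hTP hzT⟩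
      have he' : ⁅y, t⁆ ^ p ^ e = 1 := by
        have := congrArg Subtype.val he
        simpa using this
      have h3 := pow_gcd_eq_one.2 ⟨h2, he'⟩
      rw [Nat.Coprime.gcd_eq_one (Nat.Coprime.pow_right e hco), pow_one] at h3
      exact h3
  intro t ht
  exact key (c + 1) 0 (by omega) t ht (Subgroup.mem_top t)

theorem not_dvd_relIndex_of_normal_in [Finite G] {p : ℕ} (M D K : Subgroup G) (hKM : K ≤ M)
    (hK : M ≤ Subgroup.normalizer (K : Set G)) (hD : ¬ p ∣ D.relIndex M) : ¬ p ∣ D.relIndex K := by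
  have hn : (K.subgroupOf M).Normal := (Subgroup.normal_subgroupOf_iff_le_normalizer hKM).2 hK
  have h1 := Cfsg.Agent.Helper19.relIndex_sup_normal (D.subgroupOf M) (K.subgroupOf M)
  have h2 : (D.subgroupOf M).relIndex (K.subgroupOf M) = D.relIndex K :=
    Subgroup.relIndex_subgroupOf hKM
  have h3 : (D.subgroupOf M).relIndex (D.subgroupOf M ⊔ K.subgroupOf M) ∣ (D.subgroupOf M).index :=
    Subgroup.relIndex_dvd_index_of_le le_sup_left
  intro h
  apply hD
  rw [← h2, ← h1] at h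
  exact dvd_trans h h3

theorem exists_ext [Finite G] {p : ℕ} [Fact p.Prime] (P : Sylow p G) (W T : Subgroup G)
    (hTP : T ≤ (P : Subgroup G)) (hWP : W ≤ (P : Subgroup G))
    (hPW : (P : Subgroup G) ≤ Subgroup.normalizer (W : Set G))
    (hsc : ∀ j, ∀ x ∈ wChain W j, ∀ g : G, x ∈ (P : Subgroup G) → g * x * g⁻¹ ∈ (P : Subgroup G) →
      g * x * g⁻¹ ∈ wChain W j)
    (hidx : ¬ p ∣ ((P : Subgroup G) ⊓ Subgroup.normalizer (T : Set G)).relIndex
      (Subgroup.normalizer (T : Set G)))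
    (x : G) (hx : x ∈ Subgroup.normalizer (T : Set G)) :
    ∃ x' ∈ Subgroup.normalizer (T : Set G), (∀ t ∈ T, x' * t * x'⁻¹ = x * t * x⁻¹) ∧
      ∀ b ∈ W ⊓ Subgroup.normalizer (T : Set G), x' * b * x'⁻¹ ∈ (P : Subgroup G) := by
  have hKN : stab (P : Subgroup G) W T hTP hsc ≤ Subgroup.normalizer (T : Set G) :=
    stab_le_normalizer _ _ _ hTP hsc
  have hNK : Subgroup.normalizer (T : Set G) ≤
      Subgroup.normalizer ((stab (P : Subgroup G) W T hTP hsc : Subgroup G) : Set G) := by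
    intro u hu
    exact Cfsg.Agent.Helper9.mem_normalizer_of_conj_le _ u
      (fun q hq => stab_conj _ _ _ hTP hsc hu hq)
  have hD : ¬ p ∣ ((P : Subgroup G) ⊓ Subgroup.normalizer (T : Set G)).relIndex
      (stab (P : Subgroup G) W T hTP hsc) :=
    not_dvd_relIndex_of_normal_in (Subgroup.normalizer (T : Set G)) _ _ hKN hNK hidx
  have hDp : IsPGroup p ((P : Subgroup G) ⊓ Subgroup.normalizer (T : Set G) : Subgroup G) :=
    P.isPGroup'.to_le inf_le_left
  have hBp : IsPGroup p ((W ⊓ Subgroup.normalizer (T : Set G)).map (MulAut.conj x).toMonoidHom) :=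
    (P.isPGroup'.to_le (inf_le_left.trans hWP)).map _
  have hBK : (W ⊓ Subgroup.normalizer (T : Set G)).map (MulAut.conj x).toMonoidHom ≤
      stab (P : Subgroup G) W T hTP hsc := by
    rintro _ ⟨b, hb, rfl⟩
    exact stab_conj _ _ _ hTP hsc hx (le_stab _ _ _ hTP hPW hsc hb)
  obtain ⟨u, hu, huB⟩ := exists_conj_into_of_relIndex _ _ hDp hD _ hBp hBK
  have hsup := sup_pResidual_eq_top (N := ↥(stab (P : Subgroup G) W T hTP hsc)) (p := p)
    (((P : Subgroup G) ⊓ Subgroup.normalizer (T : Set G)).subgroupOf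
      (stab (P : Subgroup G) W T hTP hsc)) hD
  have hn := Cfsg.Agent.Helper6.pResidual_normal p ↥(stab (P : Subgroup G) W T hTP hsc)
  have hu' : (⟨u, hu⟩ : ↥(stab (P : Subgroup G) W T hTP hsc)) ∈
      (((P : Subgroup G) ⊓ Subgroup.normalizer (T : Set G)).subgroupOf
      (stab (P : Subgroup G) W T hTP hsc)) ⊔
      Cfsg.pResidual p ↥(stab (P : Subgroup G) W T hTP hsc) := by
    rw [hsup]; exact Subgroup.mem_top _
  obtain ⟨y, hy, r, hr, hyr⟩ := Subgroup.mem_sup_of_normal_right.1 hu'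
  have hrT : ∀ r ∈ Cfsg.pResidual p ↥(stab (P : Subgroup G) W T hTP hsc),
      ∀ t ∈ T, (r : G) * t = t * (r : G) := by
    intro r hr
    unfold Cfsg.pResidual at hr
    induction hr using Subgroup.closure_induction with
    | mem r hr =>
      intro t ht
      have hco : (orderOf (r : G)).Coprime p := by rw [Subgroup.orderOf_coe]; exact hr
      exact commutatorElement_eq_one_iff_mul_comm.1
        (stab_coprime_centralizes (P : Subgroup G) W T P.isPGroup' hTP hWP hsc r.2 hco t ht)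
    | one => intro t _; simp
    | mul a b _ _ ha hb =>
      intro t ht
      show (a : G) * (b : G) * t = t * ((a : G) * (b : G))
      rw [mul_assoc, hb t ht, ← mul_assoc, ha t ht, mul_assoc]
    | inv a _ ha =>
      intro t ht
      show (a : G)⁻¹ * t = t * (a : G)⁻¹
      have h1 := ha t ht
      calc (a : G)⁻¹ * t = (a : G)⁻¹ * (t * (a : G)) * (a : G)⁻¹ := by group
        _ = (a : G)⁻¹ * ((a : G) * t) * (a : G)⁻¹ := by rw [h1]
        _ = t * (a : G)⁻¹ := by group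
  have hyr' : (y : G) * (r : G) = u := congrArg Subtype.val hyr
  have hyP : (y : G) ∈ (P : Subgroup G) := (Subgroup.mem_inf.1 (Subgroup.mem_subgroupOf.1 hy)).1
  refine ⟨(r : G) * x, Subgroup.mul_mem _ (hKN r.2) hx, fun t ht => ?_, fun b hb => ?_⟩
  · have ht' : x * t * x⁻¹ ∈ T := (Subgroup.mem_normalizer_iff.1 hx t).1 ht
    have h1 := hrT r hr _ ht'
    calc (r : G) * x * t * ((r : G) * x)⁻¹ = (r : G) * (x * t * x⁻¹) * (r : G)⁻¹ := by group
      _ = x * t * x⁻¹ * (r : G) * (r : G)⁻¹ := by rw [h1]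
      _ = x * t * x⁻¹ := by group
  · have h1 : u * (x * b * x⁻¹) * u⁻¹ ∈ (P : Subgroup G) :=
      (Subgroup.mem_inf.1 (huB _ ⟨b, hb, rfl⟩)).1
    have e : (r : G) * x * b * ((r : G) * x)⁻¹ =
        (y : G)⁻¹ * ((y : G) * (r : G) * (x * b * x⁻¹) * ((y : G) * (r : G))⁻¹) * (y : G) := by group
    rw [e, hyr']
    exact Subgroup.mul_mem _ (Subgroup.mul_mem _ (Subgroup.inv_mem _ hyP) h1) hyP

theorem good_of_dec (H : Subgroup G) (𝓕 : Set (Subgroup G))
    (hstep : ∀ U ∈ 𝓕, ∀ x ∈ Subgroup.normalizer (U : Set G),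
      ∃ h ∈ H, ∀ a ∈ U, h * a * h⁻¹ = x⁻¹ * a * x) :
    ∀ (A : Set G) (g : G), Dec 𝓕 A g → ∃ h ∈ H, ∀ a ∈ A, h * a * h⁻¹ = g⁻¹ * a * g := by
  intro A g hdec
  induction hdec with
  | nil A => exact ⟨1, H.one_mem, fun a _ => by group⟩
  | cons A U x g' hU hx hA hdec ih =>
    obtain ⟨h₁, hh₁, e₁⟩ := hstep U hU x hx
    obtain ⟨h₂, hh₂, e₂⟩ := ih
    refine ⟨h₂ * h₁, H.mul_mem hh₂ hh₁, fun a ha => ?_⟩
    have h3 := e₂ (x⁻¹ * a * x) ⟨a, ha, rfl⟩
    calc h₂ * h₁ * a * (h₂ * h₁)⁻¹ = h₂ * (h₁ * a * h₁⁻¹) * h₂⁻¹ := by group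
      _ = h₂ * (x⁻¹ * a * x) * h₂⁻¹ := by rw [e₁ a (hA ha)]
      _ = g'⁻¹ * (x⁻¹ * a * x) * g' := h3
      _ = (x * g')⁻¹ * a * (x * g') := by group

/-- If the chain of `W` is strongly closed in `P`, then every `N_G(T)` (`T ≤ P` fully normalized)
acts on `T` as `N_G(W)` does. -/
theorem normalizer_ctl [Finite G] {p : ℕ} [Fact p.Prime] (P : Sylow p G) (W : Subgroup G)
    (hWP : W ≤ (P : Subgroup G)) (hPW : (P : Subgroup G) ≤ Subgroup.normalizer (W : Set G))
    (hsc : ∀ j, ∀ x ∈ wChain W j, ∀ g : G, x ∈ (P : Subgroup G) → g * x * g⁻¹ ∈ (P : Subgroup G) →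
      g * x * g⁻¹ ∈ wChain W j) :
    ∀ (d : ℕ) (T : Subgroup G), T ≤ (P : Subgroup G) →
      ¬ p ∣ ((P : Subgroup G) ⊓ Subgroup.normalizer (T : Set G)).relIndex
        (Subgroup.normalizer (T : Set G)) →
      Nat.card (P : Subgroup G) - Nat.card T = d →
      ∀ x ∈ Subgroup.normalizer (T : Set G),
        ∃ h ∈ Subgroup.normalizer (W : Set G), ∀ t ∈ T, h * t * h⁻¹ = x * t * x⁻¹ := by
  intro d
  induction d using Nat.strong_induction_on with
  | _ d ih =>
    intro T hTP hidx hd x hx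
    by_cases hWT : W ≤ T
    · refine ⟨x, ?_, fun t _ => rfl⟩
      apply Cfsg.Agent.Helper9.mem_normalizer_of_conj_le W x
      intro q hq
      have h1 : x * q * x⁻¹ ∈ T := (Subgroup.mem_normalizer_iff.1 hx q).1 (hWT hq)
      exact hsc 1 q hq x (hWP hq) (hTP h1)
    · have hTW : T ≤ Subgroup.normalizer (W : Set G) := hTP.trans hPW
      have hsupP : T ⊔ W ≤ (P : Subgroup G) := sup_le hTP hWP
      obtain ⟨n, hn, hnT, hnN⟩ := Cfsg.Agent.Helper16.exists_mem_normalizer_not_mem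
        (P.isPGroup'.to_le hsupP) (le_sup_left : T ≤ T ⊔ W) (fun h => hWT (le_sup_right.trans h))
      have hn' : n ∈ ((T ⊔ W : Subgroup G) : Set G) := hn
      rw [Subgroup.coe_mul_of_left_le_normalizer_right T W hTW] at hn'
      obtain ⟨t₀, ht₀, w, hw, rfl⟩ := Set.mem_mul.1 hn'
      have hwN : w ∈ Subgroup.normalizer (T : Set G) := by
        have e : w = t₀⁻¹ * (t₀ * w) := by group
        rw [e]; exact Subgroup.mul_mem _ (Subgroup.inv_mem _ (Subgroup.le_normalizer ht₀)) hnN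
      have hwT : w ∉ T := fun h => hnT (T.mul_mem ht₀ h)
      obtain ⟨x', hx', hx'T, hx'W⟩ := exists_ext P W T hTP hWP hPW hsc hidx x hx
      have hTsP : T ⊔ (W ⊓ Subgroup.normalizer (T : Set G)) ≤ (P : Subgroup G) :=
        sup_le hTP (inf_le_left.trans hWP)
      have hlt : Nat.card T < Nat.card (T ⊔ (W ⊓ Subgroup.normalizer (T : Set G)) : Subgroup G) := by
        have hle : T ≤ T ⊔ (W ⊓ Subgroup.normalizer (T : Set G)) := le_sup_left
        refine lt_of_le_of_ne (Subgroup.card_le_of_le hle) (fun hc => hwT ?_)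
        have h2 := Subgroup.eq_of_le_of_card_ge hle hc.ge
        rw [h2]; exact Subgroup.mem_sup_right ⟨hw, hwN⟩
      have hmap : (T ⊔ (W ⊓ Subgroup.normalizer (T : Set G))).map (MulAut.conj x').toMonoidHom ≤
          (P : Subgroup G) := by
        rw [Subgroup.map_sup]
        refine sup_le ?_ ?_
        · rintro _ ⟨t, ht, rfl⟩
          exact hTP ((Subgroup.mem_normalizer_iff.1 hx' t).1 ht)
        · rintro _ ⟨b, hb, rfl⟩
          exact hx'W b hb
      have hconj : cj x'⁻¹ ((T ⊔ (W ⊓ Subgroup.normalizer (T : Set G)) : Subgroup G) : Set G) ⊆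
          (P : Subgroup G) := by
        rw [cj_subset_iff]
        intro a ha
        rw [inv_inv]
        exact hmap ⟨a, ha, rfl⟩
      have hdec := dec_sylFam P _ _ hTsP le_rfl x'⁻¹ hconj
      have hc1 : Nat.card T ≤ Nat.card (P : Subgroup G) := Subgroup.card_le_of_le hTP
      obtain ⟨h, hh, e⟩ := good_of_dec (Subgroup.normalizer (W : Set G)) _ (fun U hU y hy => by
          obtain ⟨hUP, hUidx, hUm⟩ := hU
          have hc2 : Nat.card U ≤ Nat.card (P : Subgroup G) := Subgroup.card_le_of_le hUP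
          have hd' : Nat.card (P : Subgroup G) - Nat.card U < d := by omega
          obtain ⟨h, hh, e⟩ := ih _ hd' U hUP hUidx rfl y⁻¹ (Subgroup.inv_mem _ hy)
          exact ⟨h, hh, fun a ha => by rw [e a ha, inv_inv]⟩) _ _ hdec
      refine ⟨h, hh, fun t ht => ?_⟩
      rw [e t (Subgroup.mem_sup_left ht), inv_inv, hx'T t ht]

/-- A subgroup `W ⊴ P` whose lower central chain is strongly closed in `P` with respect to `G`
has normalizer controlling strong fusion in `P`. -/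
theorem ctl_of_strongly_closed_chain [Finite G] {p : ℕ} [Fact p.Prime] (P : Sylow p G)
    (W : Subgroup G) (hWP : W ≤ (P : Subgroup G))
    (hPW : (P : Subgroup G) ≤ Subgroup.normalizer (W : Set G))
    (hsc : ∀ j, ∀ x ∈ wChain W j, ∀ g : G, x ∈ (P : Subgroup G) → g * x * g⁻¹ ∈ (P : Subgroup G) →
      g * x * g⁻¹ ∈ wChain W j)
    (A : Subgroup G) (hA : A ≤ (P : Subgroup G)) (g : G)
    (hg : A.map (MulAut.conj g).toMonoidHom ≤ (P : Subgroup G)) :
    ∃ h ∈ Subgroup.normalizer (W : Set G), ∃ c ∈ Subgroup.centralizer (A : Set G), g = h * c := by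
  have hdec := dec_sylFam_set P (A : Set G) g⁻¹ (SetLike.coe_subset_coe.2 hA) (by
    rw [← coe_map_conj]; exact SetLike.coe_subset_coe.2 hg)
  obtain ⟨h, hh, e⟩ := good_of_dec (Subgroup.normalizer (W : Set G)) _ (fun U hU y hy => by
      obtain ⟨hUP, hUidx, -⟩ := hU
      obtain ⟨h, hh, e⟩ := normalizer_ctl P W hWP hPW hsc _ U hUP hUidx rfl y⁻¹
        (Subgroup.inv_mem _ hy)
      exact ⟨h, hh, fun a ha => by rw [e a ha, inv_inv]⟩) _ _ hdec
  refine ⟨h, hh, h⁻¹ * g, ?_, by group⟩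
  rw [Subgroup.mem_centralizer_iff]
  intro a ha
  have h1 := e a ha
  rw [inv_inv] at h1
  calc a * (h⁻¹ * g) = h⁻¹ * (h * a * h⁻¹) * g := by group
    _ = h⁻¹ * (g * a * g⁻¹) * g := by rw [h1]
    _ = h⁻¹ * g * a := by group

end Cfsg.Agent.Helper10
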