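import Mathlib
import Cfsg.Prelude.Def_ConjugacyFunctors
import Cfsg.Agent.Helper10.FusionCtl
import Cfsg.Agent.Helper10.FamFusion
import Cfsg.Agent.Helper10.NormCtl
import Cfsg.Agent.Helper10.ConjFam2

/-!
# Climbing well-placed towers with an admissibility predicate; `p`-centric refinement

* `climbP`: the tower-climbing argument when the local control hypothesis is only available for
  "admissible" well-placed subgroups (the predicate `Φ` must be preserved by the tower step).
* `ctl_of_centric_wp`: to realise all fusion in a Sylow `p`-subgroup `S` inside a subgroup `H` it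
  suffices to realise in `H` the action of `N_G(U)` on `U` for the well-placed `U ≥ Z(S)`.
-/

set_option autoImplicit false

namespace Cfsg.Agent.Helper10

variable {G : Type*} [Group G]

/-- Climbing the tower, with an admissibility predicate `Φ` on the well-placed subgroups. -/
theorem climbP [Finite G] {p : ℕ} [Fact p.Prime] (S : Sylow p G)
    (W : Subgroup G → Subgroup G) (hW : Cfsg.IsConjugacyFunctor p W) (Φ : Subgroup G → Prop)
    (hΦ : ∀ T : Subgroup G, Φ T → Cfsg.IsWellPlaced p W (S : Subgroup G) T →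
      Φ (W ((S : Subgroup G) ⊓ Subgroup.normalizer (T : Set G))))
    (hloc : ∀ T : Subgroup G, Φ T → Cfsg.IsWellPlaced p W (S : Subgroup G) T →
      ∀ (A : Set G) (h : G), h ∈ Subgroup.normalizer (T : Set G) →
        A ⊆ ((S : Subgroup G) ⊓ Subgroup.normalizer (T : Set G) : Subgroup G) →
        lc h A ⊆ ((S : Subgroup G) ⊓ Subgroup.normalizer (T : Set G) : Subgroup G) →
        ∃ x ∈ Subgroup.normalizer
            ((W ((S : Subgroup G) ⊓ Subgroup.normalizer (T : Set G)) : Subgroup G) : Set G),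
          ∀ a ∈ A, x * a * x⁻¹ = h * a * h⁻¹) :
    ∀ (d : ℕ) (T : Subgroup G), Φ T → Cfsg.IsWellPlaced p W (S : Subgroup G) T →
      Nat.card (S : Subgroup G) - Nat.card ((S : Subgroup G) ⊓ Subgroup.normalizer (T : Set G) :
        Subgroup G) = d →
      ∀ (A : Set G) (h : G), h ∈ Subgroup.normalizer (T : Set G) →
        A ⊆ ((S : Subgroup G) ⊓ Subgroup.normalizer (T : Set G) : Subgroup G) →
        lc h A ⊆ ((S : Subgroup G) ⊓ Subgroup.normalizer (T : Set G) : Subgroup G) →
        ∃ x ∈ Subgroup.normalizer ((W (S : Subgroup G) : Subgroup G) : Set G),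
          ∀ a ∈ A, x * a * x⁻¹ = h * a * h⁻¹ := by
  intro d
  induction d using Nat.strong_induction_on with
  | _ d ih =>
    intro T hT hwp hd A h hh hA hAh
    obtain ⟨x₁, hx₁, hx₁A⟩ := hloc T hT hwp A h hh hA hAh
    by_cases hN : (S : Subgroup G) ≤ Subgroup.normalizer (T : Set G)
    · rw [inf_eq_left.2 hN] at hx₁
      exact ⟨x₁, hx₁, hx₁A⟩
    · obtain ⟨hle2, hlt⟩ := tower_growth S W hW T hN
      have hwp₁ := isWellPlaced_tower_one W (S : Subgroup G) T hW S.isPGroup' hwp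
      have hcard2 : Nat.card ((S : Subgroup G) ⊓ Subgroup.normalizer ((W ((S : Subgroup G) ⊓
          Subgroup.normalizer (T : Set G)) : Subgroup G) : Set G) : Subgroup G) ≤
          Nat.card (S : Subgroup G) := Subgroup.card_le_of_le inf_le_left
      have hd' : Nat.card (S : Subgroup G) - Nat.card ((S : Subgroup G) ⊓ Subgroup.normalizer
          ((W ((S : Subgroup G) ⊓ Subgroup.normalizer (T : Set G)) : Subgroup G) : Set G) :
          Subgroup G) < d := by omega
      obtain ⟨x, hx, hxA⟩ := ih _ hd' _ (hΦ T hT hwp) hwp₁ rfl A x₁ hx₁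
        (hA.trans (SetLike.coe_subset_coe.2 hle2)) (by
          rintro _ ⟨a, ha, rfl⟩
          show x₁ * a * x₁⁻¹ ∈ _
          rw [hx₁A a ha]
          exact hle2 (hAh ⟨a, ha, rfl⟩))
      exact ⟨x, hx, fun a ha => (hxA a ha).trans (hx₁A a ha)⟩

section Centric

variable [Finite G] {p : ℕ} [Fact p.Prime]

/-- `N_G(T) ≤ N_G(C_G(T))`. -/
theorem normalizer_le_normalizer_centralizer' (T : Subgroup G) :
    Subgroup.normalizer (T : Set G) ≤
      Subgroup.normalizer ((Subgroup.centralizer (T : Set G) : Subgroup G) : Set G) := by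
  intro x hx
  apply Helper9.mem_normalizer_of_conj_le
  intro q hq
  rw [Subgroup.mem_centralizer_iff] at hq ⊢
  intro t ht
  have ht' : x⁻¹ * t * x ∈ T := by
    have := (Subgroup.mem_normalizer_iff.mp (Subgroup.inv_mem _ hx) t).mp ht
    simpa using this
  have h2 := hq _ ht'
  calc t * (x * q * x⁻¹) = x * ((x⁻¹ * t * x) * q) * x⁻¹ := by group
    _ = x * (q * (x⁻¹ * t * x)) * x⁻¹ := by rw [h2]
    _ = x * q * x⁻¹ * t := by group

/-- `C_S(T)` has index prime to `p` in `C_G(T)` when `N_S(T)` has index prime to `p` in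
`N_G(T)`. -/
theorem cent_not_dvd (S : Sylow p G) (T : Subgroup G)
    (hidx : ¬ p ∣ ((S : Subgroup G) ⊓ Subgroup.normalizer (T : Set G)).relIndex
      (Subgroup.normalizer (T : Set G))) :
    ¬ p ∣ ((S : Subgroup G) ⊓ Subgroup.centralizer (T : Set G)).relIndex
      (Subgroup.centralizer (T : Set G)) := by
  have h1 := not_dvd_relIndex_of_normal_in (Subgroup.normalizer (T : Set G))
    ((S : Subgroup G) ⊓ Subgroup.normalizer (T : Set G)) (Subgroup.centralizer (T : Set G))
    (Subgroup.centralizer_le_normalizer _) (normalizer_le_normalizer_centralizer' T) hidx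
  have e : ((S : Subgroup G) ⊓ Subgroup.centralizer (T : Set G)) =
      ((S : Subgroup G) ⊓ Subgroup.normalizer (T : Set G)) ⊓
        Subgroup.centralizer (T : Set G) := by
    rw [inf_assoc, inf_eq_right.mpr (Subgroup.centralizer_le_normalizer _)]
  rw [e, Subgroup.inf_relIndex_right]
  exact h1

/-- Frattini: an element of `N_G(T)` is, modulo `C_G(T)`, an element normalizing `C_S(T)`. -/
theorem exists_cent_mul_normalizer (S : Sylow p G) (T : Subgroup G)
    (hidx : ¬ p ∣ ((S : Subgroup G) ⊓ Subgroup.normalizer (T : Set G)).relIndex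
      (Subgroup.normalizer (T : Set G)))
    (x : G) (hx : x ∈ Subgroup.normalizer (T : Set G)) :
    ∃ c ∈ Subgroup.centralizer (T : Set G),
      c * x ∈ Subgroup.normalizer
        (((S : Subgroup G) ⊓ Subgroup.centralizer (T : Set G) : Subgroup G) : Set G) := by
  have hxC := normalizer_le_normalizer_centralizer' T hx
  have hQp : IsPGroup p (((S : Subgroup G) ⊓ Subgroup.centralizer (T : Set G)).map
      (MulAut.conj x).toMonoidHom) := (S.isPGroup'.to_le inf_le_left).map _
  have hQC : ((S : Subgroup G) ⊓ Subgroup.centralizer (T : Set G)).map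
      (MulAut.conj x).toMonoidHom ≤ Subgroup.centralizer (T : Set G) := by
    rintro _ ⟨y, hy, rfl⟩
    exact (Subgroup.mem_normalizer_iff.mp hxC y).mp hy.2
  obtain ⟨c, hc, hcQ⟩ := exists_conj_into_of_relIndex (Subgroup.centralizer (T : Set G))
    ((S : Subgroup G) ⊓ Subgroup.centralizer (T : Set G)) (S.isPGroup'.to_le inf_le_left)
    (cent_not_dvd S T hidx) _ hQp hQC
  refine ⟨c, hc, ?_⟩
  apply Helper9.mem_normalizer_of_conj_le
  intro q hq
  have h1 := hcQ (x * q * x⁻¹) ⟨q, hq, rfl⟩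
  have e : c * x * q * (c * x)⁻¹ = c * (x * q * x⁻¹) * c⁻¹ := by group
  rw [e]; exact h1

/-- `p`-elements centralizing `T C_S(T)` lie in `C_S(T)`, for `T` fully normalized. -/
theorem mem_of_centralizes_sup (S : Sylow p G) (T : Subgroup G)
    (hidx : ¬ p ∣ ((S : Subgroup G) ⊓ Subgroup.normalizer (T : Set G)).relIndex
      (Subgroup.normalizer (T : Set G)))
    (z : G) (hzp : IsPGroup p (Subgroup.zpowers z))
    (hz : ∀ a ∈ T ⊔ ((S : Subgroup G) ⊓ Subgroup.centralizer (T : Set G)), a * z = z * a) :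
    z ∈ (S : Subgroup G) ⊓ Subgroup.centralizer (T : Set G) := by
  have hzC : z ∈ Subgroup.centralizer (T : Set G) := by
    rw [Subgroup.mem_centralizer_iff]
    intro t ht
    exact hz t (Subgroup.mem_sup_left ht)
  have hzN : Subgroup.zpowers z ≤ Subgroup.normalizer
      (((S : Subgroup G) ⊓ Subgroup.centralizer (T : Set G) : Subgroup G) : Set G) := by
    rw [Subgroup.zpowers_le]
    apply Subgroup.centralizer_le_normalizer
    rw [Subgroup.mem_centralizer_iff]
    intro a ha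
    exact hz a (Subgroup.mem_sup_right ha)
  have hRp : IsPGroup p (Subgroup.zpowers z ⊔
      ((S : Subgroup G) ⊓ Subgroup.centralizer (T : Set G)) : Subgroup G) :=
    IsPGroup.to_sup_of_normal_right' hzp (S.isPGroup'.to_le inf_le_left) hzN
  have hRC : Subgroup.zpowers z ⊔ ((S : Subgroup G) ⊓ Subgroup.centralizer (T : Set G)) ≤
      Subgroup.centralizer (T : Set G) :=
    sup_le ((Subgroup.zpowers_le).mpr hzC) inf_le_right
  have h1 := le_of_isPGroup_of_not_dvd_relIndex hRp le_sup_right hRC (cent_not_dvd S T hidx)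
  exact h1 (Subgroup.mem_sup_left (Subgroup.mem_zpowers z))

/-- Every conjugate of `T C_S(T)` inside `S` contains `Z(S)`. -/
theorem center_subset_cj_sup (S : Sylow p G) (T : Subgroup G)
    (hidx : ¬ p ∣ ((S : Subgroup G) ⊓ Subgroup.normalizer (T : Set G)).relIndex
      (Subgroup.normalizer (T : Set G)))
    (h : G) (hh : cj h ((T ⊔ ((S : Subgroup G) ⊓ Subgroup.centralizer (T : Set G)) :
      Subgroup G) : Set G) ⊆ ((S : Subgroup G) : Set G)) :
    (((S : Subgroup G) ⊓ Subgroup.centralizer ((S : Subgroup G) : Set G) : Subgroup G) : Set G) ⊆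
      cj h ((T ⊔ ((S : Subgroup G) ⊓ Subgroup.centralizer (T : Set G)) : Subgroup G) : Set G) := by
  intro z hz
  rw [mem_cj_iff]
  have hzS : z ∈ (S : Subgroup G) := hz.1
  have hzc : ∀ s ∈ (S : Subgroup G), s * z = z * s := fun s hs =>
    Subgroup.mem_centralizer_iff.mp hz.2 s hs
  have hp1 : IsPGroup p (Subgroup.zpowers (h * z * h⁻¹)) := by
    have e : Subgroup.zpowers (h * z * h⁻¹) =
        (Subgroup.zpowers z).map (MulAut.conj h).toMonoidHom := by
      rw [MonoidHom.map_zpowers]; rfl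
    rw [e]
    exact (S.isPGroup'.to_le ((Subgroup.zpowers_le).mpr hzS)).map _
  have h1 := mem_of_centralizes_sup S T hidx (h * z * h⁻¹) hp1 (by
    intro a ha
    have h2 : h⁻¹ * a * h ∈ (S : Subgroup G) := hh ⟨a, ha, rfl⟩
    have h3 := hzc _ h2
    calc a * (h * z * h⁻¹) = h * ((h⁻¹ * a * h) * z) * h⁻¹ := by group
      _ = h * (z * (h⁻¹ * a * h)) * h⁻¹ := by rw [h3]
      _ = h * z * h⁻¹ * a := by group)
  exact Subgroup.mem_sup_right h1

/-- Realising a decomposable conjugation in `H`, when all successive conjugates contain `Z(S)`. -/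
theorem dec_real_center (S : Sylow p G) (𝓕 : Set (Subgroup G))
    (h𝓕 : ∀ U ∈ 𝓕, U ≤ (S : Subgroup G)) (H : Subgroup G)
    (hstep : ∀ U ∈ 𝓕, (S : Subgroup G) ⊓ Subgroup.centralizer ((S : Subgroup G) : Set G) ≤ U →
      ∀ x ∈ Subgroup.normalizer (U : Set G), ∃ n ∈ H, ∀ u ∈ U, n * u * n⁻¹ = x * u * x⁻¹) :
    ∀ (A : Set G) (g : G), Dec 𝓕 A g →
      (∀ h : G, cj h A ⊆ ((S : Subgroup G) : Set G) →
        (((S : Subgroup G) ⊓ Subgroup.centralizer ((S : Subgroup G) : Set G) : Subgroup G) :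
          Set G) ⊆ cj h A) →
      ∃ n ∈ H, ∀ a ∈ A, n * a * n⁻¹ = g⁻¹ * a * g := by
  intro A g hdec
  induction hdec with
  | nil A => intro _; exact ⟨1, H.one_mem, fun a _ => by group⟩
  | cons A U x g' hU hx hA hdec ih =>
    intro hinv
    have hUS := h𝓕 U hU
    have hZU : (S : Subgroup G) ⊓ Subgroup.centralizer ((S : Subgroup G) : Set G) ≤ U := by
      intro z hz
      have h1 := hinv 1 (by rw [cj_one]; exact fun a ha => hUS (hA ha)) hz
      rw [cj_one] at h1
      exact hA h1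
    obtain ⟨n₁, hn₁, e₁⟩ := hstep U hU hZU x⁻¹ (Subgroup.inv_mem _ hx)
    obtain ⟨n₂, hn₂, e₂⟩ := ih (by
      intro h hh
      rw [cj_cj] at hh ⊢
      exact hinv _ hh)
    refine ⟨n₂ * n₁, H.mul_mem hn₂ hn₁, fun a ha => ?_⟩
    have h3 := e₂ (x⁻¹ * a * x) ⟨a, ha, rfl⟩
    have h4 := e₁ a (hA ha)
    rw [inv_inv] at h4
    calc n₂ * n₁ * a * (n₂ * n₁)⁻¹ = n₂ * (n₁ * a * n₁⁻¹) * n₂⁻¹ := by group
      _ = n₂ * (x⁻¹ * a * x) * n₂⁻¹ := by rw [h4]
      _ = g'⁻¹ * (x⁻¹ * a * x) * g' := h3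
      _ = (x * g')⁻¹ * a * (x * g') := by group

/-- **Centric reduction.**  Let `𝓕` be a conjugation family in `S` (in Glauberman's form).  If the
action of `N_G(U)` on `U` is realised in `H` for every `U ∈ 𝓕` containing `Z(S)`, then the
action of `N_G(T)` on `T` is realised in `H` for every fully normalized `T ≤ S`. -/
theorem step_of_centric (S : Sylow p G) (𝓕 : Set (Subgroup G))
    (h𝓕 : ∀ U ∈ 𝓕, U ≤ (S : Subgroup G))
    (hfam : ∀ (A : Set G) (g : G), A ⊆ ((S : Subgroup G) : Set G) →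
      cj g A ⊆ ((S : Subgroup G) : Set G) → Dec 𝓕 A g)
    (H : Subgroup G)
    (hstep : ∀ U ∈ 𝓕, (S : Subgroup G) ⊓ Subgroup.centralizer ((S : Subgroup G) : Set G) ≤ U →
      ∀ x ∈ Subgroup.normalizer (U : Set G), ∃ n ∈ H, ∀ u ∈ U, n * u * n⁻¹ = x * u * x⁻¹)
    (T : Subgroup G) (hTS : T ≤ (S : Subgroup G))
    (hidx : ¬ p ∣ ((S : Subgroup G) ⊓ Subgroup.normalizer (T : Set G)).relIndex
      (Subgroup.normalizer (T : Set G)))
    (x : G) (hx : x ∈ Subgroup.normalizer (T : Set G)) :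
    ∃ n ∈ H, ∀ t ∈ T, n * t * n⁻¹ = x * t * x⁻¹ := by
  obtain ⟨c, hc, hcx⟩ := exists_cent_mul_normalizer S T hidx x hx
  have hcxT : c * x ∈ Subgroup.normalizer (T : Set G) :=
    Subgroup.mul_mem _ (Subgroup.centralizer_le_normalizer _ hc) hx
  obtain ⟨Tp, hTp⟩ : ∃ Tp : Subgroup G,
      Tp = T ⊔ ((S : Subgroup G) ⊓ Subgroup.centralizer (T : Set G)) := ⟨_, rfl⟩
  have hTpS : Tp ≤ (S : Subgroup G) := by rw [hTp]; exact sup_le hTS inf_le_left
  have hN : c * x ∈ Subgroup.normalizer (Tp : Set G) := by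
    apply Cfsg.Agent.Helper16.mem_normalizer_of_map_conj_eq
    rw [hTp, Subgroup.map_sup, Cfsg.Agent.Helper16.map_conj_eq_of_mem_normalizer hcxT,
      Cfsg.Agent.Helper16.map_conj_eq_of_mem_normalizer hcx]
  have hcj : cj (c * x)⁻¹ (Tp : Set G) ⊆ ((S : Subgroup G) : Set G) := by
    rw [cj_subset_iff]
    intro a ha
    rw [inv_inv]
    exact hTpS ((Subgroup.mem_normalizer_iff.mp hN a).mp ha)
  have hdec := hfam (Tp : Set G) (c * x)⁻¹ hTpS hcj
  obtain ⟨n, hn, e⟩ := dec_real_center S 𝓕 h𝓕 H hstep _ _ hdec (by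
    intro h hh
    rw [hTp] at hh ⊢
    exact center_subset_cj_sup S T hidx h hh)
  refine ⟨n, hn, fun t ht => ?_⟩
  have h1 := e t (by rw [hTp]; exact Subgroup.mem_sup_left ht)
  rw [inv_inv] at h1
  rw [h1]
  have h2 : x * t * x⁻¹ ∈ T := (Subgroup.mem_normalizer_iff.mp hx t).mp ht
  have h3 := Subgroup.mem_centralizer_iff.mp hc _ h2
  calc c * x * t * (c * x)⁻¹ = c * (x * t * x⁻¹) * c⁻¹ := by group
    _ = (x * t * x⁻¹) * c * c⁻¹ := by rw [← h3]
    _ = x * t * x⁻¹ := by group

/-- **Local-to-global through well-placed subgroups containing `Z(S)`**: if the action of `N_G(U)`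
on `U` is realised in `H` for every well-placed `U ≥ Z(S)`, then all fusion in `S` is realised
in `H`. -/
theorem ctl_of_centric_wp (S : Sylow p G) (W : Subgroup G → Subgroup G)
    (hW : Cfsg.IsConjugacyFunctor p W) (H : Subgroup G)
    (hstep : ∀ U : Subgroup G, Cfsg.IsWellPlaced p W (S : Subgroup G) U →
      (S : Subgroup G) ⊓ Subgroup.centralizer ((S : Subgroup G) : Set G) ≤ U →
      ∀ x ∈ Subgroup.normalizer (U : Set G), ∃ n ∈ H, ∀ u ∈ U, n * u * n⁻¹ = x * u * x⁻¹)
    (A : Set G) (g : G) (hA : A ⊆ ((S : Subgroup G) : Set G))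
    (hg : lc g A ⊆ ((S : Subgroup G) : Set G)) :
    ∃ n ∈ H, ∀ a ∈ A, n * a * n⁻¹ = g * a * g⁻¹ := by
  have hfam : ∀ (A : Set G) (g : G), A ⊆ ((S : Subgroup G) : Set G) →
      cj g A ⊆ ((S : Subgroup G) : Set G) →
      Dec {T : Subgroup G | Cfsg.IsWellPlaced p W (S : Subgroup G) T} A g :=
    isConjugationFamily_of_hyp S {T : Subgroup G | Cfsg.IsWellPlaced p W (S : Subgroup G) T}
      (fun U hU => hU.1) (fun T hT => by
        obtain ⟨h, hwp, -⟩ := exists_wellPlaced_conj S W hW _ T hT rfl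
        exact ⟨_, hwp, ⟨h, rfl⟩, hwp.2 0⟩)
  have hdec := hfam A g⁻¹ hA (by
    rw [cj_subset_iff]
    intro a ha
    rw [inv_inv]
    exact hg ⟨a, ha, rfl⟩)
  obtain ⟨n, hn, e⟩ := good_of_dec H {T : Subgroup G | Cfsg.IsWellPlaced p W (S : Subgroup G) T}
    (fun U hU y hy => by
      obtain ⟨n, hn, e⟩ := step_of_centric S _ (fun U hU => hU.1) hfam H
        (fun U hU hZ x hx => hstep U hU hZ x hx) U hU.1 (hU.2 0) y⁻¹ (Subgroup.inv_mem _ hy)
      exact ⟨n, hn, fun a ha => by rw [e a ha, inv_inv]⟩) A g⁻¹ hdec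
  exact ⟨n, hn, fun a ha => by rw [e a ha, inv_inv]⟩

end Centric

end Cfsg.Agent.Helper10
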