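import Mathlib

/-!
Helper library (helper10): counting maximal subgroups of a finite `p`-group.
A nonempty "line-closed" set of index-`p` subgroups has cardinality `≡ 1 mod p`.
-/

set_option autoImplicit false

namespace Cfsg.Agent.Helper10.KJ

open Subgroup

variable {P : Type*} [Group P] [Finite P] {p : ℕ} [hp : Fact p.Prime]

theorem normal_of_index (hP : IsPGroup p P) {M : Subgroup P} (hM : M.index = p) : M.Normal := by
  obtain ⟨n, hn⟩ := IsPGroup.iff_card.1 hP
  have hn0 : n ≠ 0 := by
    rintro rfl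
    have := M.index_dvd_card
    rw [hM, hn, pow_zero] at this
    exact hp.out.one_lt.ne' (Nat.dvd_one.1 this)
  apply Subgroup.normal_of_index_eq_minFac_card
  rw [hM, hn, Nat.pow_minFac hn0, hp.out.minFac_eq]

theorem eq_of_le_of_index {H K : Subgroup P} (hle : H ≤ K) (h : K.index = H.index) : H = K := by
  apply Subgroup.eq_of_le_of_card_ge hle
  have h1 := H.card_mul_index
  have h2 := K.card_mul_index
  rw [h] at h2
  have h0 : H.index ≠ 0 := Subgroup.index_ne_zero_of_finite
  have : Nat.card K = Nat.card H :=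
    Nat.eq_of_mul_eq_mul_right (Nat.pos_of_ne_zero h0) (h2.trans h1.symm)
  exact this.le

theorem card_mul_relIndex' {H K : Subgroup P} (h : H ≤ K) :
    Nat.card H * H.relIndex K = Nat.card K := by
  have := (H.subgroupOf K).card_mul_index
  rwa [Nat.card_congr (Subgroup.subgroupOfEquivOfLe h).toEquiv] at this

/-- a subgroup properly containing an index-`p` subgroup is everything -/
theorem eq_top_of_lt {M K : Subgroup P} (hM : M.index = p) (hlt : M < K) : K = ⊤ := by
  have h1 : K.index ∣ p := hM ▸ Subgroup.index_dvd_of_le hlt.le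
  rcases (Nat.dvd_prime hp.out).1 h1 with h | h
  · exact Subgroup.index_eq_one.1 h
  · exact absurd (eq_of_le_of_index hlt.le (h.trans hM.symm)) hlt.ne

theorem sup_eq_top_of_not_le {M H : Subgroup P} (hM : M.index = p) (h : ¬ H ≤ M) :
    H ⊔ M = ⊤ := by
  apply eq_top_of_lt hM
  refine lt_of_le_of_ne le_sup_right ?_
  intro he
  exact h (he ▸ le_sup_left)

theorem card_inf (hP : IsPGroup p P) {M M' : Subgroup P} (hM : M.index = p)
    (hM' : M'.index = p) (hne : M ≠ M') : p * p * Nat.card ↥(M ⊓ M') = Nat.card P := by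
  have hn' : M'.Normal := normal_of_index hP hM'
  have hnle : ¬ M ≤ M' := by
    intro hle
    exact hne (eq_of_le_of_index hle (hM'.trans hM.symm))
  have hs := sup_eq_top_of_not_le hM' hnle
  have h1 : M'.relIndex M = p := by
    rw [← Subgroup.relIndex_sup_right, hs, Subgroup.relIndex_top_right, hM']
  have h2 : (M ⊓ M').relIndex M = p := by rw [Subgroup.inf_relIndex_left]; exact h1
  have h3 := card_mul_relIndex' (inf_le_left : M ⊓ M' ≤ M)
  rw [h2] at h3
  have h4 := M.card_mul_index
  rw [hM] at h4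
  rw [← h4, ← h3]; ring

theorem card_filter_mem [Fintype P] (H : Subgroup P) [DecidablePred (· ∈ H)] :
    (Finset.univ.filter (fun g => g ∈ H)).card = Nat.card H := by
  rw [Nat.card_eq_fintype_card, Fintype.card_subtype]

theorem card_filter_diff [Fintype P] {D M : Subgroup P} (h : D ≤ M)
    [DecidablePred (· ∈ D)] [DecidablePred (· ∈ M)] :
    (Finset.univ.filter (fun g => g ∈ M ∧ g ∉ D)).card = Nat.card M - Nat.card D := by
  classical
  have : Finset.univ.filter (fun g => g ∈ M ∧ g ∉ D)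
      = Finset.univ.filter (fun g => g ∈ M) \ Finset.univ.filter (fun g => g ∈ D) := by
    ext g; simp
  rw [this, Finset.card_sdiff_of_subset, card_filter_mem, card_filter_mem]
  intro g hg
  simp only [Finset.mem_filter, Finset.mem_univ, true_and] at hg ⊢
  exact h hg

/-- The pencil through two distinct maximal subgroups has `p + 1` members. -/
theorem pencil_card (hP : IsPGroup p P) {M₁ M₂ : Subgroup P} (h1 : M₁.index = p)
    (h2 : M₂.index = p) (hne : M₁ ≠ M₂) (𝔏 : Finset (Subgroup P))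
    (h𝔏 : ∀ M, M ∈ 𝔏 ↔ M.index = p ∧ M₁ ⊓ M₂ ≤ M) : 𝔏.card = p + 1 := by
  classical
  haveI : Fintype P := Fintype.ofFinite P
  have hcard0 := card_inf hP h1 h2 hne
  have hn1 := normal_of_index hP h1
  have hn2 := normal_of_index hP h2
  obtain ⟨D, hD⟩ : ∃ D, D = M₁ ⊓ M₂ := ⟨_, rfl⟩
  have hDn : D.Normal := hD ▸ inferInstance
  have hcard : p * p * Nat.card D = Nat.card P := hD ▸ hcard0
  have hpow : ∀ g : P, g ^ p ∈ D := by
    intro g; rw [hD]
    exact ⟨h1 ▸ M₁.pow_index_mem g, h2 ▸ M₂.pow_index_mem g⟩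
  have hdpos : 0 < Nat.card D := Nat.card_pos
  have hDidx : D.index = p * p := by
    have := D.card_mul_index
    rw [← hcard, mul_comm] at this
    exact Nat.eq_of_mul_eq_mul_right hdpos this
  -- key: for g ∉ D, D ⊔ zpowers g has index p
  have key : ∀ g : P, g ∉ D → (D ⊔ zpowers g).index = p := by
    intro g hg
    have hq1 : (QuotientGroup.mk' D g) ≠ 1 := by
      intro h; exact hg ((QuotientGroup.eq_one_iff g).1 h)
    have hq2 : (QuotientGroup.mk' D g) ^ p = 1 := by
      rw [← map_pow]; exact (QuotientGroup.eq_one_iff _).2 (hpow g)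
    have ho : orderOf (QuotientGroup.mk' D g) = p := orderOf_eq_prime hq2 hq1
    have hc : Nat.card (zpowers (QuotientGroup.mk' D g)) = p := by rw [Nat.card_zpowers, ho]
    have hi : (zpowers (QuotientGroup.mk' D g)).index = p := by
      have := (zpowers (QuotientGroup.mk' D g)).card_mul_index
      rw [hc, ← Subgroup.index_eq_card, hDidx] at this
      exact Nat.eq_of_mul_eq_mul_left hp.out.pos this
    have he : D ⊔ zpowers g = (zpowers (QuotientGroup.mk' D g)).comap (QuotientGroup.mk' D) := by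
      rw [← MonoidHom.map_zpowers, Subgroup.comap_map_eq, QuotientGroup.ker_mk', sup_comm]
    rw [he, Subgroup.index_comap_of_surjective _ (QuotientGroup.mk'_surjective D), hi]
  have key2 : ∀ M : Subgroup P, M.index = p → D ≤ M → ∀ g ∈ M, g ∉ D → D ⊔ zpowers g = M := by
    intro M hM hDM g hgM hgD
    exact eq_of_le_of_index (sup_le hDM (by simpa using hgM)) (by rw [hM, key g hgD])
  have hX : (Finset.univ.filter (fun g : P => g ∉ D)).card = p * p * Nat.card D - Nat.card D := by
    have h := Finset.card_filter_add_card_filter_not (s := (Finset.univ : Finset P))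
      (fun g => g ∈ D)
    rw [card_filter_mem, Finset.card_univ, ← Nat.card_eq_fintype_card, ← hcard] at h
    omega
  have hfib : ∀ M ∈ 𝔏, ((Finset.univ.filter (fun g : P => g ∉ D)).filter
      (fun g => D ⊔ zpowers g = M)).card = p * Nat.card D - Nat.card D := by
    intro M hM
    obtain ⟨hMi, hDM⟩ := (h𝔏 M).1 hM
    rw [← hD] at hDM
    have hMc : Nat.card M = p * Nat.card D := by
      have := M.card_mul_index
      rw [hMi, ← hcard] at this
      have h' : Nat.card M * p = (p * Nat.card D) * p := by rw [this]; ring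
      exact Nat.eq_of_mul_eq_mul_right hp.out.pos h'
    rw [← hMc, ← card_filter_diff hDM]
    congr 1
    ext g
    simp only [Finset.mem_filter, Finset.mem_univ, true_and]
    constructor
    · rintro ⟨hg, he⟩
      refine ⟨?_, hg⟩
      rw [← he]; exact (le_sup_right : zpowers g ≤ D ⊔ zpowers g) (mem_zpowers g)
    · rintro ⟨hgM, hgD⟩
      exact ⟨hgD, key2 M hMi hDM g hgM hgD⟩
  have hsum := Finset.card_eq_sum_card_fiberwise (f := fun g => D ⊔ zpowers g)
    (s := Finset.univ.filter (fun g : P => g ∉ D)) (t := 𝔏) (fun g hg => by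
      have hg' : g ∉ D := by simpa using hg
      exact (h𝔏 _).2 ⟨key g hg', hD ▸ le_sup_left⟩)
  rw [Finset.sum_congr rfl hfib, Finset.sum_const, smul_eq_mul, hX] at hsum
  obtain ⟨q, rfl⟩ : ∃ q, p = q + 1 := ⟨p - 1, (Nat.succ_pred_eq_of_pos hp.out.pos).symm⟩
  have hq : 0 < q := by have := hp.out.one_lt; omega
  have e1 : (q + 1) * (q + 1) * Nat.card D - Nat.card D = (q + 2) * (q * Nat.card D) := by
    have : (q + 1) * (q + 1) * Nat.card D = (q + 2) * (q * Nat.card D) + Nat.card D := by ring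
    omega
  have e2 : (q + 1) * Nat.card D - Nat.card D = q * Nat.card D := by
    have : (q + 1) * Nat.card D = q * Nat.card D + Nat.card D := by ring
    omega
  rw [e1, e2] at hsum
  have := Nat.eq_of_mul_eq_mul_right (Nat.mul_pos hq hdpos) hsum
  omega

/-- A nonempty line-closed set of maximal subgroups has cardinality `≡ 1 mod p`. -/
theorem line_closed_card (hP : IsPGroup p P) (𝓜 : Finset (Subgroup P)) (hne : 𝓜.Nonempty)
    (hidx : ∀ M ∈ 𝓜, M.index = p)
    (hline : ∀ M₁ ∈ 𝓜, ∀ M₂ ∈ 𝓜, M₁ ≠ M₂ → ∀ M : Subgroup P, M.index = p →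
      M₁ ⊓ M₂ ≤ M → M ∈ 𝓜) :
    𝓜.card ≡ 1 [MOD p] := by
  classical
  obtain ⟨M₁, hM₁⟩ := hne
  have h1 := hidx M₁ hM₁
  have hsum := Finset.card_eq_sum_card_image (fun M => M ⊓ M₁) (𝓜.erase M₁)
  have hfib : ∀ D ∈ (𝓜.erase M₁).image (fun M => M ⊓ M₁),
      ((𝓜.erase M₁).filter (fun M => M ⊓ M₁ = D)).card = p := by
    intro D hD
    obtain ⟨M₂, hM₂, rfl⟩ := Finset.mem_image.1 hD
    obtain ⟨hne2, hM₂'⟩ := Finset.mem_erase.1 hM₂
    have h2 := hidx M₂ hM₂'
    have hpen := pencil_card hP h2 h1 hne2 (𝓜.filter (fun M => M₂ ⊓ M₁ ≤ M)) (by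
      intro M
      rw [Finset.mem_filter]
      constructor
      · rintro ⟨hM, hle⟩; exact ⟨hidx M hM, hle⟩
      · rintro ⟨hM, hle⟩; exact ⟨hline M₂ hM₂' M₁ hM₁ hne2 M hM hle, hle⟩)
    have heq : (𝓜.erase M₁).filter (fun M => M ⊓ M₁ = M₂ ⊓ M₁)
        = (𝓜.filter (fun M => M₂ ⊓ M₁ ≤ M)).erase M₁ := by
      ext M
      simp only [Finset.mem_filter, Finset.mem_erase]
      constructor
      · rintro ⟨⟨hne, hM⟩, he⟩; exact ⟨hne, hM, he ▸ inf_le_left⟩
      · rintro ⟨hne, hM, hle⟩
        refine ⟨⟨hne, hM⟩, ?_⟩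
        symm
        apply Subgroup.eq_of_le_of_card_ge (le_inf hle inf_le_right)
        have c1 := card_inf hP (hidx M hM) h1 hne
        have c2 := card_inf hP h2 h1 hne2
        have := Nat.eq_of_mul_eq_mul_left (Nat.mul_pos hp.out.pos hp.out.pos) (c1.trans c2.symm)
        exact this.le
    rw [heq, Finset.card_erase_of_mem (Finset.mem_filter.2 ⟨hM₁, inf_le_right⟩), hpen]
    rfl
  rw [Finset.sum_congr rfl hfib, Finset.sum_const, smul_eq_mul] at hsum
  have : 𝓜.card = (𝓜.erase M₁).card + 1 := (Finset.card_erase_add_one hM₁).symm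
  rw [this, hsum]
  show (_ * p + 1) % p = 1 % p
  rw [Nat.mul_add_mod']

end Cfsg.Agent.Helper10.KJ
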