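import Mathlib
import Cfsg.Agent.Helper10.KJ1
import Cfsg.Agent.Helper23.OddPGroup
import Cfsg.Prelude.Def_Transfer

/-!
Helper library (helper10): abelian subgroups in products of two normal elementary abelian
subgroups (the local step of the Konvisser–Jonah counting argument for rank 4).
-/

set_option autoImplicit false

namespace Cfsg.Agent.Helper10.KJ

open Subgroup
open scoped commutatorElement

theorem isMulComm_iff {G : Type*} [Group G] (A : Subgroup G) :
    IsMulCommutative ↥A ↔ ∀ a ∈ A, ∀ b ∈ A, a * b = b * a := by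
  constructor
  · intro h a ha b hb
    have := h.is_comm.comm (⟨a, ha⟩ : ↥A) ⟨b, hb⟩
    exact congrArg Subtype.val this
  · intro h
    exact ⟨⟨fun a b => Subtype.ext (h a.1 a.2 b.1 b.2)⟩⟩

theorem mem_cent_single {G : Type*} [Group G] {x g : G} :
    g ∈ centralizer ({x} : Set G) ↔ x * g = g * x := by
  rw [mem_centralizer_iff]
  constructor
  · intro h; exact h x rfl
  · intro h y hy; rw [Set.mem_singleton_iff] at hy; subst hy; exact h

theorem comm_sup {G : Type*} [Group G] (A B : Subgroup G)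
    (hA : ∀ a ∈ A, ∀ a' ∈ A, a * a' = a' * a) (hB : ∀ b ∈ B, ∀ b' ∈ B, b * b' = b' * b)
    (hAB : ∀ a ∈ A, ∀ b ∈ B, a * b = b * a) : ∀ x ∈ A ⊔ B, ∀ y ∈ A ⊔ B, x * y = y * x := by
  have h1 : A ⊔ B ≤ centralizer ((A : Set G) ∪ B) := by
    apply sup_le
    · intro a ha
      rw [mem_centralizer_iff]
      rintro h (hh | hh)
      · exact hA h hh a ha
      · exact (hAB a ha h hh).symm
    · intro b hb
      rw [mem_centralizer_iff]
      rintro h (hh | hh)
      · exact hAB h hh b hb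
      · exact hB h hh b hb
  intro x hx y hy
  have hy' := mem_centralizer_iff.1 (h1 hy)
  have h2 : A ⊔ B ≤ centralizer {y} := by
    apply sup_le
    · intro a ha
      rw [mem_centralizer_iff]
      intro h hh
      rw [Set.mem_singleton_iff] at hh; subst hh
      exact (hy' a (Or.inl ha)).symm
    · intro b hb
      rw [mem_centralizer_iff]
      intro h hh
      rw [Set.mem_singleton_iff] at hh; subst hh
      exact (hy' b (Or.inr hb)).symm
  have := mem_centralizer_iff.1 (h2 hx) y rfl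
  exact this.symm

theorem comm_sup_zpowers {G : Type*} [Group G] (Y : Subgroup G) (x : G)
    (hY : ∀ a ∈ Y, ∀ a' ∈ Y, a * a' = a' * a) (hx : ∀ a ∈ Y, a * x = x * a) :
    ∀ a ∈ Y ⊔ zpowers x, ∀ b ∈ Y ⊔ zpowers x, a * b = b * a := by
  apply comm_sup _ _ hY
  · intro b hb b' hb'
    obtain ⟨i, rfl⟩ := mem_zpowers_iff.1 hb
    obtain ⟨j, rfl⟩ := mem_zpowers_iff.1 hb'
    exact (Commute.zpow_zpow (Commute.refl x) i j).eq
  · intro a ha b hb
    obtain ⟨i, rfl⟩ := mem_zpowers_iff.1 hb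
    exact ((show Commute a x from hx a ha).zpow_right i).eq

section Class2

variable {N : Type*} [Group N]

/-- `b ↦ ⁅a, b⁆` as a homomorphism when commutators are central. -/
def cR (hc : ∀ a b n : N, ⁅a, b⁆ * n = n * ⁅a, b⁆) (a : N) : N →* N where
  toFun b := ⁅a, b⁆
  map_one' := by simp
  map_mul' b b' := by
    have h := hc a b' b⁻¹
    calc ⁅a, b * b'⁆ = a * b * a⁻¹ * (⁅a, b'⁆ * b⁻¹) := by
          simp only [commutatorElement_def]; group
      _ = a * b * a⁻¹ * (b⁻¹ * ⁅a, b'⁆) := by rw [h]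
      _ = ⁅a, b⁆ * ⁅a, b'⁆ := by simp only [commutatorElement_def]; group

/-- `a ↦ ⁅a, b⁆` as a homomorphism when commutators are central. -/
def cL (hc : ∀ a b n : N, ⁅a, b⁆ * n = n * ⁅a, b⁆) (b : N) : N →* N where
  toFun a := ⁅a, b⁆
  map_one' := by simp
  map_mul' a a' := by
    have h := hc a' b a
    calc ⁅a * a', b⁆ = a * ⁅a', b⁆ * (b * a⁻¹ * b⁻¹) := by
          simp only [commutatorElement_def]; group
      _ = ⁅a', b⁆ * a * (b * a⁻¹ * b⁻¹) := by rw [h]
      _ = ⁅a', b⁆ * ⁅a, b⁆ := by simp only [commutatorElement_def]; group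
      _ = ⁅a, b⁆ * ⁅a', b⁆ := hc a' b _

@[simp] theorem cR_apply (hc : ∀ a b n : N, ⁅a, b⁆ * n = n * ⁅a, b⁆) (a b : N) :
    cR hc a b = ⁅a, b⁆ := rfl

@[simp] theorem cL_apply (hc : ∀ a b n : N, ⁅a, b⁆ * n = n * ⁅a, b⁆) (a b : N) :
    cL hc b a = ⁅a, b⁆ := rfl

theorem card_le_ker_range {N' : Type*} [Group N'] [Finite N] (f : N →* N') (K S : Subgroup N)
    (h2 : ∀ k ∈ K, f k = 1 → k ∈ S) : Nat.card K ≤ Nat.card S * Nat.card ↥(K.map f) := by
  obtain ⟨g, hg⟩ : ∃ g : ↥K →* N', g = f.comp K.subtype := ⟨_, rfl⟩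
  have h := g.ker.card_mul_index
  rw [Subgroup.index_ker] at h
  have hr : g.range = K.map f := by
    rw [hg, ← MonoidHom.map_range, Subgroup.range_subtype]
  have hk : Nat.card g.ker ≤ Nat.card S := by
    rw [← Subgroup.card_map_of_injective K.subtype_injective]
    apply Subgroup.card_le_of_le
    rintro _ ⟨k, hk, rfl⟩
    apply h2 _ k.2
    have : g k = 1 := hk
    rw [hg] at this
    exact this
  rw [← h, hr]
  exact Nat.mul_le_mul_right _ hk

theorem ker_bound {N' : Type*} [Group N'] [Finite N] [Finite N'] (f : N →* N')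
    (K S : Subgroup N) (T : Subgroup N')
    (h1 : ∀ k ∈ K, f k ∈ T) (h2 : ∀ k ∈ K, f k = 1 → k ∈ S) :
    Nat.card K ≤ Nat.card S * Nat.card T := by
  refine (card_le_ker_range f K S h2).trans (Nat.mul_le_mul_left _ ?_)
  apply Subgroup.card_le_of_le
  rintro _ ⟨k, hk, rfl⟩
  exact h1 k hk

theorem surj_of_card {N' : Type*} [Group N'] [Finite N] [Finite N'] (f : N →* N')
    (K S : Subgroup N) (T : Subgroup N')
    (h1 : ∀ k ∈ K, f k ∈ T) (h2 : ∀ k ∈ K, f k = 1 → k ∈ S)
    (h3 : Nat.card S * Nat.card T ≤ Nat.card K) : ∀ t ∈ T, ∃ k ∈ K, f k = t := by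
  have hle : K.map f ≤ T := by
    rintro _ ⟨k, hk, rfl⟩
    exact h1 k hk
  have hc := card_le_ker_range f K S h2
  have hS : 0 < Nat.card S := Nat.card_pos
  have : Nat.card T ≤ Nat.card ↥(K.map f) :=
    Nat.le_of_mul_le_mul_left (h3.trans hc) hS
  have heq := Subgroup.eq_of_le_of_card_ge hle this
  intro t ht
  rw [← heq] at ht
  obtain ⟨k, hk, rfl⟩ := ht
  exact ⟨k, hk, rfl⟩

variable [Finite N] {p : ℕ} [hp : Fact p.Prime]

theorem card_lt_pgroup (hN : IsPGroup p N) {H K : Subgroup N} (h : H < K) :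
    p * Nat.card H ≤ Nat.card K := by
  obtain ⟨a, ha⟩ := IsPGroup.iff_card.1 (hN.to_subgroup H)
  obtain ⟨b, hb⟩ := IsPGroup.iff_card.1 (hN.to_subgroup K)
  have hlt : Nat.card H < Nat.card K := by
    by_contra hcon
    push Not at hcon
    exact h.ne (Subgroup.eq_of_le_of_card_ge h.le hcon)
  rw [ha, hb] at hlt ⊢
  have hab : a < b := (Nat.pow_lt_pow_iff_right hp.out.one_lt).1 hlt
  calc p * p ^ a = p ^ (a + 1) := by ring
    _ ≤ p ^ b := Nat.pow_le_pow_right hp.out.pos hab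

theorem exists_not_mem_of_card_lt (S : Subgroup N) (h : Nat.card S < Nat.card N) :
    ∃ x, x ∉ S := by
  by_contra hcon
  push Not at hcon
  have : S = ⊤ := by
    ext x; simp [hcon x]
  rw [this, Subgroup.card_top] at h
  exact lt_irrefl _ h

theorem sup_zpowers_card (S : Subgroup N) [S.Normal] (x : N) (hx : x ^ p = 1) :
    Nat.card ↥(S ⊔ zpowers x) ≤ Nat.card S * p := by
  have h1 := card_mul_relIndex' (le_sup_left : S ≤ S ⊔ zpowers x)
  rw [Subgroup.relIndex_sup_left] at h1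
  have h2 : S.relIndex (zpowers x) ∣ p := by
    refine (Subgroup.relIndex_dvd_card S (zpowers x)).trans ?_
    rw [Nat.card_zpowers]
    exact orderOf_dvd_of_pow_eq_one hx
  rw [← h1]
  exact Nat.mul_le_mul_left _ (Nat.le_of_dvd hp.out.pos h2)

theorem normal_of_ge (Z S : Subgroup N) (hcomm : ∀ a b : N, ⁅a, b⁆ ∈ Z) (h : Z ≤ S) :
    S.Normal := by
  constructor
  intro s hs g
  have : g * s * g⁻¹ = ⁅g, s⁆ * s := by simp [commutatorElement_def]
  rw [this]
  exact S.mul_mem (h (hcomm g s)) hs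

/-- The greedy construction of a large abelian subgroup when `|Z| ≤ p`. -/
theorem greedy (hN : IsPGroup p N) (Z : Subgroup N)
    (hZc : ∀ z ∈ Z, ∀ n : N, z * n = n * z) (hcomm : ∀ a b : N, ⁅a, b⁆ ∈ Z)
    (hZ : Nat.card Z ≤ p) :
    ∀ (d : ℕ) (C Y : Subgroup N), Nat.card C - Nat.card Y = d → Y ≤ C →
      (∀ y ∈ Y, ∀ c ∈ C, y * c = c * y) →
      ∃ Y' : Subgroup N, (∀ a ∈ Y', ∀ b ∈ Y', a * b = b * a) ∧
        Nat.card C * Nat.card Y ≤ Nat.card Y' * Nat.card Y' := by
  have hc : ∀ a b n : N, ⁅a, b⁆ * n = n * ⁅a, b⁆ := fun a b n => hZc _ (hcomm a b) n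
  intro d
  induction d using Nat.strong_induction_on with
  | _ d ih =>
  intro C Y hd hYC hcen
  by_cases hYeq : Y = C
  · subst hYeq
    exact ⟨Y, fun a ha b hb => hcen a ha b hb, le_refl _⟩
  · obtain ⟨x, hxC, hxY⟩ : ∃ x ∈ C, x ∉ Y := by
      by_contra hcon
      push Not at hcon
      exact hYeq (le_antisymm hYC hcon)
    obtain ⟨Y₁, hY₁⟩ : ∃ Y₁, Y₁ = Y ⊔ zpowers x := ⟨_, rfl⟩
    obtain ⟨C₁, hC₁⟩ : ∃ C₁, C₁ = C ⊓ centralizer {x} := ⟨_, rfl⟩
    have hxx : x ∈ centralizer ({x} : Set N) := mem_cent_single.2 rfl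
    have hY₁C₁ : Y₁ ≤ C₁ := by
      rw [hY₁, hC₁]
      apply sup_le
      · intro y hy
        exact Subgroup.mem_inf.2 ⟨hYC hy, mem_cent_single.2 (hcen y hy x hxC).symm⟩
      · rw [zpowers_le]
        exact Subgroup.mem_inf.2 ⟨hxC, hxx⟩
    have hcen₁ : ∀ y ∈ Y₁, ∀ c ∈ C₁, y * c = c * y := by
      intro y hy c hcC
      have hcC' : c ∈ C ⊓ centralizer {x} := hC₁ ▸ hcC
      obtain ⟨hcC1, hcC2⟩ := Subgroup.mem_inf.1 hcC'
      have hle : Y₁ ≤ centralizer {c} := by
        rw [hY₁]; apply sup_le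
        · intro y' hy'
          exact mem_cent_single.2 (hcen y' hy' c hcC1).symm
        · rw [zpowers_le]
          exact mem_cent_single.2 (mem_cent_single.1 hcC2).symm
      exact (mem_cent_single.1 (hle hy)).symm
    have hcard1 : Nat.card C ≤ p * Nat.card C₁ := by
      have := ker_bound (cR hc x) C C₁ Z (fun k _ => hcomm x k) (fun k hk h1 => by
        rw [hC₁]
        exact Subgroup.mem_inf.2 ⟨hk, mem_cent_single.2
          (commutatorElement_eq_one_iff_mul_comm.1 h1)⟩)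
      calc Nat.card C ≤ Nat.card C₁ * Nat.card Z := this
        _ ≤ Nat.card C₁ * p := Nat.mul_le_mul_left _ hZ
        _ = p * Nat.card C₁ := mul_comm _ _
    have hYlt : Y < Y₁ := by
      refine lt_of_le_of_ne (hY₁ ▸ le_sup_left) ?_
      intro he
      apply hxY
      rw [he, hY₁]
      exact (le_sup_right : zpowers x ≤ Y ⊔ zpowers x) (mem_zpowers x)
    have hcard2 : p * Nat.card Y ≤ Nat.card Y₁ := card_lt_pgroup hN hYlt
    have hYC' : Nat.card Y < Nat.card C := by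
      by_contra hcon
      push Not at hcon
      exact hYeq (Subgroup.eq_of_le_of_card_ge hYC hcon)
    have hC₁C : Nat.card C₁ ≤ Nat.card C := Subgroup.card_le_of_le (hC₁ ▸ inf_le_left)
    have hYY₁ : Nat.card Y < Nat.card Y₁ := by
      have h1 : 0 < Nat.card Y := Nat.card_pos
      have h2 := hp.out.one_lt
      nlinarith
    have hlt : Nat.card C₁ - Nat.card Y₁ < d := by omega
    obtain ⟨Y', hY'ab, hY'c⟩ := ih _ hlt C₁ Y₁ rfl hY₁C₁ hcen₁
    refine ⟨Y', hY'ab, le_trans ?_ hY'c⟩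
    calc Nat.card C * Nat.card Y ≤ p * Nat.card C₁ * Nat.card Y := Nat.mul_le_mul_right _ hcard1
      _ = Nat.card C₁ * (p * Nat.card Y) := by ring
      _ ≤ Nat.card C₁ * Nat.card Y₁ := Nat.mul_le_mul_left _ hcard2

end Class2

end Cfsg.Agent.Helper10.KJ
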