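import Mathlib
import Cfsg.Agent.Helper10.KJ2

/-!
Helper library (helper10): the rank-two case (`|Z| = p^2`) and the combined statement on
abelian subgroups of order `p^4`.
-/

set_option autoImplicit false

namespace Cfsg.Agent.Helper10.KJ

open Subgroup
open scoped commutatorElement

section Class2

variable {N : Type*} [Group N] [Finite N] {p : ℕ} [hp : Fact p.Prime]

theorem exists_comm_pair (hN : IsPGroup p N) (Z : Subgroup N)
    (hZc : ∀ z ∈ Z, ∀ n : N, z * n = n * z) (hcomm : ∀ a b : N, ⁅a, b⁆ ∈ Z)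
    (hexp : ∀ x : N, x ^ p = 1) (hZ : Nat.card Z = p ^ 2) (hNc : Nat.card N = p ^ 5) :
    ∃ u v : N, u ∉ Z ∧ v ∉ Z ⊔ zpowers u ∧ u * v = v * u := by
  have hc : ∀ a b n : N, ⁅a, b⁆ * n = n * ⁅a, b⁆ := fun a b n => hZc _ (hcomm a b) n
  by_contra hcon
  have hstar : ∀ u : N, u ∉ Z → ∀ v : N, u * v = v * u → v ∈ Z ⊔ zpowers u := by
    intro u hu v huv
    by_contra hv
    exact hcon ⟨u, v, hu, hv, huv⟩
  have hp1 := hp.out.one_lt
  have hpp := hp.out.pos
  haveI hZn : Z.Normal := normal_of_ge Z Z hcomm le_rfl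
  -- x
  obtain ⟨x, hx⟩ := exists_not_mem_of_card_lt Z (by
    rw [hZ, hNc]; exact Nat.pow_lt_pow_right hp1 (by norm_num))
  obtain ⟨N₀, hN₀⟩ : ∃ N₀, N₀ = Z ⊔ zpowers x := ⟨_, rfl⟩
  have hZN₀ : Z ≤ N₀ := hN₀ ▸ le_sup_left
  have hxN₀ : x ∈ N₀ := hN₀ ▸ (le_sup_right : zpowers x ≤ Z ⊔ zpowers x) (mem_zpowers x)
  haveI hN₀n : N₀.Normal := normal_of_ge Z N₀ hcomm hZN₀
  have hN₀c : Nat.card N₀ ≤ p ^ 3 := by
    have := sup_zpowers_card (p := p) Z x (hexp x)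
    rw [hZ] at this
    rw [hN₀]; calc _ ≤ p ^ 2 * p := this
      _ = p ^ 3 := by ring
  have hN₀c' : p ^ 3 ≤ Nat.card N₀ := by
    have hlt : Z < N₀ := lt_of_le_of_ne hZN₀ (fun he => hx (he ▸ hxN₀))
    have := card_lt_pgroup hN hlt
    rw [hZ] at this
    calc p ^ 3 = p * p ^ 2 := by ring
      _ ≤ _ := this
  -- y
  obtain ⟨y, hy⟩ := exists_not_mem_of_card_lt N₀ (by
    rw [hNc]; exact lt_of_le_of_lt hN₀c (Nat.pow_lt_pow_right hp1 (by norm_num)))
  obtain ⟨N₁, hN₁⟩ : ∃ N₁, N₁ = N₀ ⊔ zpowers y := ⟨_, rfl⟩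
  have hN₀N₁ : N₀ ≤ N₁ := hN₁ ▸ le_sup_left
  have hyN₁ : y ∈ N₁ := hN₁ ▸ (le_sup_right : zpowers y ≤ N₀ ⊔ zpowers y) (mem_zpowers y)
  have hxN₁ : x ∈ N₁ := hN₀N₁ hxN₀
  have hZN₁ : Z ≤ N₁ := hZN₀.trans hN₀N₁
  have hN₁c : Nat.card N₁ ≤ p ^ 4 := by
    have := sup_zpowers_card (p := p) N₀ y (hexp y)
    rw [hN₁]; calc _ ≤ Nat.card N₀ * p := this
      _ ≤ p ^ 3 * p := Nat.mul_le_mul_right _ hN₀c
      _ = p ^ 4 := by ring
  have hN₁c' : p ^ 4 ≤ Nat.card N₁ := by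
    have hlt : N₀ < N₁ := lt_of_le_of_ne hN₀N₁ (fun he => hy (he ▸ hyN₁))
    have := card_lt_pgroup hN hlt
    calc p ^ 4 = p * p ^ 3 := by ring
      _ ≤ p * Nat.card N₀ := Nat.mul_le_mul_left _ hN₀c'
      _ ≤ _ := this
  -- w
  obtain ⟨w, hw⟩ := exists_not_mem_of_card_lt N₁ (by
    rw [hNc]; exact lt_of_le_of_lt hN₁c (Nat.pow_lt_pow_right hp1 (by norm_num)))
  obtain ⟨c, hcdef⟩ : ∃ c, c = ⁅x, y⁆ := ⟨_, rfl⟩
  have hcZ : c ∈ Z := hcdef ▸ hcomm x y
  have hc1 : c ≠ 1 := by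
    intro h
    rw [hcdef, commutatorElement_eq_one_iff_mul_comm] at h
    exact hy (hN₀ ▸ hstar x hx y h)
  -- step 5/6: u with ⁅u, w⁆ = c
  have h5 : ∀ u ∈ N₁, ⁅u, w⁆ = 1 → u ∈ Z := by
    intro u hu h
    by_contra huZ
    rw [commutatorElement_eq_one_iff_mul_comm] at h
    have := hstar u huZ w h
    exact hw ((sup_le hZN₁ ((zpowers_le).2 hu)) this)
  obtain ⟨u, huN₁, huw⟩ := surj_of_card (cL hc w) N₁ Z Z (fun k _ => hcomm k w)
    (fun k hk h => h5 k hk h) (by rw [hZ]; calc p ^ 2 * p ^ 2 = p ^ 4 := by ring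
      _ ≤ _ := hN₁c') c hcZ
  rw [cL_apply] at huw
  have huZ : u ∉ Z := by
    intro hu
    apply hc1
    rw [← huw, commutatorElement_eq_one_iff_mul_comm]
    exact hZc u hu w
  -- step 8: commutators of N₁ lie in zpowers c
  have hcc : c ∈ zpowers c := mem_zpowers c
  have hx1 : ∀ b ∈ N₁, ⁅x, b⁆ ∈ zpowers c := by
    have hle : N₁ ≤ (zpowers c).comap (cR hc x) := by
      rw [hN₁, hN₀]
      refine sup_le (sup_le ?_ ?_) ?_
      · intro z hz
        rw [mem_comap, cR_apply]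
        have : ⁅x, z⁆ = 1 := commutatorElement_eq_one_iff_mul_comm.2 (hZc z hz x).symm
        rw [this]; exact one_mem _
      · rw [zpowers_le, mem_comap, cR_apply, commutatorElement_self]; exact one_mem _
      · rw [zpowers_le, mem_comap, cR_apply, ← hcdef]; exact hcc
    intro b hb; exact hle hb
  have hy1 : ∀ b ∈ N₁, ⁅y, b⁆ ∈ zpowers c := by
    have hle : N₁ ≤ (zpowers c).comap (cR hc y) := by
      rw [hN₁, hN₀]
      refine sup_le (sup_le ?_ ?_) ?_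
      · intro z hz
        rw [mem_comap, cR_apply]
        have : ⁅y, z⁆ = 1 := commutatorElement_eq_one_iff_mul_comm.2 (hZc z hz y).symm
        rw [this]; exact one_mem _
      · rw [zpowers_le, mem_comap, cR_apply, ← commutatorElement_inv, ← hcdef]
        exact inv_mem hcc
      · rw [zpowers_le, mem_comap, cR_apply, commutatorElement_self]; exact one_mem _
    intro b hb; exact hle hb
  have h8 : ∀ a ∈ N₁, ∀ b ∈ N₁, ⁅a, b⁆ ∈ zpowers c := by
    intro a ha b hb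
    have hle : N₁ ≤ (zpowers c).comap (cL hc b) := by
      rw [hN₁, hN₀]
      refine sup_le (sup_le ?_ ?_) ?_
      · intro z hz
        rw [mem_comap, cL_apply]
        have : ⁅z, b⁆ = 1 := commutatorElement_eq_one_iff_mul_comm.2 (hZc z hz b)
        rw [this]; exact one_mem _
      · rw [zpowers_le, mem_comap, cL_apply]; exact hx1 b hb
      · rw [zpowers_le, mem_comap, cL_apply]; exact hy1 b hb
    exact hle ha
  -- step 9: v with ⁅u, v⁆ = c
  have hzc : Nat.card (zpowers c) ≤ p := by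
    rw [Nat.card_zpowers]
    exact Nat.le_of_dvd hpp (orderOf_dvd_of_pow_eq_one (hexp c))
  have hSu : Nat.card ↥(Z ⊔ zpowers u) ≤ p ^ 3 := by
    have := sup_zpowers_card (p := p) Z u (hexp u)
    rw [hZ] at this
    calc _ ≤ p ^ 2 * p := this
      _ = p ^ 3 := by ring
  obtain ⟨v, hvN₁, huv⟩ := surj_of_card (cR hc u) N₁ (Z ⊔ zpowers u) (zpowers c)
    (fun k hk => h8 u huN₁ k hk)
    (fun k _ h => hstar u huZ k (commutatorElement_eq_one_iff_mul_comm.1 h))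
    (by calc _ ≤ p ^ 3 * p := Nat.mul_le_mul hSu hzc
          _ = p ^ 4 := by ring
          _ ≤ _ := hN₁c') c hcc
  rw [cR_apply] at huv
  -- step 10
  have h10 : ⁅u, w * v⁻¹⁆ = 1 := by
    have := map_mul (cR hc u) w v⁻¹
    rw [map_inv, cR_apply, cR_apply, cR_apply, huv] at this
    rw [this]
    have hh : ⁅u, w⁆ = c := huw
    rw [hh, mul_inv_cancel]
  rw [commutatorElement_eq_one_iff_mul_comm] at h10
  have h11 := hstar u huZ _ h10
  have h12 : w * v⁻¹ ∈ N₁ := (sup_le hZN₁ ((zpowers_le).2 huN₁)) h11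
  apply hw
  have := N₁.mul_mem h12 hvN₁
  simpa using this

/-- Existence of an abelian subgroup of order at least `p^4`. -/
theorem exists_abelian (hN : IsPGroup p N) (Z : Subgroup N)
    (hZc : ∀ z ∈ Z, ∀ n : N, z * n = n * z) (hcomm : ∀ a b : N, ⁅a, b⁆ ∈ Z)
    (hexp : ∀ x : N, x ^ p = 1) (k : ℕ) (hk : k ≤ 3) (hZ : Nat.card Z = p ^ k)
    (hNc : Nat.card N * p ^ k = p ^ 7) :
    ∃ Y : Subgroup N, (∀ a ∈ Y, ∀ b ∈ Y, a * b = b * a) ∧ p ^ 4 ≤ Nat.card Y := by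
  have hp1 := hp.out.one_lt
  have hpp := hp.out.pos
  have hZab : ∀ a ∈ Z, ∀ b ∈ Z, a * b = b * a := fun a ha b _ => hZc a ha b
  have hNk : Nat.card N = p ^ (7 - k) := by
    have h7 : p ^ 7 = p ^ (7 - k) * p ^ k := by rw [← pow_add]; congr 1; omega
    rw [h7] at hNc
    exact Nat.eq_of_mul_eq_mul_right (pow_pos hpp k) hNc
  rcases (show k ≤ 1 ∨ k = 2 ∨ k = 3 by omega) with h | h | h
  · -- greedy
    have hZp : Nat.card Z ≤ p := by
      rw [hZ]; calc p ^ k ≤ p ^ 1 := Nat.pow_le_pow_right hpp h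
        _ = p := pow_one p
    obtain ⟨Y, hYab, hYc⟩ := greedy hN Z hZc hcomm hZp _ ⊤ Z rfl le_top
      (fun y hy c _ => hZc y hy c)
    refine ⟨Y, hYab, ?_⟩
    rw [Subgroup.card_top, hZ, hNc] at hYc
    obtain ⟨a, ha⟩ := IsPGroup.iff_card.1 (hN.to_subgroup Y)
    rw [ha, ← pow_add] at hYc
    have h7 : 7 ≤ a + a := (Nat.pow_le_pow_iff_right hp1).1 hYc
    rw [ha]
    exact Nat.pow_le_pow_right hpp (by omega)
  · subst h
    have hN5 : Nat.card N = p ^ 5 := hNk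
    obtain ⟨u, v, hu, hv, huv⟩ := exists_comm_pair hN Z hZc hcomm hexp hZ hN5
    have hab1 := comm_sup_zpowers Z u hZab (fun a ha => hZc a ha u)
    have hab2 := comm_sup_zpowers (Z ⊔ zpowers u) v hab1 (by
      intro a ha
      have hle : Z ⊔ zpowers u ≤ centralizer {v} := by
        apply sup_le
        · intro z hz; exact mem_cent_single.2 (hZc z hz v).symm
        · rw [zpowers_le]; exact mem_cent_single.2 huv.symm
      exact (mem_cent_single.1 (hle ha)).symm)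
    refine ⟨_, hab2, ?_⟩
    have hlt1 : Z < Z ⊔ zpowers u := lt_of_le_of_ne le_sup_left (fun he => hu (by
      rw [he]; exact (le_sup_right : zpowers u ≤ Z ⊔ zpowers u) (mem_zpowers u)))
    have hlt2 : Z ⊔ zpowers u < Z ⊔ zpowers u ⊔ zpowers v :=
      lt_of_le_of_ne le_sup_left (fun he => hv (by
        rw [he]; exact (le_sup_right : zpowers v ≤ _) (mem_zpowers v)))
    have c1 := card_lt_pgroup hN hlt1
    have c2 := card_lt_pgroup hN hlt2
    rw [hZ] at c1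
    calc p ^ 4 = p * (p * p ^ 2) := by ring
      _ ≤ p * Nat.card ↥(Z ⊔ zpowers u) := Nat.mul_le_mul_left _ c1
      _ ≤ _ := c2
  · subst h
    have hN4 : Nat.card N = p ^ 4 := hNk
    obtain ⟨x, hx⟩ := exists_not_mem_of_card_lt Z (by
      rw [hZ, hN4]; exact Nat.pow_lt_pow_right hp1 (by norm_num))
    have hab1 := comm_sup_zpowers Z x hZab (fun a ha => hZc a ha x)
    refine ⟨_, hab1, ?_⟩
    have hlt1 : Z < Z ⊔ zpowers x := lt_of_le_of_ne le_sup_left (fun he => hx (by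
      rw [he]; exact (le_sup_right : zpowers x ≤ Z ⊔ zpowers x) (mem_zpowers x)))
    have c1 := card_lt_pgroup hN hlt1
    rw [hZ] at c1
    calc p ^ 4 = p * p ^ 3 := by ring
      _ ≤ _ := c1

end Class2

end Cfsg.Agent.Helper10.KJ
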