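import Mathlib
import Cfsg.Agent.Helper10.KJ3

/-!
Helper library (helper10): the Konvisser–Jonah theorem for rank 4.
For an odd prime `p`, the number of elementary abelian subgroups of order `p^4` of a finite
`p`-group is `0` or `≡ 1 mod p`; hence a normal one exists as soon as one exists.
-/

set_option autoImplicit false

namespace Cfsg.Agent.Helper10.KJ

open Subgroup
open scoped commutatorElement Pointwise

/-- elementary abelian of order `p^4` -/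
def IsEA4 (p : ℕ) {G : Type*} [Group G] (E : Subgroup G) : Prop :=
  Cfsg.IsElementaryAbelian p E ∧ Nat.card E = p ^ 4

theorem ea4_map {G G' : Type*} [Group G] [Group G'] {p : ℕ} (f : G →* G')
    (hf : Function.Injective f) {E : Subgroup G} (h : IsEA4 p E) : IsEA4 p (E.map f) := by
  obtain ⟨⟨h1, h2⟩, h3⟩ := h
  refine ⟨⟨?_, ?_⟩, ?_⟩
  · rw [isMulComm_iff] at h1 ⊢
    rintro _ ⟨a, ha, rfl⟩ _ ⟨b, hb, rfl⟩
    rw [← map_mul, ← map_mul, h1 a ha b hb]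
  · rintro _ ⟨a, ha, rfl⟩
    rw [← map_pow, h2 a ha, map_one]
  · rw [Subgroup.card_map_of_injective hf, h3]

theorem ea4_subgroupOf {G : Type*} [Group G] {p : ℕ} {E M : Subgroup G} (hle : E ≤ M)
    (h : IsEA4 p E) : IsEA4 p (E.subgroupOf M) := by
  obtain ⟨⟨h1, h2⟩, h3⟩ := h
  refine ⟨⟨?_, ?_⟩, ?_⟩
  · rw [isMulComm_iff] at h1 ⊢
    intro a ha b hb
    exact Subtype.ext (h1 a.1 (mem_subgroupOf.1 ha) b.1 (mem_subgroupOf.1 hb))
  · intro a ha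
    apply Subtype.ext
    have := h2 a.1 (mem_subgroupOf.1 ha)
    simpa using this
  · rw [Nat.card_congr (subgroupOfEquivOfLe hle).toEquiv, h3]

/-- The local step: two normal `E_{p^4}`'s `A₁, A₂`, a maximal subgroup `M` containing
`A₁ ∩ A₂` but not `A₁`: then `M` contains an `E_{p^4}`. -/
theorem exists_in_max {G : Type*} [Group G] [Finite G] {p : ℕ} [hp : Fact p.Prime]
    (hp2 : p ≠ 2) (hG : IsPGroup p G) (A₁ A₂ M : Subgroup G) (hA₁n : A₁.Normal)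
    (hA₂n : A₂.Normal) (hA₁ : Cfsg.IsElementaryAbelian p A₁)
    (hA₂ : Cfsg.IsElementaryAbelian p A₂) (hc₁ : Nat.card A₁ = p ^ 4)
    (hc₂ : Nat.card A₂ = p ^ 4) (hM : M.index = p) (h₁ : ¬ A₁ ≤ M) (hZ : A₁ ⊓ A₂ ≤ M) :
    ∃ E : Subgroup G, E ≤ M ∧ Cfsg.IsElementaryAbelian p E ∧ Nat.card E = p ^ 4 := by
  have hab₁ := (isMulComm_iff A₁).1 hA₁.1
  have hab₂ := (isMulComm_iff A₂).1 hA₂.1
  have hpp := hp.out.pos
  obtain ⟨H, hH⟩ : ∃ H, H = A₁ ⊔ A₂ := ⟨_, rfl⟩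
  obtain ⟨Z₀, hZ₀⟩ : ∃ Z₀, Z₀ = A₁ ⊓ A₂ := ⟨_, rfl⟩
  obtain ⟨N, hNdef⟩ : ∃ N, N = H ⊓ M := ⟨_, rfl⟩
  have hZ₀n : Z₀.Normal := hZ₀ ▸ inferInstance
  have hA₁H : A₁ ≤ H := hH ▸ le_sup_left
  have hA₂H : A₂ ≤ H := hH ▸ le_sup_right
  have hZ₀A₁ : Z₀ ≤ A₁ := hZ₀ ▸ inf_le_left
  have hZ₀A₂ : Z₀ ≤ A₂ := hZ₀ ▸ inf_le_right
  have hNH : N ≤ H := hNdef ▸ inf_le_left
  have hNM : N ≤ M := hNdef ▸ inf_le_right
  -- (1) Z₀ central in H
  have hcenH : ∀ z ∈ Z₀, ∀ h ∈ H, z * h = h * z := by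
    intro z hz h hh
    have hle : H ≤ centralizer {z} := by
      rw [hH]; apply sup_le
      · intro a ha; exact mem_cent_single.2 (hab₁ z (hZ₀A₁ hz) a ha)
      · intro a ha; exact mem_cent_single.2 (hab₂ z (hZ₀A₂ hz) a ha)
    exact mem_cent_single.1 (hle hh)
  -- (2) commutators of H lie in Z₀
  have hcommH : ∀ a ∈ H, ∀ b ∈ H, ⁅a, b⁆ ∈ Z₀ := by
    intro a ha b hb
    have hq : ∀ x ∈ H.map (QuotientGroup.mk' Z₀), ∀ y ∈ H.map (QuotientGroup.mk' Z₀),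
        x * y = y * x := by
      rw [hH, Subgroup.map_sup]
      apply comm_sup
      · rintro _ ⟨a, ha, rfl⟩ _ ⟨a', ha', rfl⟩
        rw [← map_mul, ← map_mul, hab₁ a ha a' ha']
      · rintro _ ⟨a, ha, rfl⟩ _ ⟨a', ha', rfl⟩
        rw [← map_mul, ← map_mul, hab₂ a ha a' ha']
      · rintro _ ⟨a, ha, rfl⟩ _ ⟨b, hb, rfl⟩
        have hc : ⁅a, b⁆ ∈ Z₀ :=
          hZ₀ ▸ (Subgroup.commutator_le_inf A₁ A₂) (Subgroup.commutator_mem_commutator ha hb)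
        have h1 : QuotientGroup.mk' Z₀ ⁅a, b⁆ = 1 := (QuotientGroup.eq_one_iff _).2 hc
        rw [map_commutatorElement, commutatorElement_eq_one_iff_mul_comm] at h1
        exact h1
    have := hq _ (Subgroup.mem_map_of_mem _ ha) _ (Subgroup.mem_map_of_mem _ hb)
    have h2 : QuotientGroup.mk' Z₀ ⁅a, b⁆ = 1 := by
      rw [map_commutatorElement, commutatorElement_eq_one_iff_mul_comm]; exact this
    exact (QuotientGroup.eq_one_iff _).1 h2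
  -- (3) exponent p
  have hexpH : ∀ h ∈ H, h ^ p = 1 := by
    intro h hh
    have hmem : h ∈ (A₁ : Set G) * (A₂ : Set G) := by
      rw [← Subgroup.mul_normal]; exact hH ▸ hh
    obtain ⟨a, ha, b, hb, rfl⟩ := Set.mem_mul.1 hmem
    have haH : a ∈ H := hA₁H ha
    have hbH : b ∈ H := hA₂H hb
    obtain ⟨e, he⟩ : ∃ e, e = ⁅b⁻¹, a⁻¹⁆ := ⟨_, rfl⟩
    have heZ : e ∈ Z₀ := he ▸ hcommH _ (inv_mem hbH) _ (inv_mem haH)
    have h1 : b * a = a * b * e := by rw [he]; simp only [commutatorElement_def]; group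
    have hea : Commute e a := hcenH e heZ a haH
    have heb : Commute e b := hcenH e heZ b hbH
    have hep : e ^ p = 1 := hA₁.2 e (hZ₀A₁ heZ)
    rw [Cfsg.Agent.Helper23.mul_pow_prime_of_central hp.out hp2 h1 hea heb hep,
      hA₁.2 a ha, hA₂.2 b hb, one_mul]
  -- (4) cardinalities
  have hMn : M.Normal := normal_of_index hG hM
  have hHM : H ⊔ M = ⊤ := sup_eq_top_of_not_le hM (fun h => h₁ (hA₁H.trans h))
  have r1 : M.relIndex H = p := by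
    rw [← Subgroup.relIndex_sup_right, hHM, relIndex_top_right, hM]
  have r2 : N.relIndex H = p := by rw [hNdef, Subgroup.inf_relIndex_left]; exact r1
  have c1 : Nat.card N * p = Nat.card H := r2 ▸ card_mul_relIndex' hNH
  have r3 : A₂.relIndex H = A₂.relIndex A₁ := by rw [hH]; exact Subgroup.relIndex_sup_right A₁ A₂
  have c2 : Nat.card A₂ * A₂.relIndex A₁ = Nat.card H := r3 ▸ card_mul_relIndex' hA₂H
  have r4 : Z₀.relIndex A₁ = A₂.relIndex A₁ := by rw [hZ₀]; exact Subgroup.inf_relIndex_left A₁ A₂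
  have c3 : Nat.card Z₀ * A₂.relIndex A₁ = Nat.card A₁ := r4 ▸ card_mul_relIndex' hZ₀A₁
  have c4 : Nat.card H * Nat.card Z₀ = p ^ 8 := by
    rw [← c2, mul_assoc, mul_comm (A₂.relIndex A₁), c3, hc₁, hc₂]; ring
  have c5 : Nat.card N * Nat.card Z₀ = p ^ 7 := by
    have : (Nat.card N * Nat.card Z₀) * p = p ^ 7 * p := by
      rw [← pow_succ, ← c4, ← c1]; ring
    exact Nat.eq_of_mul_eq_mul_right hpp this
  obtain ⟨k, hk4, hk⟩ : ∃ k ≤ 4, Nat.card Z₀ = p ^ k :=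
    (Nat.dvd_prime_pow hp.out).1 (hc₁ ▸ Subgroup.card_dvd_of_le hZ₀A₁)
  have hk3 : k ≤ 3 := by
    by_contra hcon
    have hk4' : k = 4 := by omega
    have : Z₀ = A₁ := Subgroup.eq_of_le_of_card_ge hZ₀A₁ (by rw [hc₁, hk, hk4'])
    exact h₁ (this ▸ (hZ₀ ▸ hZ))
  -- (5) abelian subgroup of N
  have hZ₀N : Z₀ ≤ N := hNdef ▸ le_inf (hZ₀A₁.trans hA₁H) (hZ₀ ▸ hZ)
  obtain ⟨Y, hYab, hYc⟩ := exists_abelian (N := ↥N) (p := p) (hG.to_subgroup N)
    (Z₀.subgroupOf N)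
    (fun z hz n => Subtype.ext (hcenH z.1 (mem_subgroupOf.1 hz) n.1 (hNH n.2)))
    (fun a b => mem_subgroupOf.2 (hcommH a.1 (hNH a.2) b.1 (hNH b.2)))
    (fun x => Subtype.ext (by simpa using hexpH x.1 (hNH x.2)))
    k hk3 (by rw [Nat.card_congr (subgroupOfEquivOfLe hZ₀N).toEquiv]; exact hk)
    (by rw [← hk]; exact c5)
  -- (6) shrink to order p^4
  have hYp : IsPGroup p ↥Y := (hG.to_subgroup N).to_subgroup Y
  obtain ⟨a, ha⟩ := IsPGroup.iff_card.1 hYp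
  have ha4 : 4 ≤ a := by
    rw [ha] at hYc; exact (Nat.pow_le_pow_iff_right hp.out.one_lt).1 hYc
  obtain ⟨K, hK⟩ := Sylow.exists_subgroup_card_pow_prime (G := ↥Y) p (n := 4)
    (ha ▸ pow_dvd_pow p ha4)
  refine ⟨(K.map Y.subtype).map N.subtype, ?_, ⟨?_, ?_⟩, ?_⟩
  · rintro _ ⟨n, _, rfl⟩; exact hNM n.2
  · rw [isMulComm_iff]
    rintro _ ⟨n, ⟨y, _, rfl⟩, rfl⟩ _ ⟨n', ⟨y', _, rfl⟩, rfl⟩
    have := hYab y.1 y.2 y'.1 y'.2
    exact congrArg Subtype.val this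
  · rintro _ ⟨n, _, rfl⟩; exact hexpH n.1 (hNH n.2)
  · rw [Subgroup.card_map_of_injective N.subtype_injective,
      Subgroup.card_map_of_injective Y.subtype_injective, hK]

end Cfsg.Agent.Helper10.KJ
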