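import Mathlib
import Cfsg.Agent.Helper10.KJ4

/-!
Helper library (helper10): the Konvisser–Jonah counting theorem for rank 4 (main induction).
-/

set_option autoImplicit false

universe u

namespace Cfsg.Agent.Helper10.KJ

open Subgroup
open scoped commutatorElement

section Conj

variable {P : Type*} [Group P]

/-- conjugate of a subgroup -/
def conjSub (g : P) (E : Subgroup P) : Subgroup P := E.map (MulAut.conj g).toMonoidHom

theorem mem_conjSub {g x : P} {E : Subgroup P} : x ∈ conjSub g E ↔ g⁻¹ * x * g ∈ E := by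
  unfold conjSub
  constructor
  · rintro ⟨e, he, rfl⟩
    simpa [mul_assoc] using he
  · intro h
    exact ⟨g⁻¹ * x * g, h, by simp [mul_assoc]⟩

theorem conjSub_one (E : Subgroup P) : conjSub 1 E = E := by
  ext x; simp [mem_conjSub]

theorem conjSub_mul (g h : P) (E : Subgroup P) : conjSub (g * h) E = conjSub g (conjSub h E) := by
  ext x
  simp only [mem_conjSub]
  rw [show (g * h)⁻¹ * x * (g * h) = h⁻¹ * (g⁻¹ * x * g) * h by group]

theorem exists_normal_of_count [Finite P] {p : ℕ} [Fact p.Prime] (hP : IsPGroup p P)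
    (S : Set (Subgroup P)) (hS : ∀ g E, E ∈ S → conjSub g E ∈ S) (hcard : ¬ p ∣ S.ncard) :
    ∃ A ∈ S, A.Normal := by
  letI : MulAction P S :=
    { smul := fun g E => ⟨conjSub g E.1, hS g E.1 E.2⟩
      one_smul := fun E => Subtype.ext (conjSub_one E.1)
      mul_smul := fun g h E => Subtype.ext (conjSub_mul g h E.1) }
  have hc : ¬ p ∣ Nat.card S := by rwa [Nat.card_coe_set_eq]
  obtain ⟨A, hA⟩ := hP.nonempty_fixed_point_of_prime_not_dvd_card S hc
  refine ⟨A.1, A.2, ⟨fun n hn g => ?_⟩⟩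
  have h1 : g • A = A := hA g
  have h2 : conjSub g A.1 = A.1 := congrArg Subtype.val h1
  rw [← h2, mem_conjSub]
  simpa [mul_assoc] using hn

end Conj

theorem count_in_max {P : Type*} [Group P] [Finite P] {p : ℕ} (M : Subgroup P) :
    {E : Subgroup P | IsEA4 p E ∧ E ≤ M}.ncard = {E' : Subgroup ↥M | IsEA4 p E'}.ncard := by
  rw [← Set.ncard_image_of_injective _ (Subgroup.map_injective M.subtype_injective)]
  congr 1
  ext E
  constructor
  · rintro ⟨hE, hle⟩
    exact ⟨E.subgroupOf M, ea4_subgroupOf hle hE, Subgroup.map_subgroupOf_eq_of_le hle⟩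
  · rintro ⟨E', hE', rfl⟩
    exact ⟨ea4_map M.subtype M.subtype_injective hE', Subgroup.map_subtype_le E'⟩

theorem exists_max {P : Type*} [Group P] [Finite P] {p : ℕ} [hp : Fact p.Prime]
    (hP : IsPGroup p P) (E : Subgroup P) (hE : E ≠ ⊤) :
    ∃ M : Subgroup P, M.index = p ∧ E ≤ M := by
  obtain ⟨n, hn⟩ := IsPGroup.iff_card.1 hP
  obtain ⟨a, ha⟩ := IsPGroup.iff_card.1 (hP.to_subgroup E)
  have hlt : a < n := by
    have : Nat.card E < Nat.card P := by
      by_contra hcon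
      push Not at hcon
      exact hE ((Subgroup.card_eq_iff_eq_top E).1 (le_antisymm (Subgroup.card_le_card_group E) hcon))
    rw [ha, hn] at this
    exact (Nat.pow_lt_pow_iff_right hp.out.one_lt).1 this
  obtain ⟨K, hK, hEK⟩ := Sylow.exists_subgroup_card_pow_prime_le p (m := n - 1) (n := a)
    (hn ▸ pow_dvd_pow p (Nat.sub_le n 1)) E ha (by omega)
  refine ⟨K, ?_, hEK⟩
  have := K.card_mul_index
  rw [hK, hn] at this
  have h2 : p ^ n = p ^ (n - 1) * p := by rw [← pow_succ]; congr 1; omega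
  rw [h2] at this
  exact Nat.eq_of_mul_eq_mul_left (pow_pos hp.out.pos _) this

theorem not_dvd_of_modEq_one {p : ℕ} [hp : Fact p.Prime] {m : ℕ} (hm : m ≡ 1 [MOD p]) :
    ¬ p ∣ m := by
  intro hd
  have : m % p = 1 % p := hm
  rw [Nat.mod_eq_zero_of_dvd hd, Nat.mod_eq_of_lt hp.out.one_lt] at this
  exact absurd this (by norm_num)

/-- **Konvisser–Jonah, rank 4**: the number of elementary abelian subgroups of order `p^4`
in a finite `p`-group (`p` odd) is `≡ 1 mod p` as soon as it is nonzero. -/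
theorem count_mod {p : ℕ} [hp : Fact p.Prime] (hp2 : p ≠ 2) :
    ∀ (n : ℕ) (P : Type u) [Group P] [Finite P], IsPGroup p P → Nat.card P = n →
      (∃ E : Subgroup P, IsEA4 p E) → {E : Subgroup P | IsEA4 p E}.ncard ≡ 1 [MOD p] := by
  intro n
  induction n using Nat.strong_induction_on with
  | _ n ih =>
  intro P _ _ hP hn ⟨E₀, hE₀⟩
  classical
  by_cases htop : E₀ = ⊤
  · have : {E : Subgroup P | IsEA4 p E} = {⊤} := by
      ext E
      simp only [Set.mem_ofPred_eq, Set.mem_singleton_iff]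
      constructor
      · intro hE
        apply (Subgroup.card_eq_iff_eq_top E).1
        rw [hE.2, ← hE₀.2, htop, Subgroup.card_top]
      · rintro rfl; exact htop ▸ hE₀
    rw [this, Set.ncard_singleton]
  · have hprop : ∀ E : Subgroup P, IsEA4 p E → E ≠ ⊤ := by
      intro E hE he
      apply htop
      apply (Subgroup.card_eq_iff_eq_top E₀).1
      rw [hE₀.2, ← hE.2, he, Subgroup.card_top]
    have key : ∀ M : Subgroup P, M.index = p → (∃ E, IsEA4 p E ∧ E ≤ M) →
        {E : Subgroup P | IsEA4 p E ∧ E ≤ M}.ncard ≡ 1 [MOD p] := by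
      intro M hM ⟨E, hE, hle⟩
      rw [count_in_max]
      have hlt : Nat.card M < n := by
        have := M.card_mul_index
        rw [hM, hn] at this
        have h1 : 0 < Nat.card M := Nat.card_pos
        have := hp.out.one_lt
        nlinarith
      exact ih _ hlt ↥M (hP.to_subgroup M) rfl ⟨E.subgroupOf M, ea4_subgroupOf hle hE⟩
    have conjS : ∀ M : Subgroup P, M.Normal → ∀ g E,
        E ∈ {E : Subgroup P | IsEA4 p E ∧ E ≤ M} →
        conjSub g E ∈ {E : Subgroup P | IsEA4 p E ∧ E ≤ M} := by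
      intro M hMn g E ⟨hE, hle⟩
      refine ⟨ea4_map _ (MulAut.conj g).injective hE, ?_⟩
      intro x hx
      rw [mem_conjSub] at hx
      have := hMn.conj_mem _ (hle hx) g
      simpa [mul_assoc] using this
    have hline : ∀ M₁ M₂ M : Subgroup P, M₁.index = p → M₂.index = p → M.index = p →
        (∃ E, IsEA4 p E ∧ E ≤ M₁) → (∃ E, IsEA4 p E ∧ E ≤ M₂) → M₁ ⊓ M₂ ≤ M →
        ∃ E, IsEA4 p E ∧ E ≤ M := by
      intro M₁ M₂ M h1 h2 hM he1 he2 hle
      have hn1 := normal_of_index hP h1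
      have hn2 := normal_of_index hP h2
      have k1 := key M₁ h1 he1
      have k2 := key M₂ h2 he2
      obtain ⟨A₁, ⟨hA₁, hA₁M⟩, hA₁n⟩ :=
        exists_normal_of_count hP _ (conjS M₁ hn1) (not_dvd_of_modEq_one k1)
      obtain ⟨A₂, ⟨hA₂, hA₂M⟩, hA₂n⟩ :=
        exists_normal_of_count hP _ (conjS M₂ hn2) (not_dvd_of_modEq_one k2)
      by_cases hA : A₁ ≤ M
      · exact ⟨A₁, hA₁, hA⟩
      · obtain ⟨E, hEM, hE1, hE2⟩ := exists_in_max hp2 hP A₁ A₂ M hA₁n hA₂n hA₁.1 hA₂.1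
          hA₁.2 hA₂.2 hM hA ((inf_le_inf hA₁M hA₂M).trans hle)
        exact ⟨E, ⟨hE1, hE2⟩, hEM⟩
    haveI : Fintype (Subgroup P) := Fintype.ofFinite _
    obtain ⟨𝓔, h𝓔⟩ : ∃ 𝓔 : Finset (Subgroup P), ∀ E, E ∈ 𝓔 ↔ IsEA4 p E :=
      ⟨Finset.univ.filter (fun E => IsEA4 p E), fun E => by simp⟩
    obtain ⟨Mx, hMx⟩ : ∃ Mx : Finset (Subgroup P), ∀ M, M ∈ Mx ↔ M.index = p :=
      ⟨Finset.univ.filter (fun M => M.index = p), fun M => by simp⟩
    have ha : ∀ E ∈ 𝓔, (Mx.filter (fun M => E ≤ M)).card ≡ 1 [MOD p] := by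
      intro E hE
      have hE' : IsEA4 p E := (h𝓔 E).1 hE
      obtain ⟨M, hM, hle⟩ := exists_max hP E (hprop E hE')
      apply line_closed_card hP
      · exact ⟨M, Finset.mem_filter.2 ⟨(hMx M).2 hM, hle⟩⟩
      · intro M hM; exact (hMx M).1 (Finset.mem_filter.1 hM).1
      · intro M₁ hM₁ M₂ hM₂ _ M hM hle
        exact Finset.mem_filter.2 ⟨(hMx M).2 hM,
          (le_inf (Finset.mem_filter.1 hM₁).2 (Finset.mem_filter.1 hM₂).2).trans hle⟩
    have hb : (Mx.filter (fun M => ∃ E, IsEA4 p E ∧ E ≤ M)).card ≡ 1 [MOD p] := by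
      obtain ⟨M, hM, hle⟩ := exists_max hP E₀ htop
      apply line_closed_card hP
      · exact ⟨M, Finset.mem_filter.2 ⟨(hMx M).2 hM, E₀, hE₀, hle⟩⟩
      · intro M hM; exact (hMx M).1 (Finset.mem_filter.1 hM).1
      · intro M₁ hM₁ M₂ hM₂ _ M hM hle
        obtain ⟨hM₁a, hM₁b⟩ := Finset.mem_filter.1 hM₁
        obtain ⟨hM₂a, hM₂b⟩ := Finset.mem_filter.1 hM₂
        exact Finset.mem_filter.2 ⟨(hMx M).2 hM,
          hline M₁ M₂ M ((hMx M₁).1 hM₁a) ((hMx M₂).1 hM₂a) hM hM₁b hM₂b hle⟩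
    have hcM : ∀ M ∈ Mx.filter (fun M => ∃ E, IsEA4 p E ∧ E ≤ M),
        (𝓔.filter (fun E => E ≤ M)).card ≡ 1 [MOD p] := by
      intro M hM
      obtain ⟨hMa, hMb⟩ := Finset.mem_filter.1 hM
      have := key M ((hMx M).1 hMa) hMb
      have he : (𝓔.filter (fun E => E ≤ M)).card
          = {E : Subgroup P | IsEA4 p E ∧ E ≤ M}.ncard := by
        rw [← Set.ncard_coe_finset]; congr 1; ext E
        simp [h𝓔]
      rw [he]; exact this
    have hdc := Finset.sum_card_bipartiteAbove_eq_sum_card_bipartiteBelow (s := 𝓔) (t := Mx)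
      (fun E M => E ≤ M)
    have hdc' : (∑ E ∈ 𝓔, (Mx.filter (fun M => E ≤ M)).card)
        = ∑ M ∈ Mx, (𝓔.filter (fun E => E ≤ M)).card := hdc
    have hsub : ∑ M ∈ Mx, (𝓔.filter (fun E => E ≤ M)).card
        = ∑ M ∈ Mx.filter (fun M => ∃ E, IsEA4 p E ∧ E ≤ M),
            (𝓔.filter (fun E => E ≤ M)).card := by
      symm
      apply Finset.sum_filter_of_ne
      intro M _ hne
      obtain ⟨E, hE⟩ := Finset.card_pos.1 (Nat.pos_of_ne_zero hne)
      obtain ⟨hEa, hEb⟩ := Finset.mem_filter.1 hE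
      exact ⟨E, (h𝓔 E).1 hEa, hEb⟩
    have e1 : (∑ E ∈ 𝓔, (Mx.filter (fun M => E ≤ M)).card) % p = 𝓔.card % p := by
      rw [Finset.sum_nat_mod, Finset.sum_congr rfl (fun E hE => (ha E hE : _ % p = 1 % p)),
        ← Finset.sum_nat_mod]
      simp
    have e2 : (∑ M ∈ Mx.filter (fun M => ∃ E, IsEA4 p E ∧ E ≤ M),
        (𝓔.filter (fun E => E ≤ M)).card) % p
        = (Mx.filter (fun M => ∃ E, IsEA4 p E ∧ E ≤ M)).card % p := by
      rw [Finset.sum_nat_mod, Finset.sum_congr rfl (fun M hM => (hcM M hM : _ % p = 1 % p)),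
        ← Finset.sum_nat_mod]
      simp
    have hfin : 𝓔.card ≡ 1 [MOD p] := by
      show 𝓔.card % p = 1 % p
      rw [← e1, hdc', hsub, e2]; exact hb
    have he : {E : Subgroup P | IsEA4 p E}.ncard = 𝓔.card := by
      rw [← Set.ncard_coe_finset]; congr 1; ext E
      simp [h𝓔]
    rw [he]; exact hfin

/-- For odd `p`, a `p`-group with an elementary abelian subgroup of order `p^4` has a normal
one. -/
theorem exists_normal_ea4 {G : Type u} [Group G] [Finite G] {p : ℕ} [hp : Fact p.Prime]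
    (hp2 : p ≠ 2) (hG : IsPGroup p G) (E : Subgroup G) (hE : Cfsg.IsElementaryAbelian p E)
    (hE4 : Nat.card E = p ^ 4) :
    ∃ A : Subgroup G, A.Normal ∧ Cfsg.IsElementaryAbelian p A ∧ Nat.card A = p ^ 4 := by
  have h := count_mod hp2 _ G hG rfl ⟨E, hE, hE4⟩
  obtain ⟨A, hA, hAn⟩ := exists_normal_of_count hG {E : Subgroup G | IsEA4 p E}
    (fun g E hE => ea4_map _ (MulAut.conj g).injective hE) (not_dvd_of_modEq_one h)
  exact ⟨A, hAn, hA.1, hA.2⟩

end Cfsg.Agent.Helper10.KJ
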