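import Mathlib
import Cfsg.Prelude.Def_CaseTheorems
import Cfsg.Agent.Helper7.PU
import Cfsg.Agent.Helper10.KJ5

set_option autoImplicit false

/-! # Sections of 2-groups (helper10): generic tools

Concrete forms of "sectional 2-rank at most `k`", sections generated by two subgroups,
cardinalities of joins, the subgroup generated by squares. -/

namespace Cfsg.Agent.Helper10.SR4

open Subgroup
open scoped Pointwise

/-- abstract sectional rank bound gives the concrete cardinality bound for sections -/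
theorem card_le_of_sectional {G : Type*} [Group G] [Finite G] {k : ℕ}
    (h : Cfsg.SectionalPRankLE 2 k G) (K N : Subgroup G) (hNK : N ≤ K)
    (hnorm : ∀ x ∈ K, ∀ n ∈ N, x * n * x⁻¹ ∈ N) (hsq : ∀ x ∈ K, x ^ 2 ∈ N) :
    Nat.card K ≤ 2 ^ k * Nat.card N := by
  have : (N.subgroupOf K).Normal := by
    constructor
    intro n hn g
    rw [Subgroup.mem_subgroupOf] at hn ⊢
    simpa using hnorm g g.2 n hn
  have h1 := h K (N.subgroupOf K)
  have hsq' : ∀ q : ↥K ⧸ N.subgroupOf K, q ^ 2 = 1 := by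
    intro q
    obtain ⟨k, rfl⟩ := QuotientGroup.mk_surjective q
    rw [← QuotientGroup.mk_pow, QuotientGroup.eq_one_iff, Subgroup.mem_subgroupOf]
    simpa using hsq k k.2
  have key : ∀ w : ↥K ⧸ N.subgroupOf K, w⁻¹ = w := fun w =>
    inv_eq_of_mul_eq_one_left (by rw [← pow_two]; exact hsq' w)
  have hcomm : ∀ x y : ↥K ⧸ N.subgroupOf K, x * y = y * x := by
    intro x y
    calc x * y = (x * y)⁻¹ := (key _).symm
      _ = y⁻¹ * x⁻¹ := mul_inv_rev x y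
      _ = y * x := by rw [key, key]
  have h2 := h1 ⊤ ((KJ.isMulComm_iff _).2 (fun a _ b _ => hcomm a b)) (fun a _ => hsq' a)
  rw [Subgroup.card_top] at h2
  have h3 := KJ.card_mul_relIndex' hNK
  rw [Subgroup.relIndex, Subgroup.index_eq_card] at h3
  calc Nat.card K = Nat.card N * Nat.card (↥K ⧸ N.subgroupOf K) := h3.symm
    _ ≤ Nat.card N * 2 ^ k := Nat.mul_le_mul_left _ h2
    _ = 2 ^ k * Nat.card N := mul_comm _ _

/-- concrete cardinality bound for the sections of a subgroup gives sectional rank `≤ 2` -/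
theorem sectional_of_card {G : Type*} [Group G] [Finite G] (P : Subgroup G)
    (h : ∀ K N : Subgroup G, K ≤ P → N ≤ K → (∀ x ∈ K, ∀ n ∈ N, x * n * x⁻¹ ∈ N) →
      (∀ x ∈ K, x ^ 2 ∈ N) → Nat.card K ≤ 4 * Nat.card N) :
    Cfsg.SectionalPRankLE 2 2 ↥P := by
  intro H N hN A _ hA
  have hφ : Function.Injective (P.subtype.comp H.subtype) :=
    fun a b hab => Subtype.ext (Subtype.ext hab)
  have hle : N ≤ A.comap (QuotientGroup.mk' N) := by
    intro n hn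
    rw [Subgroup.mem_comap]
    have : QuotientGroup.mk' N n = 1 := (QuotientGroup.eq_one_iff n).2 hn
    rw [this]; exact A.one_mem
  have key := h ((A.comap (QuotientGroup.mk' N)).map (P.subtype.comp H.subtype))
    (N.map (P.subtype.comp H.subtype))
    (by
      rintro _ ⟨k, -, rfl⟩
      exact (k : ↥P).2)
    (Subgroup.map_mono hle)
    (by
      rintro _ ⟨k, hk, rfl⟩ _ ⟨m, hm, rfl⟩
      exact ⟨k * m * k⁻¹, hN.conj_mem m hm k, by simp⟩)
    (by
      rintro _ ⟨k, hk, rfl⟩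
      refine ⟨k ^ 2, ?_, by simp⟩
      have hk' : QuotientGroup.mk' N k ∈ A := hk
      have h1 := hA _ hk'
      rw [← map_pow] at h1
      exact (QuotientGroup.eq_one_iff _).1 h1)
  rw [Subgroup.card_map_of_injective hφ, Subgroup.card_map_of_injective hφ] at key
  have hc := Helper7.PU.card_comap_mk N A (p := Nat.card N) rfl
  rw [hc] at key
  have hpos : 0 < Nat.card N := Nat.card_pos
  have := Nat.le_of_mul_le_mul_right key hpos
  norm_num
  exact this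

variable {G : Type*} [Group G]

/-- a section generated by two subgroups -/
theorem sec2 (K₁ K₂ N : Subgroup G)
    (h1 : ∀ x ∈ K₁, ∀ n ∈ N, x * n * x⁻¹ ∈ N) (h2 : ∀ x ∈ K₂, ∀ n ∈ N, x * n * x⁻¹ ∈ N)
    (s1 : ∀ x ∈ K₁, x ^ 2 ∈ N) (s2 : ∀ x ∈ K₂, x ^ 2 ∈ N)
    (hc : ∀ x ∈ K₁, ∀ y ∈ K₂, x * y * x⁻¹ * y⁻¹ ∈ N) :
    ∀ k ∈ K₁ ⊔ K₂ ⊔ N, (∀ n ∈ N, k * n * k⁻¹ ∈ N) ∧ k ^ 2 ∈ N := by
  have hn1 : K₁ ≤ normalizer (N : Set G) := le_normalizer_iff.2 h1
  have hn2 : K₂ ≤ normalizer (N : Set G) := le_normalizer_iff.2 h2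
  have hK : K₁ ⊔ K₂ ⊔ N ≤ normalizer (N : Set G) := sup_le (sup_le hn1 hn2) le_normalizer
  have e1 : ((N ⊔ K₁ : Subgroup G) : Set G) = (N : Set G) * (K₁ : Set G) :=
    Subgroup.coe_mul_of_right_le_normalizer_left N K₁ hn1
  have hn3 : K₂ ≤ normalizer ((N ⊔ K₁ : Subgroup G) : Set G) := by
    rw [le_normalizer_iff]
    intro y hy g hg
    have hg' : g ∈ ((N ⊔ K₁ : Subgroup G) : Set G) := hg
    rw [e1] at hg'
    obtain ⟨n, hn, x, hx, rfl⟩ := Set.mem_mul.1 hg'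
    have e : y * (n * x) * y⁻¹ = (y * n * y⁻¹) * (x * y * x⁻¹ * y⁻¹)⁻¹ * x := by group
    rw [e]
    exact mul_mem (mul_mem (mem_sup_left (h2 y hy n hn)) (mem_sup_left (inv_mem (hc x hx y hy))))
      (mem_sup_right hx)
  have e2 : (((N ⊔ K₁) ⊔ K₂ : Subgroup G) : Set G)
      = ((N ⊔ K₁ : Subgroup G) : Set G) * (K₂ : Set G) :=
    Subgroup.coe_mul_of_right_le_normalizer_left (N ⊔ K₁) K₂ hn3
  intro k hk
  refine ⟨fun n hn => le_normalizer_iff.1 hK k hk n hn, ?_⟩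
  have hk' : k ∈ (((N ⊔ K₁) ⊔ K₂ : Subgroup G) : Set G) := by
    have e : K₁ ⊔ K₂ ⊔ N = (N ⊔ K₁) ⊔ K₂ := by
      rw [sup_comm (K₁ ⊔ K₂) N, sup_assoc]
    rw [← e]; exact hk
  rw [e2] at hk'
  obtain ⟨g, hg, y, hy, rfl⟩ := Set.mem_mul.1 hk'
  have hg' : g ∈ ((N ⊔ K₁ : Subgroup G) : Set G) := hg
  rw [e1] at hg'
  obtain ⟨n, hn, x, hx, rfl⟩ := Set.mem_mul.1 hg'
  have e : (n * x * y) ^ 2
      = n * ((x * y) * n * (x * y)⁻¹) * ((x * y * x⁻¹ * y⁻¹) * (y * x ^ 2 * y⁻¹) * y ^ 2) := by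
    simp only [pow_two]
    group
  rw [e]
  have h3 : (x * y) * n * (x * y)⁻¹ ∈ N := by
    have e' : (x * y) * n * (x * y)⁻¹ = x * (y * n * y⁻¹) * x⁻¹ := by group
    rw [e']; exact h1 x hx _ (h2 y hy n hn)
  exact mul_mem (mul_mem hn h3) (mul_mem (mul_mem (hc x hx y hy) (h2 y hy _ (s1 x hx))) (s2 y hy))

/-- elements of a join of two elementwise commuting subgroups -/
theorem mem_sup_comm (H K : Subgroup G) (hc : ∀ h ∈ H, ∀ k ∈ K, h * k = k * h) {g : G}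
    (hg : g ∈ H ⊔ K) : ∃ h ∈ H, ∃ k ∈ K, g = h * k := by
  have hn : K ≤ normalizer (H : Set G) := by
    rw [le_normalizer_iff]
    intro k hk h hh
    rw [← hc h hh k hk, mul_inv_cancel_right]; exact hh
  have e := Subgroup.coe_mul_of_right_le_normalizer_left H K hn
  have hg' : g ∈ ((H ⊔ K : Subgroup G) : Set G) := hg
  rw [e] at hg'
  obtain ⟨h, hh, k, hk, rfl⟩ := Set.mem_mul.1 hg'
  exact ⟨h, hh, k, hk, rfl⟩

theorem card_sup_le [Finite G] (H K : Subgroup G) (hc : ∀ h ∈ H, ∀ k ∈ K, h * k = k * h) :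
    Nat.card ↥(H ⊔ K) ≤ Nat.card H * Nat.card K := by
  rw [← Nat.card_prod]
  apply Nat.card_le_card_of_surjective (fun p : ↥H × ↥K =>
    (⟨p.1.1 * p.2.1, mul_mem (mem_sup_left p.1.2) (mem_sup_right p.2.2)⟩ : ↥(H ⊔ K)))
  rintro ⟨g, hg⟩
  obtain ⟨h, hh, k, hk, rfl⟩ := mem_sup_comm H K hc hg
  exact ⟨(⟨h, hh⟩, ⟨k, hk⟩), rfl⟩

theorem card_sup_ge [Finite G] (H K : Subgroup G) (hd : H ⊓ K = ⊥) :
    Nat.card H * Nat.card K ≤ Nat.card ↥(H ⊔ K) := by
  rw [← Nat.card_prod]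
  apply Nat.card_le_card_of_injective (fun p : ↥H × ↥K =>
    (⟨p.1.1 * p.2.1, mul_mem (mem_sup_left p.1.2) (mem_sup_right p.2.2)⟩ : ↥(H ⊔ K)))
  rintro ⟨⟨a, ha⟩, ⟨b, hb⟩⟩ ⟨⟨a', ha'⟩, ⟨b', hb'⟩⟩ h
  have h' : a * b = a' * b' := congrArg Subtype.val h
  have h1 : a'⁻¹ * a = b' * b⁻¹ := by
    calc a'⁻¹ * a = a'⁻¹ * (a * b) * b⁻¹ := by group
      _ = a'⁻¹ * (a' * b') * b⁻¹ := by rw [h']
      _ = b' * b⁻¹ := by group
  have h2 : a'⁻¹ * a ∈ H ⊓ K :=
    Subgroup.mem_inf.2 ⟨mul_mem (inv_mem ha') ha, by rw [h1]; exact mul_mem hb' (inv_mem hb)⟩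
  rw [hd, Subgroup.mem_bot] at h2
  have ea : a = a' := (inv_mul_eq_one.1 h2).symm
  have eb : b = b' := by
    rw [h2] at h1
    exact (mul_inv_eq_one.1 h1.symm).symm
  subst ea; subst eb; rfl

theorem conj_mem_conjSub {g x : G} {E : Subgroup G} (hx : x ∈ E) :
    g * x * g⁻¹ ∈ KJ.conjSub g E := by
  rw [KJ.mem_conjSub]
  have e : g⁻¹ * (g * x * g⁻¹) * g = x := by group
  rw [e]; exact hx

theorem card_conjSub (g : G) (E : Subgroup G) : Nat.card (KJ.conjSub g E) = Nat.card E :=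
  Subgroup.card_map_of_injective (f := (MulAut.conj g).toMonoidHom) (MulAut.conj g).injective

/-- conjugation by `g` maps a join into `L` if it maps both factors into `L` -/
theorem conj_sup {H K L : Subgroup G} {g : G} (hH : ∀ x ∈ H, g * x * g⁻¹ ∈ L)
    (hK : ∀ x ∈ K, g * x * g⁻¹ ∈ L) : ∀ x ∈ H ⊔ K, g * x * g⁻¹ ∈ L := by
  have h : H ⊔ K ≤ L.comap (MulAut.conj g).toMonoidHom :=
    sup_le (fun x hx => Subgroup.mem_comap.2 (hH x hx)) (fun x hx => Subgroup.mem_comap.2 (hK x hx))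
  intro x hx
  exact Subgroup.mem_comap.1 (h hx)

theorem comm_sup {H K : Subgroup G} {c : G} (hH : ∀ x ∈ H, x * c = c * x)
    (hK : ∀ x ∈ K, x * c = c * x) : ∀ x ∈ H ⊔ K, x * c = c * x := by
  have h : H ⊔ K ≤ Subgroup.centralizer {c} :=
    sup_le (fun x hx => Subgroup.mem_centralizer_iff.2 (fun y hy => by
        rw [Set.mem_singleton_iff.1 hy]; exact (hH x hx).symm))
      (fun x hx => Subgroup.mem_centralizer_iff.2 (fun y hy => by
        rw [Set.mem_singleton_iff.1 hy]; exact (hK x hx).symm))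
  intro x hx
  exact (Subgroup.mem_centralizer_iff.1 (h hx) c rfl).symm

/-- elementwise commuting subgroups normalise each other inside the join -/
theorem nrm_of_comm {H K : Subgroup G} (hc : ∀ a ∈ H, ∀ b ∈ K, a * b = b * a) :
    (∀ g ∈ H ⊔ K, ∀ x ∈ H, g * x * g⁻¹ ∈ H) ∧ (∀ g ∈ H ⊔ K, ∀ x ∈ K, g * x * g⁻¹ ∈ K) := by
  constructor
  · exact le_normalizer_iff.1 (sup_le le_normalizer (le_normalizer_iff.2 (fun b hb a ha => by
      rw [← hc a ha b hb, mul_inv_cancel_right]; exact ha)))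
  · exact le_normalizer_iff.1 (sup_le (le_normalizer_iff.2 (fun a ha b hb => by
      rw [hc a ha b hb, mul_inv_cancel_right]; exact hb)) le_normalizer)

/-- the subgroup generated by the squares -/
def Sq (Q : Subgroup G) : Subgroup G := Subgroup.closure {y | ∃ x ∈ Q, y = x ^ 2}

theorem sq_mem {Q : Subgroup G} {x : G} (hx : x ∈ Q) : x ^ 2 ∈ Sq Q :=
  Subgroup.subset_closure ⟨x, hx, rfl⟩

theorem sq_le (Q : Subgroup G) : Sq Q ≤ Q := by
  unfold Sq
  rw [Subgroup.closure_le]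
  rintro _ ⟨x, hx, rfl⟩
  exact Q.pow_mem hx 2

theorem sq_conj {Q : Subgroup G} {g : G} (hg : ∀ x ∈ Q, g * x * g⁻¹ ∈ Q) :
    ∀ y ∈ Sq Q, g * y * g⁻¹ ∈ Sq Q := by
  have h : Sq Q ≤ (Sq Q).comap (MulAut.conj g).toMonoidHom := by
    unfold Sq
    rw [Subgroup.closure_le]
    rintro _ ⟨x, hx, rfl⟩
    rw [SetLike.mem_coe, Subgroup.mem_comap]
    have e : (MulAut.conj g).toMonoidHom (x ^ 2) = (g * x * g⁻¹) ^ 2 := by
      show g * x ^ 2 * g⁻¹ = _
      rw [pow_two, pow_two]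
      group
    rw [e]; exact Subgroup.subset_closure ⟨_, hg x hx, rfl⟩
  intro y hy
  exact Subgroup.mem_comap.1 (h hy)

theorem sq_cent {Q : Subgroup G} {g : G} (hg : ∀ x ∈ Q, g * x ^ 2 = x ^ 2 * g) :
    ∀ y ∈ Sq Q, g * y = y * g := by
  have h : Sq Q ≤ Subgroup.centralizer {g} := by
    unfold Sq
    rw [Subgroup.closure_le]
    rintro _ ⟨x, hx, rfl⟩
    rw [SetLike.mem_coe, Subgroup.mem_centralizer_iff]
    intro h hh
    rw [Set.mem_singleton_iff.1 hh]; exact hg x hx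
  intro y hy
  exact Subgroup.mem_centralizer_iff.1 (h hy) g rfl

/-- a non-abelian 2-group has index at least 4 over the subgroup generated by its squares -/
theorem sq4 [Finite G] (hG : IsPGroup 2 G) {Q : Subgroup G}
    (hnab : ∃ a ∈ Q, ∃ b ∈ Q, a * b ≠ b * a) : 4 * Nat.card (Sq Q) ≤ Nat.card Q := by
  have : Fact (Nat.Prime 2) := ⟨Nat.prime_two⟩
  have hQ : IsPGroup 2 ↥Q := hG.to_subgroup Q
  obtain ⟨a, ha, b, hb, hab⟩ := hnab
  have hcyc : ∀ g : ↥Q, Subgroup.zpowers g ≠ ⊤ := by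
    intro g e
    have h1 : (⟨a, ha⟩ : ↥Q) ∈ Subgroup.zpowers g := by rw [e]; exact Subgroup.mem_top _
    have h2 : (⟨b, hb⟩ : ↥Q) ∈ Subgroup.zpowers g := by rw [e]; exact Subgroup.mem_top _
    obtain ⟨i, hi⟩ := Subgroup.mem_zpowers_iff.1 h1
    obtain ⟨j, hj⟩ := Subgroup.mem_zpowers_iff.1 h2
    have h3 : (⟨a, ha⟩ : ↥Q) * ⟨b, hb⟩ = ⟨b, hb⟩ * ⟨a, ha⟩ := by
      rw [← hi, ← hj]; exact ((Commute.refl g).zpow_zpow i j).eq
    exact hab (congrArg Subtype.val h3)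
  obtain ⟨M₁, hM₁, -⟩ := KJ.exists_max hQ (Subgroup.zpowers (1 : ↥Q)) (hcyc 1)
  have hc : ∃ c : ↥Q, c ∉ M₁ := by
    by_contra hcon
    push Not at hcon
    have : M₁ = ⊤ := (Subgroup.eq_top_iff' M₁).2 hcon
    rw [this, Subgroup.index_top] at hM₁
    exact absurd hM₁ (by norm_num)
  obtain ⟨c, hc⟩ := hc
  obtain ⟨M₂, hM₂, hcM₂⟩ := KJ.exists_max hQ (Subgroup.zpowers c) (hcyc c)
  have hcm : c ∈ M₂ := hcM₂ (Subgroup.mem_zpowers c)
  have hlt1 : M₁ ⊓ M₂ < M₂ := by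
    refine lt_of_le_of_ne inf_le_right (fun e => hc ?_)
    have : c ∈ M₁ ⊓ M₂ := by rw [e]; exact hcm
    exact (Subgroup.mem_inf.1 this).1
  have hlt2 : M₂ < ⊤ := by
    refine lt_of_le_of_ne le_top (fun e => ?_)
    rw [e, Subgroup.index_top] at hM₂
    exact absurd hM₂ (by norm_num)
  have c1 := KJ.card_lt_pgroup hQ hlt1
  have c2 := KJ.card_lt_pgroup hQ hlt2
  rw [Subgroup.card_top] at c2
  have hle : Sq Q ≤ (M₁ ⊓ M₂).map Q.subtype := by
    unfold Sq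
    rw [Subgroup.closure_le]
    rintro _ ⟨x, hx, rfl⟩
    exact ⟨⟨x, hx⟩ ^ 2, Subgroup.mem_inf.2 ⟨Subgroup.sq_mem_of_index_two hM₁ _,
      Subgroup.sq_mem_of_index_two hM₂ _⟩, rfl⟩
  have c3 := Subgroup.card_le_of_le hle
  rw [Subgroup.card_map_of_injective Q.subtype_injective] at c3
  omega

/-- squares commute across an "almost commuting" pair -/
theorem sqc1 {p q c : G} (hc2 : c * c = 1) (hqc : q * c = c * q)
    (h : p * q = q * p ∨ p * q = c * (q * p)) : p * q ^ 2 = q ^ 2 * p := by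
  rcases h with h | h
  · exact ((show Commute p q from h).pow_right 2).eq
  · calc p * q ^ 2 = p * q * q := by rw [pow_two, mul_assoc]
      _ = c * (q * p) * q := by rw [h]
      _ = c * (q * (p * q)) := by group
      _ = c * (q * (c * (q * p))) := by rw [h]
      _ = c * ((q * c) * (q * p)) := by group
      _ = c * ((c * q) * (q * p)) := by rw [hqc]
      _ = (c * c) * (q ^ 2 * p) := by rw [pow_two]; group
      _ = q ^ 2 * p := by rw [hc2, one_mul]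

end Cfsg.Agent.Helper10.SR4
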