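import Mathlib
import Cfsg.Agent.Helper10.SR4a

set_option autoImplicit false

/-! # Commuting involutory automorphisms of odd order groups (helper10)

Fixed points lift, a nilpotent group of odd order is generated by the fixed points of the three
involutions of a four-group of automorphisms, an involutory automorphism of a cyclic `p`-group
fixes or inverts a generator, a fixed-point-free involutory automorphism forces commutativity. -/

namespace Cfsg.Agent.Helper10.E8

variable {P : Type*} [Group P] [Finite P]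

/-- square roots in groups of odd order -/
theorem exists_sqrt (hodd : Odd (Nat.card P)) : ∃ m : ℕ, ∀ u : P, (u ^ m) ^ 2 = u := by
  obtain ⟨k, hk⟩ := hodd
  refine ⟨k + 1, fun u => ?_⟩
  have h1 : u ^ Nat.card P = 1 := pow_card_eq_one'
  rw [← pow_mul]
  have e : (k + 1) * 2 = Nat.card P + 1 := by omega
  rw [e, pow_succ, h1, one_mul]

theorem eq_one_of_sq (hodd : Odd (Nat.card P)) {x : P} (h : x * x = 1) : x = 1 := by
  obtain ⟨m, hm⟩ := exists_sqrt (P := P) hodd
  have h1 := hm x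
  rw [← pow_mul, mul_comm, pow_mul, pow_two, h, one_pow] at h1
  exact h1.symm

theorem eq_one_of_eq_inv (hodd : Odd (Nat.card P)) {x : P} (h : x = x⁻¹) : x = 1 :=
  eq_one_of_sq hodd (mul_eq_one_iff_eq_inv.2 h)

theorem mem_of_sq (hodd : Odd (Nat.card P)) (D : Subgroup P) {x : P} (h : x ^ 2 ∈ D) : x ∈ D := by
  obtain ⟨m, hm⟩ := exists_sqrt (P := P) hodd
  have h1 : (x ^ 2) ^ m = x := by
    rw [← pow_mul, mul_comm, pow_mul]; exact hm x
  rw [← h1]; exact pow_mem h m

/-- fixed points of an involutory automorphism lift -/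
theorem lift (hodd : Odd (Nat.card P)) (S : MulAut P) (hS : ∀ x, S (S x) = x) (N : Subgroup P)
    (e : P) (he : e⁻¹ * S e ∈ N) : ∃ c w, S c = c ∧ S w = w⁻¹ ∧ w ∈ N ∧ e = c * w := by
  obtain ⟨m, hm⟩ := exists_sqrt (P := P) hodd
  have hu : S (e⁻¹ * S e) = (e⁻¹ * S e)⁻¹ := by
    rw [map_mul, map_inv, hS, mul_inv_rev, inv_inv]
  have ht : S ((e⁻¹ * S e) ^ m) = ((e⁻¹ * S e) ^ m)⁻¹ := by
    rw [map_pow, hu, inv_pow]
  have htt : (e⁻¹ * S e) ^ m * (e⁻¹ * S e) ^ m = e⁻¹ * S e := by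
    rw [← pow_two]; exact hm _
  refine ⟨e * (e⁻¹ * S e) ^ m, ((e⁻¹ * S e) ^ m)⁻¹, ?_, ?_, inv_mem (pow_mem he m), ?_⟩
  · rw [map_mul, ht]
    have e1 : S e = e * ((e⁻¹ * S e) ^ m * (e⁻¹ * S e) ^ m) := by rw [htt]; group
    generalize (e⁻¹ * S e) ^ m = t at e1 ⊢
    rw [e1]; group
  · rw [map_inv, ht, inv_inv]
  · group

theorem char_mem (n : ℕ) (S : MulAut P) {x : P} (hx : x ∈ Subgroup.upperCentralSeries P n) :
    S x ∈ Subgroup.upperCentralSeries P n := by
  have hfix := Subgroup.Characteristic.fixed (H := Subgroup.upperCentralSeries P n) inferInstance S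
  have h1 : x ∈ Subgroup.comap S.toMonoidHom (Subgroup.upperCentralSeries P n) := by
    rw [hfix]; exact hx
  exact Subgroup.mem_comap.1 h1

theorem cen_of_mem (k : ℕ) {z : P} (hz : z ∈ Subgroup.upperCentralSeries P (k + 1))
    (q : P ⧸ Subgroup.upperCentralSeries P k) :
    QuotientGroup.mk' (Subgroup.upperCentralSeries P k) z * q
      = q * QuotientGroup.mk' (Subgroup.upperCentralSeries P k) z := by
  obtain ⟨x, rfl⟩ := QuotientGroup.mk'_surjective _ q
  have h := Subgroup.mem_upperCentralSeries_succ_iff.1 hz x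
  rw [commutatorElement_def] at h
  have h' : QuotientGroup.mk' (Subgroup.upperCentralSeries P k) (z * x * z⁻¹ * x⁻¹) = 1 :=
    (QuotientGroup.eq_one_iff _).2 h
  rw [map_mul, map_mul, map_mul, map_inv, map_inv] at h'
  generalize QuotientGroup.mk' (Subgroup.upperCentralSeries P k) z = a at h' ⊢
  generalize QuotientGroup.mk' (Subgroup.upperCentralSeries P k) x = b at h' ⊢
  calc a * b = (a * b * a⁻¹ * b⁻¹) * (b * a) := by group
    _ = b * a := by rw [h', one_mul]

theorem split (hodd : Odd (Nat.card P)) (k : ℕ) (S : MulAut P) (hS : ∀ x, S (S x) = x)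
    (D : Subgroup P) (hZ : Subgroup.upperCentralSeries P k ≤ D) (dS : ∀ x, S x = x → x ∈ D)
    {y : P} (hy : y ∈ Subgroup.upperCentralSeries P (k + 1)) : y * S y ∈ D := by
  have h1 : (QuotientGroup.mk' (Subgroup.upperCentralSeries P k) (y * S y))
      = QuotientGroup.mk' (Subgroup.upperCentralSeries P k) (S (y * S y)) := by
    rw [map_mul S, hS, map_mul, map_mul]
    exact cen_of_mem k hy _
  have h2 : (y * S y)⁻¹ * S (y * S y) ∈ Subgroup.upperCentralSeries P k := QuotientGroup.eq.1 h1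
  obtain ⟨c, w, hc, -, hw, he⟩ := lift hodd S hS _ _ h2
  rw [he]
  exact mul_mem (dS c hc) (hZ hw)

theorem sq_mem (k : ℕ) (D : Subgroup P) (hZ : Subgroup.upperCentralSeries P k ≤ D) (y y' : P)
    (hy' : y' ∈ Subgroup.upperCentralSeries P (k + 1)) (hf : y * y' ∈ D) (hg : y * y'⁻¹ ∈ D) :
    y ^ 2 ∈ D := by
  have h1 : (QuotientGroup.mk' (Subgroup.upperCentralSeries P k) ((y * y') * (y * y'⁻¹)))
      = QuotientGroup.mk' (Subgroup.upperCentralSeries P k) (y ^ 2) := by
    rw [map_mul, map_mul, map_mul, map_inv, map_pow]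
    have hc := cen_of_mem k hy' (QuotientGroup.mk' (Subgroup.upperCentralSeries P k) y)
    generalize QuotientGroup.mk' (Subgroup.upperCentralSeries P k) y = a at hc ⊢
    generalize QuotientGroup.mk' (Subgroup.upperCentralSeries P k) y' = b at hc ⊢
    calc a * b * (a * b⁻¹) = a * (b * a) * b⁻¹ := by group
      _ = a * (a * b) * b⁻¹ := by rw [hc]
      _ = a ^ 2 := by rw [pow_two, mul_assoc, mul_assoc, mul_inv_cancel, mul_one]
  have h2 : ((y * y') * (y * y'⁻¹))⁻¹ * y ^ 2 ∈ Subgroup.upperCentralSeries P k :=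
    QuotientGroup.eq.1 h1
  have e : y ^ 2 = ((y * y') * (y * y'⁻¹)) * (((y * y') * (y * y'⁻¹))⁻¹ * y ^ 2) := by group
  rw [e]
  exact mul_mem (mul_mem hf hg) (hZ h2)

/-- a nilpotent group of odd order is generated by the fixed points of three commuting
involutory automorphisms `S₁`, `S₂`, `S₁ S₂` -/
theorem gen4 [Group.IsNilpotent P] (hodd : Odd (Nat.card P)) (S₁ S₂ : MulAut P)
    (h1 : ∀ x, S₁ (S₁ x) = x) (h2 : ∀ x, S₂ (S₂ x) = x) (h12 : ∀ x, S₁ (S₂ x) = S₂ (S₁ x))
    (D : Subgroup P) (d1 : ∀ x, S₁ x = x → x ∈ D) (d2 : ∀ x, S₂ x = x → x ∈ D)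
    (d3 : ∀ x, S₁ (S₂ x) = x → x ∈ D) : D = ⊤ := by
  have key : ∀ k, Subgroup.upperCentralSeries P k ≤ D := by
    intro k
    induction k with
    | zero => rw [Subgroup.upperCentralSeries_zero]; exact bot_le
    | succ k ih =>
      intro y hy
      have hS1y := char_mem (k + 1) S₁ hy
      have hf : y * S₁ y ∈ D := split hodd k S₁ h1 D ih d1 hy
      have hgZ : y * (S₁ y)⁻¹ ∈ Subgroup.upperCentralSeries P (k + 1) :=
        mul_mem hy (inv_mem hS1y)
      have hS1g : S₁ (y * (S₁ y)⁻¹) = (y * (S₁ y)⁻¹)⁻¹ := by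
        rw [map_mul, map_inv, h1, mul_inv_rev, inv_inv]
      have hf2 : y * (S₁ y)⁻¹ * S₂ (y * (S₁ y)⁻¹) ∈ D := split hodd k S₂ h2 D ih d2 hgZ
      have h3 : ∀ x, (S₁ * S₂) ((S₁ * S₂) x) = x := by
        intro x
        rw [MulAut.mul_apply, MulAut.mul_apply, h12 (S₁ (S₂ x)), h1, h2]
      have hh : y * (S₁ y)⁻¹ * (S₁ * S₂) (y * (S₁ y)⁻¹) ∈ D :=
        split hodd k (S₁ * S₂) h3 D ih (fun x hx => d3 x hx) hgZ
      have hS3g : (S₁ * S₂) (y * (S₁ y)⁻¹) = (S₂ (y * (S₁ y)⁻¹))⁻¹ := by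
        rw [MulAut.mul_apply, h12, hS1g, map_inv]
      rw [hS3g] at hh
      have hg2 : (y * (S₁ y)⁻¹) ^ 2 ∈ D :=
        sq_mem k D ih _ _ (char_mem (k + 1) S₂ hgZ) hf2 hh
      have hg : y * (S₁ y)⁻¹ ∈ D := mem_of_sq hodd D hg2
      have hy2 : y ^ 2 ∈ D := sq_mem k D ih y (S₁ y) hS1y hf hg
      exact mem_of_sq hodd D hy2
  obtain ⟨n, hn⟩ := Group.IsNilpotent.nilpotent P
  exact eq_top_iff.2 (hn ▸ key n)

/-- an involutory automorphism of a `p`-group (p odd) mapping `g` into `⟨g⟩` fixes or inverts `g` -/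
theorem pm (p : ℕ) [Fact p.Prime] (hP : IsPGroup p P) (hodd : Odd (Nat.card P)) (T : MulAut P)
    (hT : ∀ x, T (T x) = x) (g : P) (hg : T g ∈ Subgroup.zpowers g) : T g = g ∨ T g = g⁻¹ := by
  obtain ⟨c, w, hc, hw, hwN, hgcw⟩ := lift hodd T hT (Subgroup.zpowers g) g
    (mul_mem (inv_mem (Subgroup.mem_zpowers g)) hg)
  have hcN : c ∈ Subgroup.zpowers g := by
    have e : c = g * w⁻¹ := by rw [hgcw]; group
    rw [e]; exact mul_mem (Subgroup.mem_zpowers g) (inv_mem hwN)
  have hcomm : Commute c w := by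
    obtain ⟨i, hi⟩ := Subgroup.mem_zpowers_iff.1 hcN
    obtain ⟨j, hj⟩ := Subgroup.mem_zpowers_iff.1 hwN
    rw [← hi, ← hj]; exact (Commute.refl g).zpow_zpow i j
  obtain ⟨i, hi⟩ := IsPGroup.iff_orderOf.1 hP c
  obtain ⟨j, hj⟩ := IsPGroup.iff_orderOf.1 hP w
  rcases le_total i j with hij | hij
  · right
    have hc1 : c ^ (p ^ j) = 1 := by
      apply orderOf_dvd_iff_pow_eq_one.1; rw [hi]; exact pow_dvd_pow p hij
    have hw1 : w ^ (p ^ j) = 1 := by rw [← hj]; exact pow_orderOf_eq_one w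
    have hg1 : g ^ (p ^ j) = 1 := by rw [hgcw, hcomm.mul_pow, hc1, hw1, one_mul]
    have hdvd : orderOf g ∣ orderOf w := by rw [hj]; exact orderOf_dvd_of_pow_eq_one hg1
    have hle : Subgroup.zpowers w ≤ Subgroup.zpowers g := Subgroup.zpowers_le.2 hwN
    have heq : Subgroup.zpowers w = Subgroup.zpowers g := by
      apply Subgroup.eq_of_le_of_card_ge hle
      rw [Nat.card_zpowers, Nat.card_zpowers]
      exact Nat.le_of_dvd (orderOf_pos w) hdvd
    have hgw : g ∈ Subgroup.zpowers w := by rw [heq]; exact Subgroup.mem_zpowers g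
    obtain ⟨n, hn⟩ := Subgroup.mem_zpowers_iff.1 hgw
    rw [← hn, map_zpow, hw, inv_zpow]
  · left
    have hw1 : w ^ (p ^ i) = 1 := by
      apply orderOf_dvd_iff_pow_eq_one.1; rw [hj]; exact pow_dvd_pow p hij
    have hc1 : c ^ (p ^ i) = 1 := by rw [← hi]; exact pow_orderOf_eq_one c
    have hg1 : g ^ (p ^ i) = 1 := by rw [hgcw, hcomm.mul_pow, hc1, hw1, one_mul]
    have hdvd : orderOf g ∣ orderOf c := by rw [hi]; exact orderOf_dvd_of_pow_eq_one hg1
    have hle : Subgroup.zpowers c ≤ Subgroup.zpowers g := Subgroup.zpowers_le.2 hcN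
    have heq : Subgroup.zpowers c = Subgroup.zpowers g := by
      apply Subgroup.eq_of_le_of_card_ge hle
      rw [Nat.card_zpowers, Nat.card_zpowers]
      exact Nat.le_of_dvd (orderOf_pos c) hdvd
    have hgc : g ∈ Subgroup.zpowers c := by rw [heq]; exact Subgroup.mem_zpowers g
    obtain ⟨n, hn⟩ := Subgroup.mem_zpowers_iff.1 hgc
    rw [← hn, map_zpow, hc]

/-- a fixed-point-free involutory automorphism of an odd order subgroup forces commutativity -/
theorem fpf_comm (hodd : Odd (Nat.card P)) (S : MulAut P) (hS : ∀ x, S (S x) = x)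
    (X : Subgroup P) (hX : ∀ x ∈ X, S x ∈ X) (hfpf : ∀ x ∈ X, S x = x → x = 1) :
    ∀ x ∈ X, ∀ y ∈ X, x * y = y * x := by
  have hinv : ∀ x ∈ X, S x = x⁻¹ := by
    intro x hx
    obtain ⟨c, w, hc, hw, hwN, hxcw⟩ := lift hodd S hS X x (mul_mem (inv_mem hx) (hX x hx))
    have hcX : c ∈ X := by
      have e : c = x * w⁻¹ := by rw [hxcw]; group
      rw [e]; exact mul_mem hx (inv_mem hwN)
    have hc1 := hfpf c hcX hc
    rw [hxcw, hc1, one_mul]; exact hw
  intro x hx y hy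
  have h1 := hinv (x * y) (mul_mem hx hy)
  rw [map_mul, hinv x hx, hinv y hy, mul_inv_rev] at h1
  have h2 := congrArg (fun t => t⁻¹) h1
  simp only [mul_inv_rev, inv_inv] at h2
  exact h2.symm

/-- the fixed points of an automorphism -/
def fixSub (T : MulAut P) : Subgroup P where
  carrier := {x | T x = x}
  mul_mem' := by
    intro a b ha hb
    show T (a * b) = a * b
    rw [map_mul, show T a = a from ha, show T b = b from hb]
  one_mem' := map_one T
  inv_mem' := by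
    intro a ha
    show T a⁻¹ = a⁻¹
    rw [map_inv, show T a = a from ha]

theorem mem_fixSub {T : MulAut P} {x : P} : x ∈ fixSub T ↔ T x = x := Iff.rfl

theorem inv_on {T : MulAut P} {g : P} (h : T g = g⁻¹) {x : P} (hx : x ∈ Subgroup.zpowers g) :
    T x = x⁻¹ := by
  obtain ⟨n, hn⟩ := Subgroup.mem_zpowers_iff.1 hx
  rw [← hn, map_zpow, h, inv_zpow]

theorem fix_on {T : MulAut P} {g : P} (h : T g = g) {x : P} (hx : x ∈ Subgroup.zpowers g) :
    T x = x := by
  obtain ⟨n, hn⟩ := Subgroup.mem_zpowers_iff.1 hx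
  rw [← hn, map_zpow, h]

end Cfsg.Agent.Helper10.E8
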