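import Mathlib
import Cfsg.Prelude.Def_Transfer
import Cfsg.Agent.Helper10.SR4a
import Cfsg.Agent.Helper10.E8a

set_option autoImplicit false

/-! # Elementary abelian groups of order 8 acting on odd `p`-groups (helper10)

Auxiliary lemmas for statement S4412: combinatorics of the group of order 8, sign patterns on three
generators, commutativity, the rank bounds. -/

namespace Cfsg.Agent.Helper10.E8

/-- a subgroup of order 8 is not covered by a list of fewer than 8 elements -/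
theorem exists_outside {G : Type*} [Group G] (I : Subgroup G) (hI8 : Nat.card ↥I = 8)
    (L : List G) (hL : L.length < 8) : ∃ S ∈ I, S ∉ L := by
  classical
  by_contra hcon
  push Not at hcon
  have hinj : Function.Injective
      (fun x : ↥I => (⟨x.1, List.mem_toFinset.2 (hcon x.1 x.2)⟩ : {y // y ∈ L.toFinset})) := by
    intro a b hab
    exact Subtype.ext (congrArg (fun t : {y // y ∈ L.toFinset} => t.1) hab)
  have h1 := Nat.card_le_card_of_injective _ hinj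
  rw [hI8, Nat.card_eq_fintype_card, Fintype.card_coe] at h1
  have h2 := List.toFinset_card_le L
  omega

/-- in the setting of S4412 there is a four-group all of whose involutions satisfy `C` -/
theorem exists_v4 {G : Type*} [Group G] (I I₀ : Subgroup G)
    (hIc : ∀ a ∈ I, ∀ b ∈ I, a * b = b * a) (hIs : ∀ a ∈ I, a * a = 1) (hI8 : Nat.card ↥I = 8)
    (hle : I₀ ≤ I)
    (C : G → Prop) (hdisj : ∀ T ∈ I₀, T ≠ 1 → C T)
    (hprod : ∀ T ∈ I, ∀ T' ∈ I, T ≠ 1 → T' ≠ 1 → ¬ C T → ¬ C T' → T * T' ∈ I₀) :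
    ∃ S₁ ∈ I, ∃ S₂ ∈ I, C S₁ ∧ C S₂ ∧ C (S₁ * S₂) := by
  have hsolve : ∀ a b c : G, a * a = 1 → a * b = c → b = a * c := by
    intro a b c ha h
    rw [← h, ← mul_assoc, ha, one_mul]
  by_cases hB : ∃ T₀, T₀ ∈ I ∧ T₀ ≠ 1 ∧ ¬ C T₀
  · obtain ⟨T₀, hT₀I, hT₀1, hT₀C⟩ := hB
    have key : ∀ T ∈ I, T ≠ 1 → ¬ C T → T₀ * T ∈ I₀ := fun T hT hT1 hTC =>
      hprod T₀ hT₀I T hT hT₀1 hT1 hT₀C hTC
    by_cases hj : ∃ j, j ∈ I₀ ∧ j ≠ 1
    · obtain ⟨j, hjI₀, hj1⟩ := hj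
      have hjI := hle hjI₀
      by_cases hk : ∃ k, k ∈ I₀ ∧ k ≠ 1 ∧ k ≠ j
      · obtain ⟨k, hkI₀, hk1, hkj⟩ := hk
        refine ⟨j, hjI, k, hle hkI₀, hdisj j hjI₀ hj1, hdisj k hkI₀ hk1,
          hdisj _ (mul_mem hjI₀ hkI₀) ?_⟩
        intro h
        have h' := hsolve j k 1 (hIs j hjI) h
        rw [mul_one] at h'
        exact hkj h'
      · have hk' : ∀ k ∈ I₀, k = 1 ∨ k = j := by
          intro k hk0
          by_contra hcon
          rw [not_or] at hcon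
          exact hk ⟨k, hk0, hcon.1, hcon.2⟩
        have hbr : ∀ T ∈ I, T ≠ 1 → T ≠ T₀ → T ≠ T₀ * j → C T := by
          intro T hT hT1 hTT₀ hTj
          by_contra hTC
          rcases hk' _ (key T hT hT1 hTC) with h | h
          · have h' := hsolve T₀ T 1 (hIs T₀ hT₀I) h
            rw [mul_one] at h'
            exact hTT₀ h'
          · exact hTj (hsolve T₀ T j (hIs T₀ hT₀I) h)
        obtain ⟨S, hSI, hS⟩ := exists_outside I hI8 [1, j, T₀, T₀ * j] (by simp)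
        simp only [List.mem_cons, List.not_mem_nil, or_false, not_or] at hS
        obtain ⟨hS1, hSj, hST₀, hSTj⟩ := hS
        refine ⟨j, hjI, S, hSI, hdisj j hjI₀ hj1, hbr S hSI hS1 hST₀ hSTj,
          hbr _ (mul_mem hjI hSI) ?_ ?_ ?_⟩
        · intro h
          have h' := hsolve j S 1 (hIs j hjI) h
          rw [mul_one] at h'
          exact hSj h'
        · intro h
          have h' := hsolve j S T₀ (hIs j hjI) h
          rw [hIc j hjI T₀ hT₀I] at h'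
          exact hSTj h'
        · intro h
          rw [hIc T₀ hT₀I j hjI] at h
          exact hST₀ (mul_left_cancel h)
    · have hj' : ∀ j ∈ I₀, j = 1 := by
        intro j hj0
        by_contra hcon
        exact hj ⟨j, hj0, hcon⟩
      have hbr : ∀ T ∈ I, T ≠ 1 → T ≠ T₀ → C T := by
        intro T hT hT1 hTT₀
        by_contra hTC
        have h := hj' _ (key T hT hT1 hTC)
        have h' := hsolve T₀ T 1 (hIs T₀ hT₀I) h
        rw [mul_one] at h'
        exact hTT₀ h'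
      obtain ⟨S₁, hS₁I, hS₁⟩ := exists_outside I hI8 [1, T₀] (by simp)
      simp only [List.mem_cons, List.not_mem_nil, or_false, not_or] at hS₁
      obtain ⟨hS₁1, hS₁T₀⟩ := hS₁
      obtain ⟨S₂, hS₂I, hS₂⟩ := exists_outside I hI8 [1, T₀, S₁, S₁ * T₀] (by simp)
      simp only [List.mem_cons, List.not_mem_nil, or_false, not_or] at hS₂
      obtain ⟨hS₂1, hS₂T₀, hS₂S₁, hS₂ST⟩ := hS₂
      refine ⟨S₁, hS₁I, S₂, hS₂I, hbr S₁ hS₁I hS₁1 hS₁T₀, hbr S₂ hS₂I hS₂1 hS₂T₀,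
        hbr _ (mul_mem hS₁I hS₂I) ?_ ?_⟩
      · intro h
        have h' := hsolve S₁ S₂ 1 (hIs S₁ hS₁I) h
        rw [mul_one] at h'
        exact hS₂S₁ h'
      · intro h
        exact hS₂ST (hsolve S₁ S₂ T₀ (hIs S₁ hS₁I) h)
  · have hB' : ∀ T ∈ I, T ≠ 1 → C T := by
      intro T hT hT1
      by_contra hcon
      exact hB ⟨T, hT, hT1, hcon⟩
    obtain ⟨S₁, hS₁I, hS₁⟩ := exists_outside I hI8 [1] (by simp)
    simp only [List.mem_cons, List.not_mem_nil, or_false] at hS₁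
    obtain ⟨S₂, hS₂I, hS₂⟩ := exists_outside I hI8 [1, S₁] (by simp)
    simp only [List.mem_cons, List.not_mem_nil, or_false, not_or] at hS₂
    obtain ⟨hS₂1, hS₂S₁⟩ := hS₂
    refine ⟨S₁, hS₁I, S₂, hS₂I, hB' S₁ hS₁I hS₁, hB' S₂ hS₂I hS₂1, hB' _ (mul_mem hS₁I hS₂I) ?_⟩
    intro h
    have h' := hsolve S₁ S₂ 1 (hIs S₁ hS₁I) h
    rw [mul_one] at h'
    exact hS₂S₁ h'

/-- eight elements realise all sign patterns -/
theorem exists_pattern {α : Type*} (h8 : Nat.card α = 8) (A₁ A₂ A₃ : α → Prop)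
    (hinj : ∀ T T' : α, (A₁ T ↔ A₁ T') → (A₂ T ↔ A₂ T') → (A₃ T ↔ A₃ T') → T = T')
    (b₁ b₂ b₃ : Prop) : ∃ T : α, (A₁ T ↔ b₁) ∧ (A₂ T ↔ b₂) ∧ (A₃ T ↔ b₃) := by
  classical
  let f : α → Bool × Bool × Bool := fun T => (decide (A₁ T), decide (A₂ T), decide (A₃ T))
  have hf : Function.Injective f := by
    intro T T' h
    simp only [f, Prod.mk.injEq, decide_eq_decide] at h
    exact hinj T T' h.1 h.2.1 h.2.2
  have hbij : Function.Bijective f := hf.bijective_of_nat_card_le (by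
    rw [h8]; simp [Nat.card_eq_fintype_card])
  obtain ⟨T, hT⟩ := hbij.2 (decide b₁, decide b₂, decide b₃)
  simp only [f, Prod.mk.injEq, decide_eq_decide] at hT
  exact ⟨T, hT⟩

variable {P : Type*} [Group P] [Finite P]

theorem agree {g a b : P} (ha : a = g ∨ a = g⁻¹) (hb : b = g ∨ b = g⁻¹) (e : a = g ↔ b = g) :
    a = b := by
  rcases ha with ha | ha
  · rw [ha, e.1 ha]
  · rcases hb with hb | hb
    · rw [e.2 hb, hb]
    · rw [ha, hb]

theorem dich (p : ℕ) [Fact p.Prime] (hP : IsPGroup p P) (hodd : Odd (Nat.card P))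
    (S T : MulAut P) (hT : ∀ x, T (T x) = x) (hST : ∀ x, S (T x) = T (S x)) (g : P)
    (hg : ∀ x, S x = x ↔ x ∈ Subgroup.zpowers g) : T g = g ∨ T g = g⁻¹ := by
  apply pm p hP hodd T hT g
  rw [← hg, hST, (hg g).2 (Subgroup.mem_zpowers g)]

theorem ext_gen {g₁ g₂ g₃ : P} (hgen : Subgroup.closure {g₁, g₂, g₃} = ⊤) (T T' : MulAut P)
    (h1 : T g₁ = T' g₁) (h2 : T g₂ = T' g₂) (h3 : T g₃ = T' g₃) : T = T' := by
  have h : T.toMonoidHom = T'.toMonoidHom := by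
    apply MonoidHom.eq_of_eqOn_dense hgen
    intro x hx
    simp only [Set.mem_insert_iff, Set.mem_singleton_iff] at hx
    rcases hx with hx | hx | hx
    · rw [hx]; exact h1
    · rw [hx]; exact h2
    · rw [hx]; exact h3
  exact MulEquiv.ext fun x => DFunLike.congr_fun h x

theorem comm_pair (hodd : Odd (Nat.card P)) (S T : MulAut P) (hS : ∀ x, S (S x) = x)
    (hST : ∀ x, S (T x) = T (S x)) (g : P) (hg : ∀ x, S x = x ↔ x ∈ Subgroup.zpowers g)
    (hTg : T g = g⁻¹) {x y : P} (hx : T x = x) (hy : T y = y) : x * y = y * x := by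
  refine fpf_comm hodd S hS (fixSub T) ?_ ?_ x hx y hy
  · intro z hz
    show T (S z) = S z
    rw [← hST, show T z = z from hz]
  · intro z hz hSz
    have h1 : T z = z⁻¹ := inv_on hTg ((hg z).1 hSz)
    have h2 : z = z⁻¹ := by rw [← h1]; exact (show T z = z from hz).symm
    exact eq_one_of_eq_inv hodd h2

theorem abelian_of_gen {g₁ g₂ g₃ : P} (hgen : Subgroup.closure {g₁, g₂, g₃} = ⊤)
    (h12 : g₁ * g₂ = g₂ * g₁) (h13 : g₁ * g₃ = g₃ * g₁) (h23 : g₂ * g₃ = g₃ * g₂) :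
    ∀ x y : P, x * y = y * x := by
  have hc : ∀ a ∈ ({g₁, g₂, g₃} : Set P), ∀ b ∈ ({g₁, g₂, g₃} : Set P), a * b = b * a := by
    intro a ha b hb
    simp only [Set.mem_insert_iff, Set.mem_singleton_iff] at ha hb
    rcases ha with ha | ha | ha <;> rcases hb with hb | hb | hb <;> rw [ha, hb]
    · exact h12
    · exact h13
    · exact h12.symm
    · exact h23
    · exact h13.symm
    · exact h23.symm
  have hcen : ∀ a ∈ ({g₁, g₂, g₃} : Set P), ∀ y : P, y * a = a * y := by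
    intro a ha y
    have hle : Subgroup.closure ({g₁, g₂, g₃} : Set P) ≤ Subgroup.centralizer {a} := by
      rw [Subgroup.closure_le]
      intro b hb
      rw [SetLike.mem_coe, Subgroup.mem_centralizer_iff]
      intro c hc'
      rw [Set.mem_singleton_iff] at hc'
      rw [hc']
      exact hc a ha b hb
    have hy : y ∈ Subgroup.closure ({g₁, g₂, g₃} : Set P) := by rw [hgen]; trivial
    have h2 := Subgroup.mem_centralizer_iff.1 (hle hy) a rfl
    exact h2.symm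
  intro x y
  have hle : Subgroup.closure ({g₁, g₂, g₃} : Set P) ≤ Subgroup.centralizer {y} := by
    rw [Subgroup.closure_le]
    intro b hb
    rw [SetLike.mem_coe, Subgroup.mem_centralizer_iff]
    intro c hc'
    rw [Set.mem_singleton_iff] at hc'
    rw [hc']
    exact hcen b hb y
  have hx : x ∈ Subgroup.closure ({g₁, g₂, g₃} : Set P) := by rw [hgen]; trivial
  have h2 := Subgroup.mem_centralizer_iff.1 (hle hx) y rfl
  exact h2.symm

theorem decomp3 {g₁ g₂ g₃ : P} (hgen : Subgroup.closure {g₁, g₂, g₃} = ⊤)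
    (hab : ∀ x y : P, x * y = y * x) (x : P) :
    ∃ a₁ ∈ Subgroup.zpowers g₁, ∃ a₂ ∈ Subgroup.zpowers g₂, ∃ a₃ ∈ Subgroup.zpowers g₃,
      x = a₁ * a₂ * a₃ := by
  have hle : Subgroup.closure ({g₁, g₂, g₃} : Set P)
      ≤ (Subgroup.zpowers g₁ ⊔ Subgroup.zpowers g₂) ⊔ Subgroup.zpowers g₃ := by
    rw [Subgroup.closure_le]
    intro a ha
    simp only [Set.mem_insert_iff, Set.mem_singleton_iff] at ha
    rcases ha with ha | ha | ha
    · rw [ha]
      exact Subgroup.mem_sup_left (Subgroup.mem_sup_left (Subgroup.mem_zpowers g₁))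
    · rw [ha]
      exact Subgroup.mem_sup_left (Subgroup.mem_sup_right (Subgroup.mem_zpowers g₂))
    · rw [ha]
      exact Subgroup.mem_sup_right (Subgroup.mem_zpowers g₃)
  have hx : x ∈ (Subgroup.zpowers g₁ ⊔ Subgroup.zpowers g₂) ⊔ Subgroup.zpowers g₃ :=
    hle (by rw [hgen]; trivial)
  obtain ⟨h, hh, a₃, ha₃, hxe⟩ := SR4.mem_sup_comm _ _ (fun a _ b _ => hab a b) hx
  obtain ⟨a₁, ha₁, a₂, ha₂, hhe⟩ := SR4.mem_sup_comm _ _ (fun a _ b _ => hab a b) hh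
  exact ⟨a₁, ha₁, a₂, ha₂, a₃, ha₃, by rw [hxe, hhe]⟩

theorem cyc_mm (hodd : Odd (Nat.card P)) (hab : ∀ x y : P, x * y = y * x) (T : MulAut P)
    {u v w : P}
    (hdec : ∀ x : P, ∃ a ∈ Subgroup.zpowers u, ∃ b ∈ Subgroup.zpowers v,
      ∃ c ∈ Subgroup.zpowers w, x = a * b * c)
    (hu : T u = u⁻¹) (hv : T v = v⁻¹) (hw : T w = w) (x : P) :
    T x = x ↔ x ∈ Subgroup.zpowers w := by
  constructor
  · intro hx
    obtain ⟨a, ha, b, hb, c, hc, rfl⟩ := hdec x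
    have h1 : T (a * b) = (a * b)⁻¹ := by
      rw [map_mul, inv_on hu ha, inv_on hv hb, mul_inv_rev, hab]
    have h2 : T (a * b * c) = (a * b)⁻¹ * c := by
      rw [map_mul, h1, fix_on hw hc]
    rw [h2] at hx
    have h3 : a * b = (a * b)⁻¹ := (mul_right_cancel hx).symm
    have h4 := eq_one_of_eq_inv hodd h3
    rw [h4, one_mul]; exact hc
  · intro hx; exact fix_on hw hx

theorem cyc_mmm (hodd : Odd (Nat.card P)) (hab : ∀ x y : P, x * y = y * x) (T : MulAut P)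
    {u v w : P}
    (hdec : ∀ x : P, ∃ a ∈ Subgroup.zpowers u, ∃ b ∈ Subgroup.zpowers v,
      ∃ c ∈ Subgroup.zpowers w, x = a * b * c)
    (hu : T u = u⁻¹) (hv : T v = v⁻¹) (hw : T w = w⁻¹) (x : P) :
    T x = x ↔ x ∈ Subgroup.zpowers (1 : P) := by
  rw [Subgroup.zpowers_one_eq_bot, Subgroup.mem_bot]
  constructor
  · intro hx
    obtain ⟨a, ha, b, hb, c, hc, rfl⟩ := hdec x
    have h1 : T (a * b * c) = (a * b * c)⁻¹ := by
      rw [map_mul, map_mul, inv_on hu ha, inv_on hv hb, inv_on hw hc, mul_inv_rev, mul_inv_rev,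
        hab c⁻¹, hab b⁻¹]
    rw [h1] at hx
    exact eq_one_of_eq_inv hodd hx.symm
  · intro hx; rw [hx, map_one]

theorem not_cyc (p : ℕ) [Fact p.Prime] (hP : IsPGroup p P) (hodd : Odd (Nat.card P))
    (T T' : MulAut P) (hT' : ∀ x, T' (T' x) = x) (hTT' : ∀ x, T (T' x) = T' (T x)) {u v : P}
    (hu : T u = u) (hv : T v = v) (hu' : T' u = u⁻¹) (hv' : T' v = v) (hu1 : u ≠ 1)
    (hv1 : v ≠ 1) : ¬ ∃ g : P, ∀ x : P, (T x = x ↔ x ∈ Subgroup.zpowers g) := by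
  rintro ⟨g, hg⟩
  have hug := (hg u).1 hu
  have hvg := (hg v).1 hv
  rcases dich p hP hodd T T' hT' hTT' g hg with h | h
  · have h1 : T' u = u := fix_on h hug
    rw [hu'] at h1
    exact hu1 (eq_one_of_eq_inv hodd h1.symm)
  · have h1 : T' v = v⁻¹ := inv_on h hvg
    rw [hv'] at h1
    exact hv1 (eq_one_of_eq_inv hodd h1)

theorem exists_order_p (p : ℕ) [Fact p.Prime] (hP : IsPGroup p P) {g : P} (hg : g ≠ 1) :
    ∃ f ∈ Subgroup.zpowers g, f ≠ 1 ∧ f ^ p = 1 := by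
  obtain ⟨k, hk⟩ := IsPGroup.iff_orderOf.1 hP g
  have hk0 : k ≠ 0 := by
    intro h0
    rw [h0, pow_zero, orderOf_eq_one_iff] at hk
    exact hg hk
  obtain ⟨j, rfl⟩ := Nat.exists_eq_succ_of_ne_zero hk0
  have hp := (Fact.out : p.Prime)
  refine ⟨g ^ (p ^ j), Subgroup.npow_mem_zpowers g _, ?_, ?_⟩
  · apply pow_ne_one_of_lt_orderOf (pow_pos hp.pos j).ne'
    rw [hk, pow_succ]
    exact lt_mul_of_one_lt_right (pow_pos hp.pos j) hp.one_lt
  · rw [← pow_mul, ← pow_succ, ← hk]; exact pow_orderOf_eq_one g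

theorem three_le (p : ℕ) [Fact p.Prime] (hP : IsPGroup p P) (hodd : Odd (Nat.card P))
    (K : Subgroup P) (hK : ∀ x : P, x ^ p = 1 → x ∈ K) (T₁ T₃ : MulAut P) {g₁ g₂ g₃ : P}
    (h1 : g₁ ≠ 1) (h2 : g₂ ≠ 1) (h3 : g₃ ≠ 1) (a11 : T₁ g₁ = g₁⁻¹) (a12 : T₁ g₂ = g₂)
    (a31 : T₃ g₁ = g₁) (a32 : T₃ g₂ = g₂) (a33 : T₃ g₃ = g₃⁻¹) :
    p * p * p ≤ Nat.card ↥K := by
  obtain ⟨f₁, hf₁, hf₁1, hf₁p⟩ := exists_order_p p hP h1
  obtain ⟨f₂, hf₂, hf₂1, hf₂p⟩ := exists_order_p p hP h2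
  obtain ⟨f₃, hf₃, hf₃1, hf₃p⟩ := exists_order_p p hP h3
  have c1 : Nat.card ↥(Subgroup.zpowers f₁) = p := by
    rw [Nat.card_zpowers, orderOf_eq_prime hf₁p hf₁1]
  have c2 : Nat.card ↥(Subgroup.zpowers f₂) = p := by
    rw [Nat.card_zpowers, orderOf_eq_prime hf₂p hf₂1]
  have c3 : Nat.card ↥(Subgroup.zpowers f₃) = p := by
    rw [Nat.card_zpowers, orderOf_eq_prime hf₃p hf₃1]
  have d12 : Subgroup.zpowers f₁ ⊓ Subgroup.zpowers f₂ = ⊥ := by
    rw [eq_bot_iff]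
    intro x hx
    obtain ⟨hx1, hx2⟩ := Subgroup.mem_inf.1 hx
    rw [Subgroup.mem_bot]
    have e1 : T₁ x = x⁻¹ := inv_on a11 (Subgroup.zpowers_le.2 hf₁ hx1)
    have e2 : T₁ x = x := fix_on a12 (Subgroup.zpowers_le.2 hf₂ hx2)
    rw [e2] at e1
    exact eq_one_of_eq_inv hodd e1
  have hfix : Subgroup.zpowers f₁ ⊔ Subgroup.zpowers f₂ ≤ fixSub T₃ := by
    apply sup_le
    · intro x hx; exact fix_on a31 (Subgroup.zpowers_le.2 hf₁ hx)
    · intro x hx; exact fix_on a32 (Subgroup.zpowers_le.2 hf₂ hx)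
  have d123 : (Subgroup.zpowers f₁ ⊔ Subgroup.zpowers f₂) ⊓ Subgroup.zpowers f₃ = ⊥ := by
    rw [eq_bot_iff]
    intro x hx
    obtain ⟨hx1, hx2⟩ := Subgroup.mem_inf.1 hx
    rw [Subgroup.mem_bot]
    have e1 : T₃ x = x⁻¹ := inv_on a33 (Subgroup.zpowers_le.2 hf₃ hx2)
    have e2 : T₃ x = x := hfix hx1
    rw [e2] at e1
    exact eq_one_of_eq_inv hodd e1
  have b1 := SR4.card_sup_ge _ _ d12
  have b2 := SR4.card_sup_ge _ _ d123
  rw [c1, c2] at b1
  rw [c3] at b2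
  have hle : (Subgroup.zpowers f₁ ⊔ Subgroup.zpowers f₂) ⊔ Subgroup.zpowers f₃ ≤ K :=
    sup_le (sup_le (Subgroup.zpowers_le.2 (hK f₁ hf₁p)) (Subgroup.zpowers_le.2 (hK f₂ hf₂p)))
      (Subgroup.zpowers_le.2 (hK f₃ hf₃p))
  have b3 := Subgroup.card_le_of_le hle
  calc p * p * p ≤ Nat.card ↥(Subgroup.zpowers f₁ ⊔ Subgroup.zpowers f₂) * p :=
        Nat.mul_le_mul_right p b1
    _ ≤ Nat.card ↥((Subgroup.zpowers f₁ ⊔ Subgroup.zpowers f₂) ⊔ Subgroup.zpowers f₃) := b2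
    _ ≤ Nat.card ↥K := b3

theorem card_le_of_two_gen (p : ℕ) (hp0 : 0 < p) (hab : ∀ x y : P, x * y = y * x)
    (R : Subgroup P) (hR : ∀ x : P, x ^ p ∈ R) (a b : P)
    (hgen : Subgroup.closure {a, b} = ⊤) : Nat.card P ≤ p * p * Nat.card ↥R := by
  have hsurj : Function.Surjective
      (fun t : Fin p × Fin p × ↥R => a ^ (t.1 : ℕ) * b ^ (t.2.1 : ℕ) * (t.2.2 : P)) := by
    intro x
    have hx : x ∈ Subgroup.zpowers a ⊔ Subgroup.zpowers b := by
      have hle : Subgroup.closure ({a, b} : Set P) ≤ Subgroup.zpowers a ⊔ Subgroup.zpowers b := by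
        rw [Subgroup.closure_le]
        intro y hy
        simp only [Set.mem_insert_iff, Set.mem_singleton_iff] at hy
        rcases hy with hy | hy
        · rw [hy]; exact Subgroup.mem_sup_left (Subgroup.mem_zpowers a)
        · rw [hy]; exact Subgroup.mem_sup_right (Subgroup.mem_zpowers b)
      exact hle (by rw [hgen]; trivial)
    obtain ⟨u, hu, v, hv, hxe⟩ := SR4.mem_sup_comm _ _ (fun a _ b _ => hab a b) hx
    obtain ⟨m, hm⟩ := (Submonoid.mem_powers_iff _ _).1 (mem_powers_iff_mem_zpowers.2 hu)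
    obtain ⟨n, hn⟩ := (Submonoid.mem_powers_iff _ _).1 (mem_powers_iff_mem_zpowers.2 hv)
    refine ⟨(⟨m % p, Nat.mod_lt _ hp0⟩, ⟨n % p, Nat.mod_lt _ hp0⟩,
      ⟨(a ^ (m / p) * b ^ (n / p)) ^ p, hR _⟩), ?_⟩
    show a ^ (m % p) * b ^ (n % p) * (a ^ (m / p) * b ^ (n / p)) ^ p = x
    rw [hxe, ← hm, ← hn]
    have e1 : (a ^ (m / p) * b ^ (n / p)) ^ p = a ^ (p * (m / p)) * b ^ (p * (n / p)) := by
      rw [(show Commute (a ^ (m / p)) (b ^ (n / p)) from hab _ _).mul_pow, ← pow_mul, ← pow_mul,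
        mul_comm (m / p), mul_comm (n / p)]
    rw [e1]
    have e2 : a ^ m = a ^ (m % p) * a ^ (p * (m / p)) := by rw [← pow_add, Nat.mod_add_div]
    have e3 : b ^ n = b ^ (n % p) * b ^ (p * (n / p)) := by rw [← pow_add, Nat.mod_add_div]
    rw [e2, e3]
    generalize a ^ (m % p) = a1
    generalize b ^ (n % p) = b1
    generalize a ^ (p * (m / p)) = a2
    generalize b ^ (p * (n / p)) = b2
    rw [mul_assoc a1 b1, ← mul_assoc b1 a2, hab b1 a2, mul_assoc a2, ← mul_assoc a1]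
  have h := Nat.card_le_card_of_surjective _ hsurj
  have hF : Nat.card (Fin p) = p := by simp
  rw [Nat.card_prod, Nat.card_prod, hF, ← mul_assoc] at h
  exact h

end Cfsg.Agent.Helper10.E8
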