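import Mathlib
import Cfsg.Prelude.Def_Transfer
import Cfsg.Agent.Helper7.PU
import Cfsg.Agent.Helper10.SR4a
import Cfsg.Agent.Helper10.E8a
import Cfsg.Agent.Helper10.E8b

set_option autoImplicit false
set_option maxHeartbeats 1000000

/-! # Elementary abelian groups of order 8 acting on odd `p`-groups: the main theorem (helper10) -/

namespace Cfsg.Agent.Helper10.E8

theorem set_perm132 {P : Type*} (a b c : P) : ({a, c, b} : Set P) = {a, b, c} := by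
  ext x
  simp only [Set.mem_insert_iff, Set.mem_singleton_iff]
  tauto

theorem set_perm231 {P : Type*} (a b c : P) : ({b, c, a} : Set P) = {a, b, c} := by
  ext x
  simp only [Set.mem_insert_iff, Set.mem_singleton_iff]
  tauto

theorem main {P : Type*} [Group P] [Finite P] (p : ℕ) (hp : p.Prime) (hp2 : p ≠ 2)
    (hP : IsPGroup p P)
    (I : Subgroup (MulAut P)) (hI : Cfsg.IsElementaryAbelian 2 I) (hI8 : Nat.card ↥I = 8)
    (I₀ : Subgroup (MulAut P)) (hI₀ : I₀ < I)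
    (hdisj : ∀ T ∈ I₀, T ≠ 1 → ∃ g : P, ∀ x : P, (T x = x ↔ x ∈ Subgroup.zpowers g))
    (hprod : ∀ T ∈ I, ∀ T' ∈ I, T ≠ 1 → T' ≠ 1 →
      (¬ ∃ g : P, ∀ x : P, (T x = x ↔ x ∈ Subgroup.zpowers g)) →
      (¬ ∃ g : P, ∀ x : P, (T' x = x ↔ x ∈ Subgroup.zpowers g)) → T * T' ∈ I₀) :
    IsMulCommutative P ∧ (∃ a b c : P, Subgroup.closure {a, b, c} = ⊤) ∧
      (¬ ∃ a b : P, Subgroup.closure {a, b} = ⊤) ∧
      Nat.card {T : MulAut P // T ∈ I ∧ T ≠ 1 ∧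
        ¬ ∃ g : P, ∀ x : P, (T x = x ↔ x ∈ Subgroup.zpowers g)} = 3 ∧
      Subgroup.closure {T : MulAut P | T ∈ I ∧ T ≠ 1 ∧
        ¬ ∃ g : P, ∀ x : P, (T x = x ↔ x ∈ Subgroup.zpowers g)} = I ∧
      (I₀ : Set (MulAut P)) = {S : MulAut P | ∃ T T' : MulAut P, T ∈ I ∧ T' ∈ I ∧ T ≠ 1 ∧ T' ≠ 1 ∧
        (¬ ∃ g : P, ∀ x : P, (T x = x ↔ x ∈ Subgroup.zpowers g)) ∧
        (¬ ∃ g : P, ∀ x : P, (T' x = x ↔ x ∈ Subgroup.zpowers g)) ∧ S = T * T'} := by
  classical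
  haveI : Fact p.Prime := ⟨hp⟩
  have hodd : Odd (Nat.card P) := by
    obtain ⟨n, hn⟩ := IsPGroup.iff_card.1 hP
    rw [hn]; exact (hp.odd_of_ne_two hp2).pow
  haveI := hP.isNilpotent
  have hIc : ∀ a ∈ I, ∀ b ∈ I, a * b = b * a := (KJ.isMulComm_iff I).1 hI.1
  have hIs : ∀ a ∈ I, a * a = 1 := fun a ha => by rw [← pow_two]; exact hI.2 a ha
  have hcomm : ∀ T ∈ I, ∀ T' ∈ I, ∀ x, T (T' x) = T' (T x) := by
    intro T hT T' hT' x
    exact DFunLike.congr_fun (hIc T hT T' hT') x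
  have hsq : ∀ T ∈ I, ∀ x, T (T x) = x := by
    intro T hT x
    exact DFunLike.congr_fun (hIs T hT) x
  obtain ⟨S₁, hS₁, S₂, hS₂, ⟨g₁, hg₁⟩, ⟨g₂, hg₂⟩, ⟨g₃, hg₃⟩⟩ :=
    exists_v4 I I₀ hIc hIs hI8 hI₀.le
      (fun T => ∃ g : P, ∀ x : P, (T x = x ↔ x ∈ Subgroup.zpowers g)) hdisj hprod
  have hS₃ : S₁ * S₂ ∈ I := mul_mem hS₁ hS₂
  have hgen : Subgroup.closure {g₁, g₂, g₃} = ⊤ := by
    apply gen4 hodd S₁ S₂ (hsq S₁ hS₁) (hsq S₂ hS₂) (hcomm S₁ hS₁ S₂ hS₂)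
    · intro x hx
      exact Subgroup.zpowers_le.2 (Subgroup.subset_closure (by simp)) ((hg₁ x).1 hx)
    · intro x hx
      exact Subgroup.zpowers_le.2 (Subgroup.subset_closure (by simp)) ((hg₂ x).1 hx)
    · intro x hx
      exact Subgroup.zpowers_le.2 (Subgroup.subset_closure (by simp)) ((hg₃ x).1 hx)
  have hd1 : ∀ T ∈ I, T g₁ = g₁ ∨ T g₁ = g₁⁻¹ := fun T hT =>
    dich p hP hodd S₁ T (hsq T hT) (hcomm S₁ hS₁ T hT) g₁ hg₁
  have hd2 : ∀ T ∈ I, T g₂ = g₂ ∨ T g₂ = g₂⁻¹ := fun T hT =>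
    dich p hP hodd S₂ T (hsq T hT) (hcomm S₂ hS₂ T hT) g₂ hg₂
  have hd3 : ∀ T ∈ I, T g₃ = g₃ ∨ T g₃ = g₃⁻¹ := fun T hT =>
    dich p hP hodd (S₁ * S₂) T (hsq T hT) (hcomm _ hS₃ T hT) g₃ hg₃
  have hinj' : ∀ T T' : ↥I, (T.1 g₁ = g₁ ↔ T'.1 g₁ = g₁) → (T.1 g₂ = g₂ ↔ T'.1 g₂ = g₂) →
      (T.1 g₃ = g₃ ↔ T'.1 g₃ = g₃) → T = T' := by
    rintro ⟨T, hT⟩ ⟨T', hT'⟩ e1 e2 e3
    apply Subtype.ext
    exact ext_gen hgen T T' (agree (hd1 T hT) (hd1 T' hT') e1) (agree (hd2 T hT) (hd2 T' hT') e2)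
      (agree (hd3 T hT) (hd3 T' hT') e3)
  have hpat := exists_pattern (α := ↥I) hI8 (fun T => T.1 g₁ = g₁) (fun T => T.1 g₂ = g₂)
    (fun T => T.1 g₃ = g₃) hinj'
  obtain ⟨⟨T₁, hT₁⟩, n11, a12', a13'⟩ := hpat False True True
  obtain ⟨⟨T₂, hT₂⟩, a21', n22, a23'⟩ := hpat True False True
  obtain ⟨⟨T₃, hT₃⟩, a31', a32', n33⟩ := hpat True True False
  have n11' : T₁ g₁ ≠ g₁ := n11.1
  have n22' : T₂ g₂ ≠ g₂ := n22.1
  have n33' : T₃ g₃ ≠ g₃ := n33.1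
  have a12 : T₁ g₂ = g₂ := a12'.2 trivial
  have a13 : T₁ g₃ = g₃ := a13'.2 trivial
  have a21 : T₂ g₁ = g₁ := a21'.2 trivial
  have a23 : T₂ g₃ = g₃ := a23'.2 trivial
  have a31 : T₃ g₁ = g₁ := a31'.2 trivial
  have a32 : T₃ g₂ = g₂ := a32'.2 trivial
  have a11 : T₁ g₁ = g₁⁻¹ := (hd1 T₁ hT₁).resolve_left n11'
  have a22 : T₂ g₂ = g₂⁻¹ := (hd2 T₂ hT₂).resolve_left n22'
  have a33 : T₃ g₃ = g₃⁻¹ := (hd3 T₃ hT₃).resolve_left n33'
  have k1 : g₁ ≠ 1 := fun h => n11' (by rw [h]; exact map_one T₁)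
  have k2 : g₂ ≠ 1 := fun h => n22' (by rw [h]; exact map_one T₂)
  have k3 : g₃ ≠ 1 := fun h => n33' (by rw [h]; exact map_one T₃)
  have c12 : g₁ * g₂ = g₂ * g₁ :=
    comm_pair hodd (S₁ * S₂) T₃ (hsq _ hS₃) (hcomm _ hS₃ T₃ hT₃) g₃ hg₃ a33 a31 a32
  have c13 : g₁ * g₃ = g₃ * g₁ :=
    comm_pair hodd S₂ T₂ (hsq _ hS₂) (hcomm _ hS₂ T₂ hT₂) g₂ hg₂ a22 a21 a23
  have c23 : g₂ * g₃ = g₃ * g₂ :=
    comm_pair hodd S₁ T₁ (hsq _ hS₁) (hcomm _ hS₁ T₁ hT₁) g₁ hg₁ a11 a12 a13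
  have hab : ∀ x y : P, x * y = y * x := abelian_of_gen hgen c12 c13 c23
  have hgen132 : Subgroup.closure {g₁, g₃, g₂} = ⊤ := by
    rw [set_perm132]; exact hgen
  have hgen231 : Subgroup.closure {g₂, g₃, g₁} = ⊤ := by
    rw [set_perm231]; exact hgen
  have dec123 := decomp3 hgen hab
  have dec132 := decomp3 hgen132 hab
  have dec231 := decomp3 hgen231 hab
  have cy12 : ∀ x, (T₁ * T₂) x = x ↔ x ∈ Subgroup.zpowers g₃ :=
    cyc_mm hodd hab (T₁ * T₂) dec123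
      (by simp only [MulAut.mul_apply, a11, a12, a13, a21, a22, a23, a31, a32, a33, map_inv,
        inv_inv])
      (by simp only [MulAut.mul_apply, a11, a12, a13, a21, a22, a23, a31, a32, a33, map_inv,
        inv_inv])
      (by simp only [MulAut.mul_apply, a11, a12, a13, a21, a22, a23, a31, a32, a33, map_inv,
        inv_inv])
  have cy13 : ∀ x, (T₁ * T₃) x = x ↔ x ∈ Subgroup.zpowers g₂ :=
    cyc_mm hodd hab (T₁ * T₃) dec132
      (by simp only [MulAut.mul_apply, a11, a12, a13, a21, a22, a23, a31, a32, a33, map_inv,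
        inv_inv])
      (by simp only [MulAut.mul_apply, a11, a12, a13, a21, a22, a23, a31, a32, a33, map_inv,
        inv_inv])
      (by simp only [MulAut.mul_apply, a11, a12, a13, a21, a22, a23, a31, a32, a33, map_inv,
        inv_inv])
  have cy23 : ∀ x, (T₂ * T₃) x = x ↔ x ∈ Subgroup.zpowers g₁ :=
    cyc_mm hodd hab (T₂ * T₃) dec231
      (by simp only [MulAut.mul_apply, a11, a12, a13, a21, a22, a23, a31, a32, a33, map_inv,
        inv_inv])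
      (by simp only [MulAut.mul_apply, a11, a12, a13, a21, a22, a23, a31, a32, a33, map_inv,
        inv_inv])
      (by simp only [MulAut.mul_apply, a11, a12, a13, a21, a22, a23, a31, a32, a33, map_inv,
        inv_inv])
  have cy123 : ∀ x, (T₁ * T₂ * T₃) x = x ↔ x ∈ Subgroup.zpowers (1 : P) :=
    cyc_mmm hodd hab (T₁ * T₂ * T₃) dec123
      (by simp only [MulAut.mul_apply, a11, a12, a13, a21, a22, a23, a31, a32, a33, map_inv,
        inv_inv])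
      (by simp only [MulAut.mul_apply, a11, a12, a13, a21, a22, a23, a31, a32, a33, map_inv,
        inv_inv])
      (by simp only [MulAut.mul_apply, a11, a12, a13, a21, a22, a23, a31, a32, a33, map_inv,
        inv_inv])
  have nc1 : ¬ ∃ g : P, ∀ x : P, (T₁ x = x ↔ x ∈ Subgroup.zpowers g) :=
    not_cyc p hP hodd T₁ T₂ (hsq T₂ hT₂) (hcomm T₁ hT₁ T₂ hT₂) a12 a13 a22 a23 k2 k3
  have nc2 : ¬ ∃ g : P, ∀ x : P, (T₂ x = x ↔ x ∈ Subgroup.zpowers g) :=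
    not_cyc p hP hodd T₂ T₁ (hsq T₁ hT₁) (hcomm T₂ hT₂ T₁ hT₁) a21 a23 a11 a13 k1 k3
  have nc3 : ¬ ∃ g : P, ∀ x : P, (T₃ x = x ↔ x ∈ Subgroup.zpowers g) :=
    not_cyc p hP hodd T₃ T₁ (hsq T₁ hT₁) (hcomm T₃ hT₃ T₁ hT₁) a31 a32 a11 a12 k1 k2
  have t1 : T₁ ≠ 1 := fun h => n11' (by rw [h]; rfl)
  have t2 : T₂ ≠ 1 := fun h => n22' (by rw [h]; rfl)
  have t3 : T₃ ≠ 1 := fun h => n33' (by rw [h]; rfl)
  have t12 : T₁ ≠ T₂ := fun h => n11' (by rw [h]; exact a21)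
  have t13 : T₁ ≠ T₃ := fun h => n11' (by rw [h]; exact a31)
  have t23 : T₂ ≠ T₃ := fun h => n22' (by rw [h]; exact a32)
  have hdec : ∀ T ∈ I, T = 1 ∨ T = T₁ ∨ T = T₂ ∨ T = T₃ ∨ T = T₁ * T₂ ∨ T = T₁ * T₃ ∨
      T = T₂ * T₃ ∨ T = T₁ * T₂ * T₃ := by
    intro T hT
    rcases hd1 T hT with b1 | b1 <;> rcases hd2 T hT with b2 | b2 <;>
      rcases hd3 T hT with b3 | b3
    · refine Or.inl (ext_gen hgen _ _ ?_ ?_ ?_) <;>
        simp only [MulAut.mul_apply, MulAut.one_apply, b1, b2, b3, a11, a12, a13, a21, a22, a23,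
          a31, a32, a33, map_inv, inv_inv]
    · refine Or.inr (Or.inr (Or.inr (Or.inl (ext_gen hgen _ _ ?_ ?_ ?_)))) <;>
        simp only [MulAut.mul_apply, MulAut.one_apply, b1, b2, b3, a11, a12, a13, a21, a22, a23,
          a31, a32, a33, map_inv, inv_inv]
    · refine Or.inr (Or.inr (Or.inl (ext_gen hgen _ _ ?_ ?_ ?_))) <;>
        simp only [MulAut.mul_apply, MulAut.one_apply, b1, b2, b3, a11, a12, a13, a21, a22, a23,
          a31, a32, a33, map_inv, inv_inv]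
    · refine Or.inr (Or.inr (Or.inr (Or.inr (Or.inr (Or.inr (Or.inl
        (ext_gen hgen _ _ ?_ ?_ ?_))))))) <;>
        simp only [MulAut.mul_apply, MulAut.one_apply, b1, b2, b3, a11, a12, a13, a21, a22, a23,
          a31, a32, a33, map_inv, inv_inv]
    · refine Or.inr (Or.inl (ext_gen hgen _ _ ?_ ?_ ?_)) <;>
        simp only [MulAut.mul_apply, MulAut.one_apply, b1, b2, b3, a11, a12, a13, a21, a22, a23,
          a31, a32, a33, map_inv, inv_inv]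
    · refine Or.inr (Or.inr (Or.inr (Or.inr (Or.inr (Or.inl
        (ext_gen hgen _ _ ?_ ?_ ?_)))))) <;>
        simp only [MulAut.mul_apply, MulAut.one_apply, b1, b2, b3, a11, a12, a13, a21, a22, a23,
          a31, a32, a33, map_inv, inv_inv]
    · refine Or.inr (Or.inr (Or.inr (Or.inr (Or.inl (ext_gen hgen _ _ ?_ ?_ ?_))))) <;>
        simp only [MulAut.mul_apply, MulAut.one_apply, b1, b2, b3, a11, a12, a13, a21, a22, a23,
          a31, a32, a33, map_inv, inv_inv]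
    · refine Or.inr (Or.inr (Or.inr (Or.inr (Or.inr (Or.inr (Or.inr
        (ext_gen hgen _ _ ?_ ?_ ?_))))))) <;>
        simp only [MulAut.mul_apply, MulAut.one_apply, b1, b2, b3, a11, a12, a13, a21, a22, a23,
          a31, a32, a33, map_inv, inv_inv]
  have hBr : ∀ T : MulAut P,
      (T ∈ I ∧ T ≠ 1 ∧ ¬ ∃ g : P, ∀ x : P, (T x = x ↔ x ∈ Subgroup.zpowers g)) ↔
        (T = T₁ ∨ T = T₂ ∨ T = T₃) := by
    intro T
    constructor
    · rintro ⟨hT, hT1, hTc⟩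
      rcases hdec T hT with h | h | h | h | h | h | h | h
      · exact absurd h hT1
      · exact Or.inl h
      · exact Or.inr (Or.inl h)
      · exact Or.inr (Or.inr h)
      · exact absurd ⟨g₃, by rw [h]; exact cy12⟩ hTc
      · exact absurd ⟨g₂, by rw [h]; exact cy13⟩ hTc
      · exact absurd ⟨g₁, by rw [h]; exact cy23⟩ hTc
      · exact absurd ⟨1, by rw [h]; exact cy123⟩ hTc
    · rintro (h | h | h)
      · rw [h]; exact ⟨hT₁, t1, nc1⟩
      · rw [h]; exact ⟨hT₂, t2, nc2⟩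
      · rw [h]; exact ⟨hT₃, t3, nc3⟩
  have hset : {T : MulAut P | T ∈ I ∧ T ≠ 1 ∧
      ¬ ∃ g : P, ∀ x : P, (T x = x ↔ x ∈ Subgroup.zpowers g)} = {T₁, T₂, T₃} := by
    ext T
    exact hBr T
  refine ⟨⟨⟨hab⟩⟩, ⟨g₁, g₂, g₃, hgen⟩, ?_, ?_, ?_, ?_⟩
  · rintro ⟨a, b, hab2⟩
    let φ : P →* P := MonoidHom.mk' (fun x : P => x ^ p)
      (fun a b => (show Commute a b from hab a b).mul_pow p)
    have hcard := Helper7.PU.card_eq_ker_range φ
    have hup := card_le_of_two_gen p hp.pos hab φ.range (fun x => ⟨x, rfl⟩) a b hab2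
    have hlow := three_le p hP hodd φ.ker (fun x hx => MonoidHom.mem_ker.2 hx) T₁ T₃ k1 k2 k3
      a11 a12 a31 a32 a33
    have hRpos : 0 < Nat.card ↥φ.range := Nat.card_pos
    have hk : Nat.card ↥φ.ker ≤ p * p :=
      Nat.le_of_mul_le_mul_right (by rw [← hcard]; exact hup) hRpos
    have h5 : p * p * p ≤ p * p * 1 := by rw [mul_one]; exact le_trans hlow hk
    have h6 : p ≤ 1 := Nat.le_of_mul_le_mul_left h5 (Nat.mul_pos hp.pos hp.pos)
    have h7 := hp.two_le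
    omega
  · have h3 : Nat.card ↥({T : MulAut P | T ∈ I ∧ T ≠ 1 ∧
        ¬ ∃ g : P, ∀ x : P, (T x = x ↔ x ∈ Subgroup.zpowers g)}) = 3 := by
      rw [hset, Nat.card_coe_set_eq]
      exact Set.ncard_eq_three.2 ⟨T₁, T₂, T₃, t12, t13, t23, rfl⟩
    exact h3
  · rw [hset]
    apply le_antisymm
    · rw [Subgroup.closure_le]
      intro T hT
      simp only [Set.mem_insert_iff, Set.mem_singleton_iff] at hT
      rcases hT with h | h | h
      · rw [h]; exact hT₁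
      · rw [h]; exact hT₂
      · rw [h]; exact hT₃
    · intro T hT
      have m1 : T₁ ∈ Subgroup.closure ({T₁, T₂, T₃} : Set (MulAut P)) :=
        Subgroup.subset_closure (by simp)
      have m2 : T₂ ∈ Subgroup.closure ({T₁, T₂, T₃} : Set (MulAut P)) :=
        Subgroup.subset_closure (by simp)
      have m3 : T₃ ∈ Subgroup.closure ({T₁, T₂, T₃} : Set (MulAut P)) :=
        Subgroup.subset_closure (by simp)
      rcases hdec T hT with h | h | h | h | h | h | h | h <;> rw [h]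
      · exact one_mem _
      · exact m1
      · exact m2
      · exact m3
      · exact mul_mem m1 m2
      · exact mul_mem m1 m3
      · exact mul_mem m2 m3
      · exact mul_mem (mul_mem m1 m2) m3
  · ext S
    rw [SetLike.mem_coe, Set.mem_setOf_eq]
    constructor
    · intro hS
      have hSI : S ∈ I := hI₀.le hS
      have bad : ∀ T, T ∈ I₀ → T ≠ 1 →
          (¬ ∃ g : P, ∀ x : P, (T x = x ↔ x ∈ Subgroup.zpowers g)) → False :=
        fun T hT hT1 hTc => hTc (hdisj T hT hT1)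
      rcases hdec S hSI with h | h | h | h | h | h | h | h
      · exact ⟨T₁, T₁, hT₁, hT₁, t1, t1, nc1, nc1, by rw [h, hIs T₁ hT₁]⟩
      · exact (bad T₁ (by rw [← h]; exact hS) t1 nc1).elim
      · exact (bad T₂ (by rw [← h]; exact hS) t2 nc2).elim
      · exact (bad T₃ (by rw [← h]; exact hS) t3 nc3).elim
      · exact ⟨T₁, T₂, hT₁, hT₂, t1, t2, nc1, nc2, h⟩
      · exact ⟨T₁, T₃, hT₁, hT₃, t1, t3, nc1, nc3, h⟩
      · exact ⟨T₂, T₃, hT₂, hT₃, t2, t3, nc2, nc3, h⟩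
      · exfalso
        have h12 : T₁ * T₂ ∈ I₀ := hprod T₁ hT₁ T₂ hT₂ t1 t2 nc1 nc2
        have h3 : T₃ ∈ I₀ := by
          have e : T₃ = (T₁ * T₂)⁻¹ * S := by rw [h]; group
          rw [e]; exact mul_mem (inv_mem h12) hS
        exact bad T₃ h3 t3 nc3
    · rintro ⟨T, T', hT, hT', hT1, hT'1, hTc, hT'c, rfl⟩
      exact hprod T hT T' hT' hT1 hT'1 hTc hT'c

end Cfsg.Agent.Helper10.E8
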