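import Mathlib
import Cfsg.Agent.Helper8.Wielandt4

/-!
helper10: the hyperplane lemma for an elementary abelian `2`-group acting on a group of odd
order (via Wielandt's order formula).
-/

set_option autoImplicit false

namespace Cfsg.Agent.Helper10

open Cfsg

/-- Hyperplane lemma (induction form). -/
theorem hyperplane_aux {L : Type*} [Group L] [Finite L] (E : Subgroup L)
    (hEc : ∀ x ∈ E, ∀ y ∈ E, x * y = y * x) (hE2 : ∀ x ∈ E, x * x = 1) :
    ∀ (n : ℕ) (R : Subgroup L), Nat.card R = n → ¬ 2 ∣ Nat.card R →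
      E ≤ Subgroup.normalizer (R : Set L) →
      (∃ e ∈ E, ∃ r ∈ R, e * r ≠ r * e) →
      ∃ B : Subgroup L, B ≤ E ∧ ∃ a ∈ E, a ∉ B ∧ (∀ e ∈ E, e ∈ B ∨ e * a ∈ B) ∧
        ∃ y ∈ R, (∀ b ∈ B, b * y = y * b) ∧ a * y ≠ y * a := by
  intro n
  induction n using Nat.strong_induction_on with
  | _ n ih =>
  intro R hn hodd hER hnc
  by_cases h1 : ∃ b ∈ E, (∃ r ∈ R, b * r ≠ r * b) ∧
      ∃ e ∈ E, ∃ r ∈ R ⊓ Subgroup.centralizer ({b} : Set L), e * r ≠ r * e
  · obtain ⟨b, hbE, ⟨r0, hr0, hbr0⟩, hnc'⟩ := h1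
    have hle : R ⊓ Subgroup.centralizer ({b} : Set L) ≤ R := inf_le_left
    have hlt : Nat.card ↥(R ⊓ Subgroup.centralizer ({b} : Set L)) < n := by
      rw [← hn]
      apply lt_of_le_of_ne (Subgroup.card_le_of_le hle)
      intro hcard
      have heq : R ⊓ Subgroup.centralizer ({b} : Set L) = R :=
        Subgroup.eq_of_le_of_card_ge hle (le_of_eq hcard.symm)
      have : r0 ∈ R ⊓ Subgroup.centralizer ({b} : Set L) := by rw [heq]; exact hr0
      have h2 := Subgroup.mem_centralizer_singleton_iff.1 this.2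
      exact hbr0 h2.symm
    have hodd' : ¬ 2 ∣ Nat.card ↥(R ⊓ Subgroup.centralizer ({b} : Set L)) :=
      fun h => hodd (dvd_trans h (Subgroup.card_dvd_of_le hle))
    have hER' : E ≤ Subgroup.normalizer
        ((R ⊓ Subgroup.centralizer ({b} : Set L) : Subgroup L) : Set L) := by
      intro e he
      rw [Subgroup.mem_normalizer_iff]
      intro x
      have h3 := Subgroup.mem_normalizer_iff.1 (hER he) x
      have hbe : b * e = e * b := hEc b hbE e he
      rw [Subgroup.mem_inf, Subgroup.mem_inf, Subgroup.mem_centralizer_singleton_iff,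
        Subgroup.mem_centralizer_singleton_iff, ← h3]
      constructor
      · rintro ⟨hx, hxb⟩
        refine ⟨hx, ?_⟩
        calc e * x * e⁻¹ * b = e * (x * b) * e⁻¹ := by
              have : e⁻¹ * b = b * e⁻¹ := by
                calc e⁻¹ * b = e⁻¹ * (b * e) * e⁻¹ := by group
                  _ = e⁻¹ * (e * b) * e⁻¹ := by rw [hbe]
                  _ = b * e⁻¹ := by group
              calc e * x * e⁻¹ * b = e * x * (e⁻¹ * b) := by group
                _ = e * x * (b * e⁻¹) := by rw [this]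
                _ = e * (x * b) * e⁻¹ := by group
          _ = e * (b * x) * e⁻¹ := by rw [hxb]
          _ = (e * b) * x * e⁻¹ := by group
          _ = (b * e) * x * e⁻¹ := by rw [hbe]
          _ = b * (e * x * e⁻¹) := by group
      · rintro ⟨hx, hxb⟩
        refine ⟨hx, ?_⟩
        have h4 : e * (x * b) * e⁻¹ = e * (b * x) * e⁻¹ := by
          calc e * (x * b) * e⁻¹ = e * x * e⁻¹ * (e * b) * e⁻¹ := by group
            _ = e * x * e⁻¹ * (b * e) * e⁻¹ := by rw [hbe]
            _ = e * x * e⁻¹ * b := by group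
            _ = b * (e * x * e⁻¹) := hxb
            _ = (b * e) * x * e⁻¹ := by group
            _ = (e * b) * x * e⁻¹ := by rw [hbe]
            _ = e * (b * x) * e⁻¹ := by group
        have h5 := mul_left_cancel (mul_right_cancel h4)
        exact h5
    obtain ⟨B, hBE, a, haE, haB, hidx, y, hy, hBy, hay⟩ :=
      ih _ hlt (R ⊓ Subgroup.centralizer ({b} : Set L)) rfl hodd' hER' hnc'
    exact ⟨B, hBE, a, haE, haB, hidx, y, hy.1, hBy, hay⟩
  · push Not at h1
    by_cases h2 : ∃ α ∈ E, ∃ β ∈ E, (∃ r ∈ R, α * r ≠ r * α) ∧ (∃ r ∈ R, β * r ≠ r * β) ∧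
        (∃ r ∈ R, (α * β) * r ≠ r * (α * β))
    · exfalso
      obtain ⟨α, hα, β, hβ, hαm, hβm, hαβm⟩ := h2
      have hαβ : α * β ∈ E := E.mul_mem hα hβ
      obtain ⟨C₀, hC₀⟩ : ∃ C₀ : Subgroup L, C₀ = R ⊓ Subgroup.centralizer (E : Set L) :=
        ⟨_, rfl⟩
      have hfixeq : ∀ b ∈ E, (∃ r ∈ R, b * r ≠ r * b) →
          R ⊓ Subgroup.centralizer ({b} : Set L) = C₀ := by
        intro b hb hbm
        rw [hC₀]
        apply le_antisymm
        · intro r hr
          refine Subgroup.mem_inf.2 ⟨(Subgroup.mem_inf.1 hr).1, ?_⟩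
          rw [Subgroup.mem_centralizer_iff]
          intro e he
          exact h1 b hb hbm e he r hr
        · intro r hr
          refine Subgroup.mem_inf.2 ⟨(Subgroup.mem_inf.1 hr).1, ?_⟩
          rw [Subgroup.mem_centralizer_singleton_iff]
          exact (Subgroup.mem_centralizer_iff.1 (Subgroup.mem_inf.1 hr).2 b hb).symm
      have hα2 : (MulAut.conj α) ^ 2 = 1 := by
        rw [← map_pow, pow_two, hE2 α hα, map_one]
      have hβ2 : (MulAut.conj β) ^ 2 = 1 := by
        rw [← map_pow, pow_two, hE2 β hβ, map_one]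
      have hcomm : Commute (MulAut.conj α) (MulAut.conj β) := by
        show MulAut.conj α * MulAut.conj β = MulAut.conj β * MulAut.conj α
        rw [← map_mul, ← map_mul, hEc α hα β hβ]
      have hW := Cfsg.Agent.Helper8.Wielandt.wielandt_rel 2 (MulAut.conj α) (MulAut.conj β)
        hα2 hβ2 hcomm R (Cfsg.Agent.Helper8.Wielandt.inv_conj (hER hα))
        (Cfsg.Agent.Helper8.Wielandt.inv_conj (hER hβ)) hodd
      unfold Cfsg.Agent.Helper8.Wielandt.Wrel at hW
      rw [Finset.prod_range_succ, Finset.prod_range_succ, Finset.prod_range_zero, one_mul,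
        pow_zero, one_mul, pow_one, ← map_mul,
        Cfsg.Agent.Helper8.Wielandt.fix_conj, Cfsg.Agent.Helper8.Wielandt.fix_conj,
        Cfsg.Agent.Helper8.Wielandt.fix_conj, hfixeq α hα hαm, hfixeq β hβ hβm,
        hfixeq (α * β) hαβ hαβm] at hW
      have hmid : R ⊓ (Subgroup.centralizer ({α} : Set L) ⊓ Subgroup.centralizer ({β} : Set L))
          = C₀ := by
        apply le_antisymm
        · rw [← hfixeq α hα hαm]
          exact inf_le_inf_left R inf_le_left
        · rw [hC₀]
          intro r hr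
          refine Subgroup.mem_inf.2 ⟨(Subgroup.mem_inf.1 hr).1, Subgroup.mem_inf.2 ⟨?_, ?_⟩⟩
          · rw [Subgroup.mem_centralizer_singleton_iff]
            exact (Subgroup.mem_centralizer_iff.1 (Subgroup.mem_inf.1 hr).2 α hα).symm
          · rw [Subgroup.mem_centralizer_singleton_iff]
            exact (Subgroup.mem_centralizer_iff.1 (Subgroup.mem_inf.1 hr).2 β hβ).symm
      rw [hmid] at hW
      have hpos : 0 < Nat.card ↥C₀ := Nat.card_pos
      have hcard : Nat.card ↥R = Nat.card ↥C₀ := by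
        have h3 : Nat.card ↥R * Nat.card ↥C₀ ^ 2 = Nat.card ↥C₀ * Nat.card ↥C₀ ^ 2 := by
          rw [hW]; ring
        exact Nat.eq_of_mul_eq_mul_right (pow_pos hpos 2) h3
      have hC₀R : C₀ ≤ R := by rw [hC₀]; exact inf_le_left
      have heq : C₀ = R := Subgroup.eq_of_le_of_card_ge hC₀R (le_of_eq hcard)
      obtain ⟨e, he, r, hr, her⟩ := hnc
      have hr' : r ∈ C₀ := by rw [heq]; exact hr
      rw [hC₀] at hr'
      exact her (Subgroup.mem_centralizer_iff.1 (Subgroup.mem_inf.1 hr').2 e he)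
    · push Not at h2
      obtain ⟨a, haE, y, hy, hay⟩ := hnc
      refine ⟨E ⊓ Subgroup.centralizer (R : Set L), inf_le_left, a, haE, ?_, ?_, y, hy, ?_, hay⟩
      · intro ha
        exact hay (Subgroup.mem_centralizer_iff.1 (Subgroup.mem_inf.1 ha).2 y hy).symm
      · intro e he
        by_cases hec : ∀ r ∈ R, e * r = r * e
        · left
          refine Subgroup.mem_inf.2 ⟨he, ?_⟩
          rw [Subgroup.mem_centralizer_iff]
          intro r hr
          exact (hec r hr).symm
        · right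
          push Not at hec
          refine Subgroup.mem_inf.2 ⟨E.mul_mem he haE, ?_⟩
          rw [Subgroup.mem_centralizer_iff]
          intro r hr
          exact (h2 e he a haE hec ⟨y, hy, hay⟩ r hr).symm
      · intro b hb
        exact (Subgroup.mem_centralizer_iff.1 (Subgroup.mem_inf.1 hb).2 y hy).symm

/-- **Hyperplane lemma**: an elementary abelian `2`-group `E` acting nontrivially on a group `R`
of odd order has a subgroup `B` of index `2` whose fixed points on `R` are not all fixed by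
`E`. -/
theorem hyperplane {L : Type*} [Group L] [Finite L] (E R : Subgroup L)
    (hEc : ∀ x ∈ E, ∀ y ∈ E, x * y = y * x) (hE2 : ∀ x ∈ E, x * x = 1)
    (hodd : ¬ 2 ∣ Nat.card R) (hER : E ≤ Subgroup.normalizer (R : Set L))
    (hnc : ∃ e ∈ E, ∃ r ∈ R, e * r ≠ r * e) :
    ∃ B : Subgroup L, B ≤ E ∧ ∃ a ∈ E, a ∉ B ∧ (∀ e ∈ E, e ∈ B ∨ e * a ∈ B) ∧
      ∃ y ∈ R, (∀ b ∈ B, b * y = y * b) ∧ a * y ≠ y * a :=
  hyperplane_aux E hEc hE2 _ R rfl hodd hER hnc

end Cfsg.Agent.Helper10
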