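import Mathlib
import Cfsg.Agent.Helper23.S4Sec
import Cfsg.Agent.Helper23.StableW3

/-!
helper10: the endgame configuration for `S₄`-free groups with Sylow `2`-subgroups of class at
most `2`: an elementary abelian subgroup of largest order acting as a transvection on
`Ω₁ Z(Q₁)` together with an odd-order element inverted by it gives a section `S₄`.
-/

set_option autoImplicit false

namespace Cfsg.Agent.Helper10

open Cfsg

/-- Conjugation by elements of the normalizer as automorphisms of the subgroup. -/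
def cjAut {H : Type*} [Group H] (V : Subgroup H) :
    ↥(Subgroup.normalizer (V : Set H)) →* MulAut ↥V where
  toFun g :=
    { toFun := fun v => ⟨(g : H) * v * (g : H)⁻¹, (Subgroup.mem_normalizer_iff.1 g.2 v).1 v.2⟩
      invFun := fun v => ⟨(g : H)⁻¹ * v * (g : H), by
        have h := (Subgroup.mem_normalizer_iff.1 (inv_mem g.2) (v : H)).1 v.2
        rwa [inv_inv] at h⟩
      left_inv := fun v => by
        apply Subtype.ext
        show (g : H)⁻¹ * ((g : H) * v * (g : H)⁻¹) * (g : H) = v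
        group
      right_inv := fun v => by
        apply Subtype.ext
        show (g : H) * ((g : H)⁻¹ * v * (g : H)) * (g : H)⁻¹ = v
        group
      map_mul' := fun v w => by
        apply Subtype.ext
        show (g : H) * ((v : H) * w) * (g : H)⁻¹ = ((g : H) * v * (g : H)⁻¹) * ((g : H) * w * (g : H)⁻¹)
        group }
  map_one' := by
    apply MulEquiv.ext
    intro v
    apply Subtype.ext
    show ((1 : ↥(Subgroup.normalizer (V : Set H))) : H) * v *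
      ((1 : ↥(Subgroup.normalizer (V : Set H))) : H)⁻¹ = v
    rw [Subgroup.coe_one]; group
  map_mul' := fun g h => by
    apply MulEquiv.ext
    intro v
    apply Subtype.ext
    show ((g * h : ↥(Subgroup.normalizer (V : Set H))) : H) * v *
      ((g * h : ↥(Subgroup.normalizer (V : Set H))) : H)⁻¹ =
      (g : H) * ((h : H) * v * (h : H)⁻¹) * (g : H)⁻¹
    rw [Subgroup.coe_mul]; group

theorem cjAut_apply {H : Type*} [Group H] (V : Subgroup H)
    (g : ↥(Subgroup.normalizer (V : Set H))) (v : ↥V) :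
    ((cjAut V g v : ↥V) : H) = (g : H) * v * (g : H)⁻¹ := rfl

/-- Index-two counting: if `A = B ∪ B a⁻¹` then `|A| ≤ 2 |B|`. -/
theorem card_le_two_mul {H : Type*} [Group H] [Finite H] (A B : Subgroup H) (a : H)
    (hidx : ∀ e ∈ A, e ∈ B ∨ e * a ∈ B) : Nat.card A ≤ 2 * Nat.card B := by
  classical
  have hinj : Function.Injective (fun e : ↥A =>
      if h : (e : H) ∈ B then ((⟨(e : H), h⟩ : ↥B), true)
      else ((⟨(e : H) * a, (hidx e e.2).resolve_left h⟩ : ↥B), false)) := by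
    intro e f hef
    simp only at hef
    by_cases he : (e : H) ∈ B
    · by_cases hf : (f : H) ∈ B
      · rw [dif_pos he, dif_pos hf] at hef
        have := congrArg (fun x => (x.1 : H)) hef
        exact Subtype.ext this
      · rw [dif_pos he, dif_neg hf] at hef
        have := congrArg Prod.snd hef
        simp at this
    · by_cases hf : (f : H) ∈ B
      · rw [dif_neg he, dif_pos hf] at hef
        have := congrArg Prod.snd hef
        simp at this
      · rw [dif_neg he, dif_neg hf] at hef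
        have := congrArg (fun x => (x.1 : H)) hef
        exact Subtype.ext (mul_right_cancel this)
  have h := Nat.card_le_card_of_injective _ hinj
  rw [Nat.card_prod, Nat.card_eq_fintype_card (α := Bool), Fintype.card_bool, mul_comm] at h
  exact h

/-- A subgroup `B` of `M` with `|M| ≤ 2 |B|`: the product of two elements of `M` outside `B`
lies in `B`. -/
theorem mul_mem_of_card_le_two {H : Type*} [Group H] [Finite H] (B M : Subgroup H) (hBM : B ≤ M)
    (hcard : Nat.card M ≤ 2 * Nat.card B) (v w : H) (hv : v ∈ M) (hw : w ∈ M) (hvB : v ∉ B)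
    (hwB : w ∉ B) : v * w ∈ B := by
  have h1 : (B.subgroupOf M).index * Nat.card B = Nat.card M := by
    have := Cfsg.Agent.Helper23.card_eq_card_mul_relIndex hBM
    rw [this, mul_comm]
    rfl
  have hpos : 0 < Nat.card B := Nat.card_pos
  have h2 : (B.subgroupOf M).index ≤ 2 := by
    have : (B.subgroupOf M).index * Nat.card B ≤ 2 * Nat.card B := by rw [h1]; exact hcard
    exact Nat.le_of_mul_le_mul_right this hpos
  have h3 : (B.subgroupOf M).index ≠ 1 := by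
    intro h
    rw [Subgroup.index_eq_one] at h
    have : (⟨v, hv⟩ : ↥M) ∈ B.subgroupOf M := by rw [h]; trivial
    exact hvB (Subgroup.mem_subgroupOf.1 this)
  have h0 : (B.subgroupOf M).index ≠ 0 := Subgroup.index_ne_zero_of_finite
  have h4 : (B.subgroupOf M).index = 2 := by omega
  have h5 := Subgroup.mul_mem_iff_of_index_two h4 (a := (⟨v, hv⟩ : ↥M)) (b := (⟨w, hw⟩ : ↥M))
  have h6 : (⟨v, hv⟩ : ↥M) * ⟨w, hw⟩ ∈ B.subgroupOf M := by
    rw [h5]
    constructor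
    · intro h; exact absurd (Subgroup.mem_subgroupOf.1 h) hvB
    · intro h; exact absurd (Subgroup.mem_subgroupOf.1 h) hwB
  exact Subgroup.mem_subgroupOf.1 h6

/-- The endgame configuration: `Q` normal with `C_H(Q) ≤ Q ≤ T`, `T` of class at most `2`,
`A` an elementary abelian subgroup of `T` of largest order, `B` of index `2` in `A`,
`y` normalizing `Q B` modulo `Q`, and `k = a a^y` of odd order modulo `Q` but not in `Q`. -/
theorem s4_of_config {H : Type*} [Group H] [Finite H] (Q T A B : Subgroup H) [hQn : Q.Normal]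
    (hQc : Subgroup.centralizer (Q : Set H) ≤ Q) (hQT : Q ≤ T)
    (hcl : ∀ x ∈ T, ∀ y ∈ T, ∀ z ∈ T, (x * y * x⁻¹ * y⁻¹) * z = z * (x * y * x⁻¹ * y⁻¹))
    (hA : A ∈ Cfsg.Agent.Helper23.zjFam 2 true T) (hBA : B ≤ A) (a : H) (haA : a ∈ A)
    (hidx : ∀ e ∈ A, e ∈ B ∨ e * a ∈ B)
    (y : H) (hy : ∀ b ∈ B, y * b * y⁻¹ * b⁻¹ ∈ Q)
    (n : ℕ) (hn : Odd n) (hkn : (a * (y * a * y⁻¹)) ^ n ∈ Q) (hk : a * (y * a * y⁻¹) ∉ Q) :
    Cfsg.Involves (Equiv.Perm (Fin 4)) H := by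
  obtain ⟨hAT, hAg, hAmax⟩ := hA
  have hAc := Cfsg.Agent.Helper23.comm_of_isMulCommutative hAg.1
  have hA2 : ∀ x ∈ A, x * x = 1 := fun x hx => by rw [← pow_two]; exact hAg.2 rfl x hx
  have haa : a * a = 1 := hA2 a haA
  have hainv : a⁻¹ = a := inv_eq_of_mul_eq_one_left haa
  have haT : a ∈ T := hAT haA
  obtain ⟨Q₁, hQ₁⟩ : ∃ Q₁ : Subgroup H, Q₁ = Q ⊔ B := ⟨_, rfl⟩
  have hQQ₁ : Q ≤ Q₁ := by rw [hQ₁]; exact le_sup_left
  have hBQ₁ : B ≤ Q₁ := by rw [hQ₁]; exact le_sup_right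
  have hQ₁T : Q₁ ≤ T := by rw [hQ₁]; exact sup_le hQT (hBA.trans hAT)
  have hnorm : ∀ g : H, (∀ b ∈ B, g * b * g⁻¹ ∈ Q₁) →
      g ∈ Subgroup.normalizer (Q₁ : Set H) := by
    intro g hg
    apply Cfsg.Agent.Helper9.mem_normalizer_of_conj_le
    have hle : Q ⊔ B ≤ (Q ⊔ B).comap (MulAut.conj g).toMonoidHom := by
      apply sup_le
      · intro q hq
        rw [Subgroup.mem_comap]
        show g * q * g⁻¹ ∈ Q ⊔ B
        exact (le_sup_left : Q ≤ Q ⊔ B) (hQn.conj_mem q hq g)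
      · intro b hb
        rw [Subgroup.mem_comap]
        show g * b * g⁻¹ ∈ Q ⊔ B
        rw [← hQ₁]
        exact hg b hb
    intro x hx
    rw [hQ₁] at hx ⊢
    have h := hle hx
    rw [Subgroup.mem_comap] at h
    exact h
  have haN : a ∈ Subgroup.normalizer (Q₁ : Set H) := by
    apply hnorm
    intro b hb
    have : a * b * a⁻¹ = b := by rw [hAc a haA b (hBA hb)]; group
    rw [this]; exact hBQ₁ hb
  have hyN : y ∈ Subgroup.normalizer (Q₁ : Set H) := by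
    apply hnorm
    intro b hb
    have : y * b * y⁻¹ = (y * b * y⁻¹ * b⁻¹) * b := by group
    rw [this]
    exact Q₁.mul_mem (hQQ₁ (hy b hb)) (hBQ₁ hb)
  obtain ⟨V₁, hV₁⟩ : ∃ V₁ : Subgroup H, ∀ v, v ∈ V₁ ↔
      (v ∈ Q₁ ∧ (∀ q ∈ Q₁, q * v = v * q) ∧ v * v = 1) := by
    refine ⟨{ carrier := {v | v ∈ Q₁ ∧ (∀ q ∈ Q₁, q * v = v * q) ∧ v * v = 1}
              mul_mem' := ?_, one_mem' := ?_, inv_mem' := ?_ }, fun v => Iff.rfl⟩
    · rintro v w ⟨hv1, hv2, hv3⟩ ⟨hw1, hw2, hw3⟩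
      refine ⟨Q₁.mul_mem hv1 hw1, fun q hq => ?_, ?_⟩
      · calc q * (v * w) = (q * v) * w := by group
          _ = (v * q) * w := by rw [hv2 q hq]
          _ = v * (q * w) := by group
          _ = v * (w * q) := by rw [hw2 q hq]
          _ = v * w * q := by group
      · calc v * w * (v * w) = v * (w * v) * w := by group
          _ = v * (v * w) * w := by rw [hv2 w hw1]
          _ = (v * v) * (w * w) := by group
          _ = 1 := by rw [hv3, hw3, one_mul]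
    · exact ⟨Q₁.one_mem, fun q _ => by rw [mul_one, one_mul], by rw [one_mul]⟩
    · intro v hv
      obtain ⟨hv1, hv2, hv3⟩ := hv
      have hvi : v⁻¹ = v := inv_eq_of_mul_eq_one_left hv3
      rw [hvi]; exact ⟨hv1, hv2, hv3⟩
  have hV₁Q₁ : V₁ ≤ Q₁ := fun v hv => ((hV₁ v).1 hv).1
  have hV₁c : ∀ v ∈ V₁, ∀ q ∈ Q₁, q * v = v * q := fun v hv => ((hV₁ v).1 hv).2.1
  have hV₁2 : ∀ v ∈ V₁, v * v = 1 := fun v hv => ((hV₁ v).1 hv).2.2
  have hNV : Subgroup.normalizer (Q₁ : Set H) ≤ Subgroup.normalizer (V₁ : Set H) := by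
    intro g hg
    apply Cfsg.Agent.Helper9.mem_normalizer_of_conj_le
    intro v hv
    rw [hV₁]
    refine ⟨(Subgroup.mem_normalizer_iff.1 hg v).1 (hV₁Q₁ hv), fun q hq => ?_, ?_⟩
    · have hq' : g⁻¹ * q * g ∈ Q₁ := by
        have := (Subgroup.mem_normalizer_iff.1 (inv_mem hg) q).1 hq
        rwa [inv_inv] at this
      have h1 := hV₁c v hv _ hq'
      calc q * (g * v * g⁻¹) = g * ((g⁻¹ * q * g) * v) * g⁻¹ := by group
        _ = g * (v * (g⁻¹ * q * g)) * g⁻¹ := by rw [h1]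
        _ = g * v * g⁻¹ * q := by group
    · calc g * v * g⁻¹ * (g * v * g⁻¹) = g * (v * v) * g⁻¹ := by group
        _ = 1 := by rw [hV₁2 v hv]; group
  have haNV := hNV haN
  have hyNV := hNV hyN
  have hyaN : y * a * y⁻¹ ∈ Subgroup.normalizer (Q₁ : Set H) :=
    (Subgroup.normalizer _).mul_mem ((Subgroup.normalizer _).mul_mem hyN haN) (inv_mem hyN)
  obtain ⟨k, hkdef⟩ : ∃ k : H, k = a * (y * a * y⁻¹) := ⟨_, rfl⟩
  rw [← hkdef] at hkn hk
  have hkN : k ∈ Subgroup.normalizer (Q₁ : Set H) := by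
    rw [hkdef]
    exact (Subgroup.normalizer _).mul_mem haN hyaN
  have hkNV := hNV hkN
  have hτk : a * k * a⁻¹ = k⁻¹ := by
    rw [hkdef]
    have h1 : a * (a * (y * a * y⁻¹)) * a⁻¹ = (a * a) * (y * a * y⁻¹) * a⁻¹ := by group
    have h2 : (a * (y * a * y⁻¹))⁻¹ = y * a⁻¹ * y⁻¹ * a⁻¹ := by group
    rw [h1, haa, one_mul, h2, hainv]
  have hα : ∀ q ∈ Q₁, q⁻¹ * (a * q * a⁻¹) ∈ V₁ := by
    intro q hq
    have hqT : q ∈ T := hQ₁T hq
    have hcen : ∀ z ∈ T, (q⁻¹ * (a * q * a⁻¹)) * z = z * (q⁻¹ * (a * q * a⁻¹)) := by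
      intro z hz
      have := hcl q⁻¹ (T.inv_mem hqT) a haT z hz
      rw [inv_inv] at this
      have e : q⁻¹ * a * q * a⁻¹ = q⁻¹ * (a * q * a⁻¹) := by group
      rw [e] at this
      exact this
    rw [hV₁]
    refine ⟨Q₁.mul_mem (Q₁.inv_mem hq) ((Subgroup.mem_normalizer_iff.1 haN q).1 hq),
      fun z hz => (hcen z (hQ₁T hz)).symm, ?_⟩
    have hca := hcen a haT
    have h1 : q⁻¹ * (a * q * a⁻¹) = a * (q⁻¹ * (a * q * a⁻¹)) * a⁻¹ := by
      rw [← hca]; group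
    calc q⁻¹ * (a * q * a⁻¹) * (q⁻¹ * (a * q * a⁻¹))
        = q⁻¹ * (a * q * a⁻¹) * (a * (q⁻¹ * (a * q * a⁻¹)) * a⁻¹) := by rw [← h1]
      _ = q⁻¹ * (a * a) * q * (a * a)⁻¹ := by group
      _ = 1 := by rw [haa]; group
  have hconjV : ∀ g ∈ Subgroup.normalizer (Q₁ : Set H), ∀ v ∈ V₁, g * v * g⁻¹ ∈ V₁ :=
    fun g hg v hv => (Subgroup.mem_normalizer_iff.1 (hNV hg) v).1 hv
  have hβ : ∀ q ∈ Q₁, q⁻¹ * ((y * a * y⁻¹) * q * (y * a * y⁻¹)⁻¹) ∈ V₁ := by
    intro q hq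
    have hq' : y⁻¹ * q * y ∈ Q₁ := by
      have := (Subgroup.mem_normalizer_iff.1 (inv_mem hyN) q).1 hq
      rwa [inv_inv] at this
    have h1 := hconjV y hyN _ (hα _ hq')
    have e : y * ((y⁻¹ * q * y)⁻¹ * (a * (y⁻¹ * q * y) * a⁻¹)) * y⁻¹ =
        q⁻¹ * ((y * a * y⁻¹) * q * (y * a * y⁻¹)⁻¹) := by group
    rw [← e]; exact h1
  have hγ : ∀ q ∈ Q₁, q⁻¹ * (k * q * k⁻¹) ∈ V₁ := by
    intro q hq
    have hq' : (y * a * y⁻¹) * q * (y * a * y⁻¹)⁻¹ ∈ Q₁ :=
      (Subgroup.mem_normalizer_iff.1 hyaN q).1 hq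
    have h1 := hβ q hq
    have h2 := hα _ hq'
    have e : q⁻¹ * (k * q * k⁻¹) = (q⁻¹ * ((y * a * y⁻¹) * q * (y * a * y⁻¹)⁻¹)) *
        (((y * a * y⁻¹) * q * (y * a * y⁻¹)⁻¹)⁻¹ *
          (a * ((y * a * y⁻¹) * q * (y * a * y⁻¹)⁻¹) * a⁻¹)) := by
      rw [hkdef]; group
    rw [e]; exact V₁.mul_mem h1 h2
  obtain ⟨t, ht⟩ : ∃ t : MulAut ↥V₁, t = cjAut V₁ ⟨a, haNV⟩ := ⟨_, rfl⟩
  obtain ⟨s, hs⟩ : ∃ s : MulAut ↥V₁, s = cjAut V₁ ⟨k, hkNV⟩ := ⟨_, rfl⟩
  have hsv : ∀ v : ↥V₁, ((s v : ↥V₁) : H) = k * v * k⁻¹ := fun v => by rw [hs]; rfl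
  have htv : ∀ v : ↥V₁, ((t v : ↥V₁) : H) = a * v * a⁻¹ := fun v => by rw [ht]; rfl
  have hts : t * s * t⁻¹ = s⁻¹ := by
    rw [ht, hs, ← map_inv, ← map_mul, ← map_mul, ← map_inv]
    congr 1
    apply Subtype.ext
    simp only [Subgroup.coe_mul, Subgroup.coe_inv]
    exact hτk
  have hcomm : ∀ x y : ↥V₁, x * y = y * x :=
    fun x y => Subtype.ext (hV₁c y y.2 x (hV₁Q₁ x.2))
  have hexp : ∀ v : ↥V₁, v * v = 1 := fun v => Subtype.ext (hV₁2 v v.2)
  have hstar : ∀ v ∈ V₁, ∀ w ∈ V₁, v ∉ A → w ∉ A → v * w ∈ A := by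
    intro v hv w hw hvA hwA
    have hBg : Cfsg.Agent.Helper23.zjGood 2 true B :=
      ⟨IsMulCommutative.of_setLike_mul_comm (fun x hx y hy => hAc x (hBA hx) y (hBA hy)),
        fun _ x hx => hAg.2 rfl x (hBA hx)⟩
    have hVg : Cfsg.Agent.Helper23.zjGood 2 true V₁ :=
      ⟨IsMulCommutative.of_setLike_mul_comm (fun x hx y hy => hV₁c y hy x (hV₁Q₁ hx)),
        fun _ x hx => by rw [pow_two]; exact hV₁2 x hx⟩
    have hMg := Cfsg.Agent.Helper23.zjGood_sup_of_comm hBg hVg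
      (fun b hb v hv => hV₁c v hv b (hBQ₁ hb))
    have hMT : B ⊔ V₁ ≤ T := sup_le (hBA.trans hAT) (hV₁Q₁.trans hQ₁T)
    have hc1 := hAmax _ hMT hMg
    have hc2 := card_le_two_mul A B a hidx
    have := mul_mem_of_card_le_two B (B ⊔ V₁) le_sup_left (hc1.trans hc2) v w
      ((le_sup_right : V₁ ≤ B ⊔ V₁) hv) ((le_sup_right : V₁ ≤ B ⊔ V₁) hw)
      (fun h => hvA (hBA h)) (fun h => hwA (hBA h))
    exact hBA this
  obtain ⟨z, hz⟩ : ∃ z : ↥V₁, ∀ v : ↥V₁, t v = v ∨ t v = v * z := by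
    by_cases hex : ∃ v₀ ∈ V₁, v₀ ∉ A
    · obtain ⟨v₀, hv₀, hv₀A⟩ := hex
      have hav₀ : a * v₀ * a⁻¹ ∈ V₁ := (Subgroup.mem_normalizer_iff.1 haNV v₀).1 hv₀
      refine ⟨⟨v₀ * (a * v₀ * a⁻¹)⁻¹, V₁.mul_mem hv₀ (V₁.inv_mem hav₀)⟩, fun v => ?_⟩
      by_cases hvA : (v : H) ∈ A
      · left
        apply Subtype.ext
        rw [htv, hAc a haA v hvA]; group
      · right
        apply Subtype.ext
        rw [htv]
        have h1 := hstar v v.2 v₀ hv₀ hvA hv₀A
        have h2 : a * (v * v₀) * a⁻¹ = v * v₀ := by rw [hAc a haA _ h1]; group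
        show a * v * a⁻¹ = v * (v₀ * (a * v₀ * a⁻¹)⁻¹)
        calc a * v * a⁻¹ = (a * (v * v₀) * a⁻¹) * (a * v₀ * a⁻¹)⁻¹ := by group
          _ = v * v₀ * (a * v₀ * a⁻¹)⁻¹ := by rw [h2]
          _ = v * (v₀ * (a * v₀ * a⁻¹)⁻¹) := by group
    · push Not at hex
      refine ⟨1, fun v => Or.inl ?_⟩
      apply Subtype.ext
      rw [htv, hAc a haA v (hex v v.2)]; group
  have hs1 : s ≠ 1 := by
    intro hs1
    have hkv : ∀ v ∈ V₁, k * v * k⁻¹ = v := by
      intro v hv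
      have := hsv ⟨v, hv⟩
      rw [hs1] at this
      exact this.symm
    have hkk : k * k ∈ Subgroup.centralizer (Q : Set H) := by
      rw [Subgroup.mem_centralizer_iff]
      intro q hq
      have hqQ₁ := hQQ₁ hq
      have hv := hγ q hqQ₁
      have h1 := hkv _ hv
      have h2 := hV₁2 _ hv
      have h3 : k * k * q * k⁻¹ * k⁻¹ = q := by
        calc k * k * q * k⁻¹ * k⁻¹
            = (k * q * k⁻¹) * (k * (q⁻¹ * (k * q * k⁻¹)) * k⁻¹) := by group
          _ = (k * q * k⁻¹) * (q⁻¹ * (k * q * k⁻¹)) := by rw [h1]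
          _ = q * ((q⁻¹ * (k * q * k⁻¹)) * (q⁻¹ * (k * q * k⁻¹))) := by group
          _ = q := by rw [h2, mul_one]
      calc q * (k * k) = (k * k * q * k⁻¹ * k⁻¹) * (k * k) := by rw [h3]
        _ = k * k * q := by group
    have hkkQ : k * k ∈ Q := hQc hkk
    obtain ⟨m, hm⟩ := hn
    apply hk
    have e : k ^ n = (k * k) ^ m * k := by
      rw [hm, pow_succ, pow_mul, pow_two]
    have e2 : k = ((k * k) ^ m)⁻¹ * k ^ n := by rw [e, inv_mul_cancel_left]
    rw [e2]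
    exact Q.mul_mem (Q.inv_mem (Q.pow_mem hkkQ m)) hkn
  have hsn : s ^ n = 1 := by
    rw [hs, ← map_pow]
    apply MulEquiv.ext
    intro v
    apply Subtype.ext
    rw [cjAut_apply, Subgroup.coe_pow]
    show k ^ n * (v : H) * (k ^ n)⁻¹ = (v : H)
    have := hV₁c v v.2 (k ^ n) (hQQ₁ hkn)
    rw [this]; group
  exact Cfsg.Agent.Helper23.involves_s4_of_aut V₁ hcomm hexp k a t s hsv htv z hz hts hτk hs1 n hn
    hsn

end Cfsg.Agent.Helper10
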