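import Mathlib
import Cfsg.Prelude.Def_ConjugacyFunctors
import Cfsg.Prelude.Def_FusionSystem
import Cfsg.Prelude.Def_FusionComponents
import Cfsg.Prelude.Def_LocalEven
import Cfsg.Agent.Helper10.KStable

/-!
# Solvability of the fusion system of a group whose sections are `p`-stable

If every section of the finite group `G` is `p`-stable in the normalizer form, then the fusion system
of `G` on a Sylow `p`-subgroup `P` is a solvable fusion system: for `R` strongly closed, the factor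
system on `P/R` is the fusion system of `N_G(R)/R`, in which `K_∞(P/R)` is normal because its
normalizer controls strong fusion.
-/

set_option autoImplicit false

namespace Cfsg.Agent.Helper10

open Cfsg

universe u

section

variable {p : ℕ} [Fact p.Prime]

/-- Control of strong fusion in the explicit form, for the given Sylow subgroup. -/
theorem csf_of_qstab' (W : ∀ (Q : Type u) [Group Q], Subgroup Q) (hW : IsCharPFunctor.{u} p W)
    (hWn : ∀ (X : Type u) [Group X] [Finite X] (S : Sylow p X),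
      Subgroup.centralizer ((pCore p X : Subgroup X) : Set X) ≤ pCore p X →
      (∀ (Y : Type u) [Group Y], IsSec X Y → QStab p Y) →
      (inducedFunctor W (S : Subgroup X)).Normal)
    {G : Type u} [Group G] [Finite G] (hst : ∀ (Y : Type u) [Group Y], IsSec G Y → QStab p Y)
    (S : Sylow p G) (A : Set G) (g : G) (hA : A ⊆ ((S : Subgroup G) : Set G))
    (hgA : lc g A ⊆ ((S : Subgroup G) : Set G)) :
    ∃ c ∈ Subgroup.normalizer (inducedFunctor W (S : Subgroup G) : Set G),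
      ∀ a ∈ A, c * a * c⁻¹ = g * a * g⁻¹ := by
  classical
  have h𝓦 : ∀ W' ∈ ({W} : Set (∀ (Q : Type u) [Group Q], Subgroup Q)),
      IsCharPFunctor.{u} p W' := by
    intro W' hW'
    rw [Set.mem_singleton_iff] at hW'
    rw [hW']; exact hW
  have main := ctl_main' h𝓦
    (fun (H : Type u) [Group H] => ∀ (Y : Type u) [Group Y], IsSec H Y → QStab p Y)
    (fun H _ _ h L Y _ hY => h Y (((IsSec.refl H).sub L).trans hY))
    (fun H _ _ h M _ Y _ hY => h Y (((IsSec.refl H).quot M).trans hY)) ?_ G hst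
  · obtain ⟨c, hc, e⟩ := main S A g hA hgA
    refine ⟨c, ?_, e⟩
    apply hc.mem_subgroup
    intro y hy
    rw [mem_stp] at hy
    obtain ⟨W', hW', -, hy2⟩ := hy
    rw [Set.mem_singleton_iff] at hW'
    rw [hW'] at hy2
    exact hy2
  · intro H _ _ hH hcons T A g hA hgA
    have hn := hWn H T hcons hH
    have hg : g ∈ stepSet (fam {W} _) ⊤ (T : Subgroup H) := by
      rw [mem_stp]
      refine ⟨W, rfl, Subgroup.mem_top _, ?_⟩
      rw [Subgroup.normalizer_eq_top_iff.mpr hn]; exact Subgroup.mem_top _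
    exact Good.of_ch (Ch.single hg hA hgA)

/-- `N(K_∞(T))` controls strong fusion in `T`, for every Sylow subgroup `T` of every section of a group
all of whose sections are `p`-stable in the normalizer form. -/
theorem kinf_ctl {G : Type u} [Group G] [Finite G]
    (hst : ∀ (K R : Subgroup G) [(R.subgroupOf K).Normal],
      Cfsg.IsNormalizerPStable p (↥K ⧸ R.subgroupOf K))
    (K R : Subgroup G) [hR : (R.subgroupOf K).Normal] (T : Sylow p (↥K ⧸ R.subgroupOf K))
    (A : Set (↥K ⧸ R.subgroupOf K)) (g : ↥K ⧸ R.subgroupOf K)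
    (hA : A ⊆ ((T : Subgroup (↥K ⧸ R.subgroupOf K)) : Set (↥K ⧸ R.subgroupOf K)))
    (hgA : lc g A ⊆ ((T : Subgroup (↥K ⧸ R.subgroupOf K)) : Set (↥K ⧸ R.subgroupOf K))) :
    ∃ c ∈ Subgroup.normalizer
        (inducedFunctor kInfLower (T : Subgroup (↥K ⧸ R.subgroupOf K)) : Set (↥K ⧸ R.subgroupOf K)),
      ∀ a ∈ A, c * a * c⁻¹ = g * a * g⁻¹ :=
  csf_of_qstab' (fun (Q : Type u) [Group Q] => kInfLower Q) isCharPFunctor_kInfLower
    (fun X _ _ S hc h => (kinf_normal_of_qstab S hc h).1)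
    (fun Y _ hY => qstab_of_sections hst Y ((isSec_quot K R).trans hY)) T A g hA hgA

end

section SecMaps

variable {G : Type u} [Group G]

/-- The map `P → K/R` for `P ≤ K`. -/
def secα (P R K : Subgroup G) (hPK : P ≤ K) [(R.subgroupOf K).Normal] :
    ↥P →* ↥K ⧸ R.subgroupOf K :=
  (QuotientGroup.mk' (R.subgroupOf K)).comp (Subgroup.inclusion hPK)

theorem secα_eq_one (P R K : Subgroup G) (hPK : P ≤ K) [(R.subgroupOf K).Normal] (s : ↥P) :
    secα P R K hPK s = 1 ↔ (s : G) ∈ R := by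
  show ((Subgroup.inclusion hPK s : ↥K) : ↥K ⧸ R.subgroupOf K) = 1 ↔ _
  rw [QuotientGroup.eq_one_iff]
  rfl

/-- Conjugation by an element of `K` commutes with `secα`. -/
theorem secα_conj (P R K : Subgroup G) (hPK : P ≤ K) [(R.subgroupOf K).Normal] (k : ↥K) (s : ↥P)
    (h : (k : G) * (s : G) * (k : G)⁻¹ ∈ P) :
    QuotientGroup.mk' (R.subgroupOf K) k * secα P R K hPK s * (QuotientGroup.mk' (R.subgroupOf K) k)⁻¹ =
      secα P R K hPK ⟨(k : G) * (s : G) * (k : G)⁻¹, h⟩ := by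
  show QuotientGroup.mk' (R.subgroupOf K) k * QuotientGroup.mk' (R.subgroupOf K) (Subgroup.inclusion hPK s) *
    (QuotientGroup.mk' (R.subgroupOf K) k)⁻¹ = QuotientGroup.mk' (R.subgroupOf K) (Subgroup.inclusion hPK _)
  rw [← map_inv, ← map_mul, ← map_mul]
  rfl

/-- If the image of `k ∈ K` in `K/R` is the image of an element of `P ≥ R`, then `k ∈ P`. -/
theorem mem_of_secα_eq (P R K : Subgroup G) (hPK : P ≤ K) [(R.subgroupOf K).Normal] (hRP : R ≤ P)
    (k : ↥K) (s : ↥P) (h : secα P R K hPK s = QuotientGroup.mk' (R.subgroupOf K) k) : (k : G) ∈ P := by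
  have h1 : ((Subgroup.inclusion hPK s : ↥K) : ↥K ⧸ R.subgroupOf K) = (k : ↥K ⧸ R.subgroupOf K) := h
  rw [QuotientGroup.eq] at h1
  have h2 : ((Subgroup.inclusion hPK s)⁻¹ * k : ↥K).1 ∈ R := h1
  have h3 : (s : G)⁻¹ * (k : G) ∈ P := hRP h2
  have h4 := P.mul_mem s.2 h3
  simpa using h4

/-- The induced map `P/R → K/R`. -/
def secJ (P R K : Subgroup G) (hPK : P ≤ K) [(R.subgroupOf K).Normal] [(R.subgroupOf P).Normal] :
    ↥P ⧸ R.subgroupOf P →* ↥K ⧸ R.subgroupOf K :=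
  QuotientGroup.lift (R.subgroupOf P) (secα P R K hPK) (by
    intro s hs
    rw [MonoidHom.mem_ker, secα_eq_one]
    exact hs)

theorem secJ_mk (P R K : Subgroup G) (hPK : P ≤ K) [(R.subgroupOf K).Normal] [(R.subgroupOf P).Normal]
    (s : ↥P) : secJ P R K hPK (QuotientGroup.mk' (R.subgroupOf P) s) = secα P R K hPK s := rfl

theorem secJ_injective (P R K : Subgroup G) (hPK : P ≤ K) [(R.subgroupOf K).Normal]
    [(R.subgroupOf P).Normal] : Function.Injective (secJ P R K hPK) := by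
  rw [injective_iff_map_eq_one]
  intro z hz
  obtain ⟨s, rfl⟩ := QuotientGroup.mk'_surjective (R.subgroupOf P) z
  rw [secJ_mk, secα_eq_one] at hz
  rw [QuotientGroup.mk'_apply, QuotientGroup.eq_one_iff]
  exact hz

variable {p : ℕ} [Fact p.Prime] [Finite G]

/-- The image of the Sylow subgroup `P` in the section `K/R`. -/
noncomputable def secT (P : Sylow p G) (R K : Subgroup G) (hPK : (P : Subgroup G) ≤ K)
    [(R.subgroupOf K).Normal] : Sylow p (↥K ⧸ R.subgroupOf K) :=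
  (P.subtype hPK).mapSurjective (QuotientGroup.mk'_surjective (R.subgroupOf K))

theorem mem_secT (P : Sylow p G) (R K : Subgroup G) (hPK : (P : Subgroup G) ≤ K)
    [(R.subgroupOf K).Normal] (x : ↥K ⧸ R.subgroupOf K) :
    x ∈ (secT P R K hPK : Subgroup (↥K ⧸ R.subgroupOf K)) ↔
      ∃ s : ↥(P : Subgroup G), secα (P : Subgroup G) R K hPK s = x := by
  unfold secT
  rw [Sylow.coe_mapSurjective, Sylow.coe_subtype]
  constructor
  · rintro ⟨k, hk, rfl⟩
    exact ⟨⟨(k : G), hk⟩, rfl⟩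
  · rintro ⟨s, rfl⟩
    exact ⟨Subgroup.inclusion hPK s, s.2, rfl⟩

/-- The isomorphism `P/R ≃ T`. -/
noncomputable def secE (P : Sylow p G) (R K : Subgroup G) (hPK : (P : Subgroup G) ≤ K)
    [(R.subgroupOf K).Normal] [(R.subgroupOf (P : Subgroup G)).Normal] :
    ↥(P : Subgroup G) ⧸ R.subgroupOf (P : Subgroup G) ≃*
      ↥(secT P R K hPK : Subgroup (↥K ⧸ R.subgroupOf K)) :=
  MulEquiv.ofBijective ((secJ (P : Subgroup G) R K hPK).codRestrict
      (secT P R K hPK : Subgroup (↥K ⧸ R.subgroupOf K)) (fun z => by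
        obtain ⟨s, rfl⟩ := QuotientGroup.mk'_surjective _ z
        exact (mem_secT P R K hPK _).2 ⟨s, rfl⟩))
    ⟨fun a b h => secJ_injective (P : Subgroup G) R K hPK (congrArg Subtype.val h), fun t => by
      obtain ⟨s, hs⟩ := (mem_secT P R K hPK _).1 t.2
      exact ⟨QuotientGroup.mk' _ s, Subtype.ext hs⟩⟩

theorem secE_coe (P : Sylow p G) (R K : Subgroup G) (hPK : (P : Subgroup G) ≤ K)
    [(R.subgroupOf K).Normal] [(R.subgroupOf (P : Subgroup G)).Normal]
    (z : ↥(P : Subgroup G) ⧸ R.subgroupOf (P : Subgroup G)) :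
    ((secE P R K hPK z : ↥(secT P R K hPK : Subgroup (↥K ⧸ R.subgroupOf K))) : ↥K ⧸ R.subgroupOf K) =
      secJ (P : Subgroup G) R K hPK z := rfl

theorem secJ_symm (P : Sylow p G) (R K : Subgroup G) (hPK : (P : Subgroup G) ≤ K)
    [(R.subgroupOf K).Normal] [(R.subgroupOf (P : Subgroup G)).Normal]
    (t : ↥(secT P R K hPK : Subgroup (↥K ⧸ R.subgroupOf K))) :
    secJ (P : Subgroup G) R K hPK ((secE P R K hPK).symm t) = (t : ↥K ⧸ R.subgroupOf K) := by
  rw [← secE_coe, MulEquiv.apply_symm_apply]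

/-- `K_∞` of the image Sylow subgroup is the image of `K_∞(P/R)`. -/
theorem ind_kInf_secT (P : Sylow p G) (R K : Subgroup G) (hPK : (P : Subgroup G) ≤ K)
    [(R.subgroupOf K).Normal] [(R.subgroupOf (P : Subgroup G)).Normal] :
    inducedFunctor kInfLower (secT P R K hPK : Subgroup (↥K ⧸ R.subgroupOf K)) =
      (kInfLower (↥(P : Subgroup G) ⧸ R.subgroupOf (P : Subgroup G))).map (secJ (P : Subgroup G) R K hPK) := by
  unfold inducedFunctor
  rw [← kInfLower_map_equiv (secE P R K hPK), Subgroup.map_map]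
  rfl

end SecMaps

section Core

variable {p : ℕ} [Fact p.Prime] {G : Type u} [Group G] [Finite G]
variable (P : Sylow p G) (R K : Subgroup G) (hPK : (P : Subgroup G) ≤ K)
  [hRKn : (R.subgroupOf K).Normal] [hRn : (R.subgroupOf (P : Subgroup G)).Normal]

local notation "Pbar" => ((P : Subgroup G) ⧸ R.subgroupOf (P : Subgroup G))
local notation "θ'" => (QuotientGroup.mk' (R.subgroupOf (P : Subgroup G)))
local notation "π'" => (QuotientGroup.mk' (R.subgroupOf K))
local notation "J'" => (secJ (P : Subgroup G) R K hPK)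
local notation "T'" => (secT P R K hPK : Subgroup (K ⧸ R.subgroupOf K))

theorem core_ne_bot_of_ctl (hRP : R ≤ (P : Subgroup G)) (hRne : R ≠ (P : Subgroup G))
    (hgK : ∀ g : G, (∀ x ∈ R, g * x * g⁻¹ ∈ (P : Subgroup G)) → g ∈ K)
    (hctl : ∀ (A : Set (↥K ⧸ R.subgroupOf K)) (g : ↥K ⧸ R.subgroupOf K),
      A ⊆ ((T' : Subgroup (↥K ⧸ R.subgroupOf K)) : Set (↥K ⧸ R.subgroupOf K)) →
      lc g A ⊆ ((T' : Subgroup (↥K ⧸ R.subgroupOf K)) : Set (↥K ⧸ R.subgroupOf K)) →
      ∃ c ∈ Subgroup.normalizer (inducedFunctor kInfLower T' : Set (↥K ⧸ R.subgroupOf K)),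
        ∀ a ∈ A, c * a * c⁻¹ = g * a * g⁻¹)
    (E : FusionSystem (⊤ : Subgroup Pbar))
    (hE : (groupFusionSystem (P : Subgroup G)).IsFactorSystem R θ' E) :
    E.core ≠ ⊥ := by
  classical
  obtain ⟨-, -, -, hHom⟩ := hE
  -- `K_∞(P/R)` is not trivial
  have hPb : IsPGroup p Pbar := P.isPGroup'.to_quotient _
  have hnt : Nontrivial Pbar := by
    obtain ⟨s, hsP, hsR⟩ : ∃ s ∈ (P : Subgroup G), s ∉ R := by
      by_contra h
      push Not at h
      exact hRne (le_antisymm hRP h)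
    refine ⟨⟨θ' ⟨s, hsP⟩, 1, ?_⟩⟩
    intro h
    rw [QuotientGroup.mk'_apply, QuotientGroup.eq_one_iff] at h
    exact hsR h
  have hQne : kInfLower Pbar ≠ ⊥ := (isCharPFunctor_kInfLower (p := p)).1 Pbar hPb hnt
  suffices hN : E.IsNormal (kInfLower Pbar) by
    intro hcore
    apply hQne
    rw [eq_bot_iff, ← hcore]
    exact le_sSup hN
  refine ⟨le_top, ?_⟩
  intro P' φ' hφ'
  obtain ⟨-, φ, hφ, hP1, hφS, hP'1, hind⟩ := (hHom P' φ').1 hφ'
  obtain ⟨-, -, g, hg⟩ := hφ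
  have hpre : ∀ (B : Subgroup Pbar) (y : G), y ∈ FusionSystem.preimageAlong θ' B ↔
      ∃ s : ↥(P : Subgroup G), θ' s ∈ B ∧ (s : G) = y := by
    intro B y
    unfold FusionSystem.preimageAlong
    rw [Subgroup.mem_map]
    constructor
    · rintro ⟨s, hs, rfl⟩
      exact ⟨s, hs, rfl⟩
    · rintro ⟨s, hs, rfl⟩
      exact ⟨s, hs, rfl⟩
  have hRpre : ∀ x ∈ R, x ∈ FusionSystem.preimageAlong θ' P' := by
    intro x hx
    refine (hpre P' x).2 ⟨⟨x, hRP hx⟩, ?_, rfl⟩
    have h1 : θ' ⟨x, hRP hx⟩ = 1 := by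
      rw [QuotientGroup.mk'_apply, QuotientGroup.eq_one_iff]
      exact hx
    rw [h1]
    exact Subgroup.one_mem _
  have hgK' : g ∈ K := hgK g (fun x hx => by
    have h1 := hφS ⟨x, hRpre x hx⟩
    rw [hg] at h1
    exact h1)
  have hgT : ∀ z ∈ P', π' ⟨g, hgK'⟩ * J' z * (π' ⟨g, hgK'⟩)⁻¹ ∈ T' := by
    intro z hz
    obtain ⟨s, rfl⟩ := QuotientGroup.mk'_surjective _ z
    have hs : (s : G) ∈ FusionSystem.preimageAlong θ' P' := (hpre P' _).2 ⟨s, hz, rfl⟩
    have h1 : g * (s : G) * g⁻¹ ∈ (P : Subgroup G) := by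
      have h2 := hφS ⟨s, hs⟩
      rw [hg] at h2
      exact h2
    rw [secJ_mk, secα_conj (P : Subgroup G) R K hPK ⟨g, hgK'⟩ s h1]
    exact (mem_secT P R K hPK _).2 ⟨_, rfl⟩
  obtain ⟨c, hcN, hc⟩ := hctl (J' '' (P' : Set Pbar)) (π' ⟨g, hgK'⟩)
    (by
      rintro _ ⟨z, -, rfl⟩
      exact ((secE P R K hPK) z).2)
    (by
      rintro _ ⟨_, ⟨z, hz, rfl⟩, rfl⟩
      exact hgT z hz)
  rw [ind_kInf_secT P R K hPK] at hcN
  have hcW : ∀ q ∈ kInfLower Pbar, ∃ q' ∈ kInfLower Pbar, J' q' = c * J' q * c⁻¹ := by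
    intro q hq
    obtain ⟨q', hq', h⟩ := (Subgroup.mem_normalizer_iff.mp hcN (J' q)).mp (Subgroup.mem_map_of_mem _ hq)
    exact ⟨q', hq', h⟩
  have hcW' : ∀ q ∈ kInfLower Pbar, ∃ q' ∈ kInfLower Pbar, c * J' q' * c⁻¹ = J' q := by
    intro q hq
    have hcN' := Subgroup.inv_mem _ hcN
    obtain ⟨q', hq', h⟩ := (Subgroup.mem_normalizer_iff.mp hcN' (J' q)).mp (Subgroup.mem_map_of_mem _ hq)
    refine ⟨q', hq', ?_⟩
    rw [h]
    group
  have hmem : ∀ z ∈ P' ⊔ kInfLower Pbar, c * J' z * c⁻¹ ∈ T' := by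
    have hle : P' ⊔ kInfLower Pbar ≤ Subgroup.comap J' (Subgroup.comap (MulAut.conj c).toMonoidHom T') := by
      rw [sup_le_iff]
      constructor
      · intro z hz
        show c * J' z * c⁻¹ ∈ T'
        rw [hc (J' z) ⟨z, hz, rfl⟩]
        exact hgT z hz
      · intro z hz
        show c * J' z * c⁻¹ ∈ T'
        obtain ⟨q', -, h⟩ := hcW z hz
        rw [← h]
        exact ((secE P R K hPK) q').2
    exact fun z hz => hle hz
  obtain ⟨ψ, hψ⟩ : ∃ ψ : ↥(P' ⊔ kInfLower Pbar) →* Pbar,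
      ∀ z : ↥(P' ⊔ kInfLower Pbar), J' (ψ z) = c * J' (z : Pbar) * c⁻¹ := by
    refine ⟨(secE P R K hPK).symm.toMonoidHom.comp
      (((MulAut.conj c).toMonoidHom.comp (MonoidHom.comp J' (P' ⊔ kInfLower Pbar).subtype)).codRestrict T'
        (fun z => hmem z z.2)), ?_⟩
    intro z
    show J' ((secE P R K hPK).symm _) = _
    rw [secJ_symm]
    rfl
  refine ⟨ψ, ?_, ?_, ?_⟩
  · -- `ψ` is a map of `E`
    rw [hHom]
    obtain ⟨nK, hnK⟩ := QuotientGroup.mk'_surjective (R.subgroupOf K) c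
    have hP2 : FusionSystem.preimageAlong θ' (P' ⊔ kInfLower Pbar) ≤ (P : Subgroup G) := by
      intro y hy
      obtain ⟨s, -, rfl⟩ := (hpre _ y).1 hy
      exact s.2
    have hn : ∀ s : ↥(P : Subgroup G), θ' s ∈ P' ⊔ kInfLower Pbar →
        (nK : G) * (s : G) * (nK : G)⁻¹ ∈ (P : Subgroup G) := by
      intro s hs
      have h1 := hmem _ hs
      rw [secJ_mk, ← hnK] at h1
      obtain ⟨s', hs'⟩ := (mem_secT P R K hPK _).1 h1
      have h2 : π' nK * secα (P : Subgroup G) R K hPK s * (π' nK)⁻¹ =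
          π' (nK * Subgroup.inclusion hPK s * nK⁻¹) := by
        show π' nK * π' (Subgroup.inclusion hPK s) * (π' nK)⁻¹ = _
        rw [map_mul, map_mul, map_inv]
      rw [h2] at hs'
      exact mem_of_secα_eq (P : Subgroup G) R K hPK hRP _ s' hs'
    have hφ2 : ∀ x : ↥(FusionSystem.preimageAlong θ' (P' ⊔ kInfLower Pbar)),
        conjHom (FusionSystem.preimageAlong θ' (P' ⊔ kInfLower Pbar)) (nK : G) x ∈ (P : Subgroup G) := by
      intro x
      obtain ⟨s, hs, hsx⟩ := (hpre _ x.1).1 x.2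
      show (nK : G) * (x : G) * (nK : G)⁻¹ ∈ (P : Subgroup G)
      rw [← hsx]
      exact hn s hs
    have hP2' : ∀ x : ↥(FusionSystem.preimageAlong θ' (P' ⊔ kInfLower Pbar)),
        θ' ⟨x, hP2 x.2⟩ ∈ P' ⊔ kInfLower Pbar := by
      intro x
      obtain ⟨s, hs, hsx⟩ := (hpre _ x.1).1 x.2
      have h1 : (⟨(x : G), hP2 x.2⟩ : ↥(P : Subgroup G)) = s := Subtype.ext hsx.symm
      rw [h1]
      exact hs
    refine ⟨le_top, conjHom _ (nK : G), ⟨hP2, hφ2, (nK : G), fun x => rfl⟩, hP2, hφ2, hP2', ?_⟩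
    intro x
    apply secJ_injective (P : Subgroup G) R K hPK
    rw [hψ]
    show c * J' (θ' ⟨x, hP2 x.2⟩) * c⁻¹ = J' (θ' ⟨_, hφ2 x⟩)
    rw [secJ_mk, secJ_mk, ← hnK, secα_conj (P : Subgroup G) R K hPK nK ⟨x, hP2 x.2⟩ (hφ2 x)]
    rfl
  · -- `ψ` extends `φ'`
    intro x
    apply secJ_injective (P : Subgroup G) R K hPK
    rw [hψ]
    obtain ⟨s, hs⟩ := QuotientGroup.mk'_surjective (R.subgroupOf (P : Subgroup G)) (x : Pbar)
    have hsP' : θ' s ∈ P' := by
      rw [hs]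
      exact x.2
    have hspre : (s : G) ∈ FusionSystem.preimageAlong θ' P' := (hpre P' _).2 ⟨s, hsP', rfl⟩
    have h1 := hind ⟨(s : G), hspre⟩
    have hx : x = ⟨θ' ⟨(s : G), hP1 hspre⟩, hP'1 ⟨(s : G), hspre⟩⟩ := Subtype.ext hs.symm
    rw [hx, h1]
    show c * J' (θ' s) * c⁻¹ = J' (θ' ⟨φ ⟨(s : G), hspre⟩, hφS ⟨(s : G), hspre⟩⟩)
    rw [hc (J' (θ' s)) ⟨θ' s, hsP', rfl⟩, secJ_mk, secJ_mk]
    have h3 : g * (s : G) * g⁻¹ ∈ (P : Subgroup G) := by
      have h2 := hφS ⟨s, hspre⟩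
      rw [hg] at h2
      exact h2
    rw [secα_conj (P : Subgroup G) R K hPK ⟨g, hgK'⟩ s h3]
    congr 1
    exact Subtype.ext (hg ⟨(s : G), hspre⟩).symm
  · -- `ψ` maps `K_∞(P/R)` onto itself
    apply le_antisymm
    · rintro _ ⟨z, hz, rfl⟩
      have hz' : (z : Pbar) ∈ kInfLower Pbar := hz
      obtain ⟨q', hq', h⟩ := hcW _ hz'
      have h1 : ψ z = q' := secJ_injective (P : Subgroup G) R K hPK (by rw [hψ, h])
      rw [h1]
      exact hq'
    · intro q hq
      obtain ⟨q', hq', h⟩ := hcW' q hq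
      refine ⟨⟨q', Subgroup.mem_sup_right hq'⟩, hq', ?_⟩
      apply secJ_injective (P : Subgroup G) R K hPK
      rw [hψ]
      exact h

end Core

/-- If every section of `G` is `p`-stable in the normalizer form, the fusion system of `G` on a Sylow
`p`-subgroup is a solvable fusion system. -/
theorem solvable_of_sections_nps {G : Type u} [Group G] [Finite G] {p : ℕ} [Fact p.Prime]
    (hst : ∀ (K R : Subgroup G) [(R.subgroupOf K).Normal],
      Cfsg.IsNormalizerPStable p (↥K ⧸ R.subgroupOf K))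
    (P : Sylow p G) : (groupFusionSystem (P : Subgroup G)).IsSolvableSystem := by
  intro R hRsc hRne hRn E hE
  have hRP : R ≤ (P : Subgroup G) := hRsc.1
  have hPK : (P : Subgroup G) ≤ Subgroup.normalizer (R : Set G) :=
    (Subgroup.normal_subgroupOf_iff_le_normalizer hRP).mp hRn
  refine core_ne_bot_of_ctl P R (Subgroup.normalizer (R : Set G)) hPK hRP hRne ?_
    (fun A g hA hgA => kinf_ctl hst _ R _ A g hA hgA) E hE
  intro g hg
  apply Subgroup.mem_normalizer_fintype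
  intro x hx
  have h1 := hRsc.2 (Subgroup.zpowers x) (Subgroup.zpowers_le.2 hx) (conjHom (Subgroup.zpowers x) g)
    ⟨(Subgroup.zpowers_le.2 hx).trans hRP, ?_, g, fun _ => rfl⟩ ⟨x, Subgroup.mem_zpowers x⟩
  · exact h1
  · rintro ⟨y, hy⟩
    obtain ⟨k, rfl⟩ := Subgroup.mem_zpowers_iff.mp hy
    show g * x ^ k * g⁻¹ ∈ (P : Subgroup G)
    rw [← conj_zpow]
    exact Subgroup.zpow_mem _ (hg x hx) k

end Cfsg.Agent.Helper10
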