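import Mathlib
import Cfsg.Prelude.Def_ConjugacyFunctors
import Cfsg.Prelude.Def_LocalEven
import Cfsg.Prelude.Def_PLocal
import Cfsg.Agent.Helper10.SolvFus
import Cfsg.Agent.Helper10.SecFusion2
import Cfsg.Agent.Helper19.SylowQuot

/-!
# Single-step control of strong fusion relative to a subgroup `H`

Generic reduction lemmas: let `T` be a Sylow `p`-subgroup of `X`, `H ≥ T` a subgroup such that for
every proper subgroup `L ≥ T` the `L`-fusion in `T` is realised in `H`.  If all sections of `X` are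
`p`-stable (so that `N(K_∞)` controls strong fusion in sections), then the `X`-fusion in `T` is
realised in `H` unless `X` is `p`-constrained with `O_{p'}(X) = 1` (or `O_{p'}(X) ≠ 1`).
-/

set_option autoImplicit false

namespace Cfsg.Agent.Helper10

open Cfsg

universe u

section ConjInto

variable {p : ℕ} [Fact p.Prime] {X : Type*} [Group X] [Finite X]

/-- A `p`-subgroup `R` of `P K` (`K` a `p'`-group normalized by the `p`-group `P`) is conjugate into
`P` by an element of `K`. -/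
theorem exists_conj_into (K P R : Subgroup X) (hK : (Nat.card K).Coprime p)
    (hPK : P ≤ Subgroup.normalizer (K : Set X)) (hP : IsPGroup p P) (hR : IsPGroup p R)
    (hRPK : R ≤ P ⊔ K) : ∃ k ∈ K, ∀ r ∈ R, k * r * k⁻¹ ∈ P := by
  have hp : p.Prime := Fact.out
  obtain ⟨Y, hY⟩ : ∃ Y : Subgroup X, Y = P ⊔ K := ⟨_, rfl⟩
  have hPY : P ≤ Y := by rw [hY]; exact le_sup_left
  have hKY : K ≤ Y := by rw [hY]; exact le_sup_right
  have hYN : Y ≤ Subgroup.normalizer (K : Set X) := by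
    rw [hY]; exact sup_le hPK Subgroup.le_normalizer
  haveI hKn : (K.subgroupOf Y).Normal := Subgroup.normal_subgroupOf_of_le_normalizer hYN
  have htop : P.subgroupOf Y ⊔ K.subgroupOf Y = ⊤ := by
    rw [← Subgroup.subgroupOf_sup hPY hKY, ← hY, Subgroup.subgroupOf_self]
  have hP' : IsPGroup p (P.subgroupOf Y) := hP.comap_subtype
  have hidx : ¬ p ∣ (P.subgroupOf Y).index := by
    have h1 := Helper19.relIndex_sup_normal (P.subgroupOf Y) (K.subgroupOf Y)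
    rw [htop, Subgroup.relIndex_top_right] at h1
    rw [h1]
    intro hdvd
    have h2 : (P.subgroupOf Y).relIndex (K.subgroupOf Y) ∣ Nat.card (K.subgroupOf Y) :=
      Subgroup.relIndex_dvd_card _ _
    have h3 : Nat.card (K.subgroupOf Y) = Nat.card K :=
      Nat.card_congr (Subgroup.subgroupOfEquivOfLe hKY).toEquiv
    rw [h3] at h2
    exact (Nat.Prime.coprime_iff_not_dvd hp).mp hK.symm (hdvd.trans h2)
  obtain ⟨Q, hQ⟩ := (hR.comap_subtype (K := Y)).exists_le_sylow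
  obtain ⟨y, hy⟩ := MulAction.exists_smul_eq ↥Y (hP'.toSylow hidx) Q
  have hconj : ∀ r : ↥Y, (r : X) ∈ R → y⁻¹ * r * y ∈ P.subgroupOf Y := by
    intro r hr
    have h1 : r ∈ (Q : Subgroup ↥Y) := hQ (Subgroup.mem_subgroupOf.mpr hr)
    rw [← hy, Sylow.smul_def, Sylow.pointwise_smul_def,
      Subgroup.mem_pointwise_smul_iff_inv_smul_mem] at h1
    have h2 : y⁻¹ * r * y ∈ ((hP'.toSylow hidx : Sylow p ↥Y) : Subgroup ↥Y) := by
      simpa [MulAut.smul_def] using h1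
    rw [IsPGroup.toSylow_coe] at h2
    exact h2
  have hyinv : y⁻¹ ∈ P.subgroupOf Y ⊔ K.subgroupOf Y := by rw [htop]; exact Subgroup.mem_top _
  rw [Subgroup.mem_sup_of_normal_right] at hyinv
  obtain ⟨q, hq, k, hk, hqk⟩ := hyinv
  refine ⟨(k : X), Subgroup.mem_subgroupOf.mp hk, fun r hr => ?_⟩
  have h1 := hconj ⟨r, hY ▸ hRPK hr⟩ hr
  have h2 : q⁻¹ * (y⁻¹ * ⟨r, hY ▸ hRPK hr⟩ * y) * q ∈ P.subgroupOf Y :=
    Subgroup.mul_mem _ (Subgroup.mul_mem _ (Subgroup.inv_mem _ hq) h1) hq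
  have e : q⁻¹ * (y⁻¹ * ⟨r, hY ▸ hRPK hr⟩ * y) * q = k * ⟨r, hY ▸ hRPK hr⟩ * k⁻¹ := by
    have hy' : y = (q * k)⁻¹ := by rw [hqk, inv_inv]
    rw [hy']
    group
  rw [e] at h2
  exact Subgroup.mem_subgroupOf.mp h2

end ConjInto

section Generic

variable {p : ℕ} [Fact p.Prime] {X : Type u} [Group X] [Finite X]

/-- `N(K_∞(T))` controls strong fusion in `T` when all sections are `QStab`. -/
theorem kinf_ctl_of_qstab (hst : ∀ (Y : Type u) [Group Y], IsSec X Y → QStab p Y) (T : Sylow p X)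
    (A : Set X) (g : X) (hA : A ⊆ ((T : Subgroup X) : Set X))
    (hgA : lc g A ⊆ ((T : Subgroup X) : Set X)) :
    ∃ c ∈ Subgroup.normalizer (inducedFunctor kInfLower (T : Subgroup X) : Set X),
      ∀ a ∈ A, c * a * c⁻¹ = g * a * g⁻¹ :=
  csf_of_qstab' (fun (Q : Type u) [Group Q] => kInfLower Q) isCharPFunctor_kInfLower
    (fun X _ _ S hc h => (kinf_normal_of_qstab S hc h).1) hst T A g hA hgA

/-- The case `O_p(X) = 1`. -/
theorem rel_pCore_bot (hst : ∀ (Y : Type u) [Group Y], IsSec X Y → QStab p Y) (T : Sylow p X)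
    (H : Subgroup X)
    (hsub : ∀ L : Subgroup X, L ≠ ⊤ → (T : Subgroup X) ≤ L → ∀ (B : Set X) (y : X), y ∈ L →
      B ⊆ ((T : Subgroup X) : Set X) → lc y B ⊆ ((T : Subgroup X) : Set X) →
      ∃ h ∈ H, ∀ a ∈ B, h * a * h⁻¹ = y * a * y⁻¹)
    (hP : pCore p X = ⊥) (hT : (T : Subgroup X) ≠ ⊥) (A : Set X) (g : X)
    (hA : A ⊆ ((T : Subgroup X) : Set X)) (hg : lc g A ⊆ ((T : Subgroup X) : Set X)) :
    ∃ h ∈ H, ∀ a ∈ A, h * a * h⁻¹ = g * a * g⁻¹ := by
  obtain ⟨c, hc, e⟩ := kinf_ctl_of_qstab hst T A g hA hg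
  have hL : Subgroup.normalizer (inducedFunctor kInfLower (T : Subgroup X) : Set X) ≠ ⊤ := by
    intro htop
    have hn : (inducedFunctor kInfLower (T : Subgroup X)).Normal :=
      Subgroup.normalizer_eq_top_iff.mp htop
    have h3 : inducedFunctor kInfLower (T : Subgroup X) ≤ pCore p X :=
      Helper23.le_pCore hn (T.2.to_le (ind_le _ _))
    rw [hP, le_bot_iff] at h3
    exact ind_ne_bot (fun (Q : Type u) [Group Q] => kInfLower Q) isCharPFunctor_kInfLower _ T.2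
      hT h3
  have hTL : (T : Subgroup X) ≤
      Subgroup.normalizer (inducedFunctor kInfLower (T : Subgroup X) : Set X) :=
    Subgroup.le_normalizer.trans
      (normalizer_le_normalizer_ind (fun (Q : Type u) [Group Q] => kInfLower Q)
        isCharPFunctor_kInfLower (T : Subgroup X) T.2)
  obtain ⟨h, hh, e'⟩ := hsub _ hL hTL A c hc hA (by rw [lc_congr e]; exact hg)
  exact ⟨h, hh, fun a ha => (e' a ha).trans (e a ha)⟩

/-- The case `X ≠ T C_X(O_p(X))`, `C_T(O_p(X)) ≰ O_p(X)`. -/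
theorem rel_decomp (T : Sylow p X) (H : Subgroup X)
    (hsub : ∀ L : Subgroup X, L ≠ ⊤ → (T : Subgroup X) ≤ L → ∀ (B : Set X) (y : X), y ∈ L →
      B ⊆ ((T : Subgroup X) : Set X) → lc y B ⊆ ((T : Subgroup X) : Set X) →
      ∃ h ∈ H, ∀ a ∈ B, h * a * h⁻¹ = y * a * y⁻¹)
    (hTC : (T : Subgroup X) ⊔ Subgroup.centralizer ((pCore p X : Subgroup X) : Set X) ≠ ⊤)
    (hTCP : ¬ (T : Subgroup X) ⊓ Subgroup.centralizer ((pCore p X : Subgroup X) : Set X)
      ≤ pCore p X) (A : Set X) (g : X)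
    (hA : A ⊆ ((T : Subgroup X) : Set X)) (hg : lc g A ⊆ ((T : Subgroup X) : Set X)) :
    ∃ h ∈ H, ∀ a ∈ A, h * a * h⁻¹ = g * a * g⁻¹ := by
  have hPn : (pCore p X).Normal := inferInstance
  have hCn : (Subgroup.centralizer ((pCore p X : Subgroup X) : Set X)).Normal := inferInstance
  have hBT : Subgroup.closure A ≤ (T : Subgroup X) := (Subgroup.closure_le _).mpr hA
  have hgB : ∀ b ∈ Subgroup.closure A, g * b * g⁻¹ ∈ (T : Subgroup X) := by
    intro b hb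
    have h1 : (Subgroup.closure A).map (MulAut.conj g).toMonoidHom ≤ (T : Subgroup X) := by
      rw [MonoidHom.map_closure, Subgroup.closure_le]
      rintro _ ⟨a, ha, rfl⟩
      exact hg ⟨a, ha, rfl⟩
    exact h1 ⟨b, hb, rfl⟩
  obtain ⟨e, heC, h, hhN, hghe, heB⟩ := exists_decomp_normal
    (Subgroup.centralizer ((pCore p X : Subgroup X) : Set X)) T (Subgroup.closure A) hBT g hgB
  have heA : lc e A ⊆ ((T : Subgroup X) : Set X) := by
    rintro _ ⟨a, ha, rfl⟩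
    exact heB a (Subgroup.subset_closure ha)
  obtain ⟨m₁, hm₁, e₁⟩ := hsub _ hTC le_sup_left A e
    ((le_sup_right : _ ≤ (T : Subgroup X) ⊔ _) heC) hA heA
  have hN2 : Subgroup.normalizer ((((T : Subgroup X) ⊓
      Subgroup.centralizer ((pCore p X : Subgroup X) : Set X) : Subgroup X)) : Set X) ≠ ⊤ := by
    intro htop
    have hn' : ((T : Subgroup X) ⊓
        Subgroup.centralizer ((pCore p X : Subgroup X) : Set X)).Normal :=
      Subgroup.normalizer_eq_top_iff.mp htop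
    exact hTCP (Helper23.le_pCore hn' (T.2.to_le inf_le_left))
  have hTN2 : (T : Subgroup X) ≤ Subgroup.normalizer ((((T : Subgroup X) ⊓
      Subgroup.centralizer ((pCore p X : Subgroup X) : Set X) : Subgroup X)) : Set X) := by
    intro t ht
    apply Helper9.mem_normalizer_of_conj_le
    intro q hq
    exact ⟨(T : Subgroup X).mul_mem ((T : Subgroup X).mul_mem ht hq.1)
      ((T : Subgroup X).inv_mem ht), hCn.conj_mem q hq.2 t⟩
  obtain ⟨m₂, hm₂, e₂⟩ := hsub _ hN2 hTN2 (lc e A) h hhN heA (by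
    rw [lc_lc, ← hghe]; exact hg)
  refine ⟨m₂ * m₁, H.mul_mem hm₂ hm₁, fun a ha => ?_⟩
  have h3 := e₂ (e * a * e⁻¹) ⟨a, ha, rfl⟩
  calc m₂ * m₁ * a * (m₂ * m₁)⁻¹ = m₂ * (m₁ * a * m₁⁻¹) * m₂⁻¹ := by group
    _ = m₂ * (e * a * e⁻¹) * m₂⁻¹ := by rw [e₁ a ha]
    _ = h * (e * a * e⁻¹) * h⁻¹ := h3
    _ = g * a * g⁻¹ := by rw [hghe]; group

/-- The case `X = T C_X(O_p(X))`, `T ≠ O_p(X)`. -/
theorem rel_quot_pCore (hst : ∀ (Y : Type u) [Group Y], IsSec X Y → QStab p Y) (T : Sylow p X)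
    (H : Subgroup X) (hTH : (T : Subgroup X) ≤ H)
    (hsub : ∀ L : Subgroup X, L ≠ ⊤ → (T : Subgroup X) ≤ L → ∀ (B : Set X) (y : X), y ∈ L →
      B ⊆ ((T : Subgroup X) : Set X) → lc y B ⊆ ((T : Subgroup X) : Set X) →
      ∃ h ∈ H, ∀ a ∈ B, h * a * h⁻¹ = y * a * y⁻¹)
    (hTC : (T : Subgroup X) ⊔ Subgroup.centralizer ((pCore p X : Subgroup X) : Set X) = ⊤)
    (hTP : ¬ (T : Subgroup X) ≤ pCore p X) (A : Set X) (g : X)
    (hA : A ⊆ ((T : Subgroup X) : Set X)) (hg : lc g A ⊆ ((T : Subgroup X) : Set X)) :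
    ∃ h ∈ H, ∀ a ∈ A, h * a * h⁻¹ = g * a * g⁻¹ := by
  have hp : p.Prime := Fact.out
  have hPn : (pCore p X).Normal := inferInstance
  have hPp : IsPGroup p (pCore p X) := Helper23.pCore_isPGroup p
  have hPT : pCore p X ≤ (T : Subgroup X) := Helper23.le_sylow_of_normal hPn hPp T
  obtain ⟨π, hπ⟩ : ∃ π : X →* X ⧸ pCore p X, π = QuotientGroup.mk' (pCore p X) := ⟨_, rfl⟩
  have hπs : Function.Surjective π := by rw [hπ]; exact QuotientGroup.mk'_surjective _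
  have hπ1 : ∀ x : X, π x = 1 ↔ x ∈ pCore p X := by
    intro x; rw [hπ, QuotientGroup.mk'_apply, QuotientGroup.eq_one_iff]
  obtain ⟨Tb, hTb⟩ : ∃ Tb : Sylow p (X ⧸ pCore p X),
      (Tb : Subgroup (X ⧸ pCore p X)) = (T : Subgroup X).map π :=
    ⟨T.mapSurjective hπs, Sylow.coe_mapSurjective _ _⟩
  have hTmem : ∀ x : X, π x ∈ (Tb : Subgroup (X ⧸ pCore p X)) → x ∈ (T : Subgroup X) := by
    intro x hx
    rw [hTb] at hx
    obtain ⟨t, ht, hte⟩ := hx
    have h1 : t⁻¹ * x ∈ pCore p X := by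
      rw [← hπ1, map_mul, map_inv, hte, inv_mul_cancel]
    have e : x = t * (t⁻¹ * x) := by group
    rw [e]
    exact (T : Subgroup X).mul_mem ht (hPT h1)
  have hTbne : (Tb : Subgroup (X ⧸ pCore p X)) ≠ ⊥ := by
    intro hbot
    apply hTP
    intro t ht
    rw [← hπ1]
    have h1 : π t ∈ (Tb : Subgroup (X ⧸ pCore p X)) := by rw [hTb]; exact ⟨t, ht, rfl⟩
    rw [hbot, Subgroup.mem_bot] at h1
    exact h1
  obtain ⟨L, hL⟩ : ∃ L : Subgroup X, L = (Subgroup.normalizer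
    ((inducedFunctor kInfLower (Tb : Subgroup (X ⧸ pCore p X)) : Subgroup (X ⧸ pCore p X)) :
      Set (X ⧸ pCore p X))).comap π :=
    ⟨_, rfl⟩
  have hTL : (T : Subgroup X) ≤ L := by
    intro t ht
    rw [hL, Subgroup.mem_comap]
    apply normalizer_le_normalizer_ind (fun (Q : Type u) [Group Q] => kInfLower Q)
      isCharPFunctor_kInfLower _ Tb.2
    apply Subgroup.le_normalizer
    rw [hTb]; exact ⟨t, ht, rfl⟩
  have hLne : L ≠ ⊤ := by
    intro htop
    have h1 : Subgroup.normalizer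
        ((inducedFunctor kInfLower (Tb : Subgroup (X ⧸ pCore p X)) : Subgroup (X ⧸ pCore p X)) :
          Set (X ⧸ pCore p X)) = ⊤ := by
      rw [eq_top_iff]
      intro z _
      obtain ⟨x, rfl⟩ := hπs z
      have h2 : x ∈ L := by rw [htop]; exact Subgroup.mem_top x
      rw [hL] at h2
      exact h2
    have h2 : (inducedFunctor kInfLower (Tb : Subgroup (X ⧸ pCore p X))).Normal :=
      Subgroup.normalizer_eq_top_iff.mp h1
    have h3 : inducedFunctor kInfLower (Tb : Subgroup (X ⧸ pCore p X)) ≤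
        pCore p (X ⧸ pCore p X) :=
      Helper23.le_pCore h2 (Tb.2.to_le (ind_le _ _))
    rw [pCore_quot_pCore, le_bot_iff] at h3
    exact ind_ne_bot (fun (Q : Type u) [Group Q] => kInfLower Q) isCharPFunctor_kInfLower _ Tb.2
      hTbne h3
  have hstq : ∀ (Y : Type u) [Group Y], IsSec (X ⧸ pCore p X) Y → QStab p Y :=
    fun Y _ hY => hst Y (((IsSec.refl X).quot _).trans hY)
  -- normalizers of subgroups `U ≥ O_p(X)` with `N_T(U)` Sylow in `N_X(U)`
  have stepB : ∀ U : Subgroup X, U ∈ sylFam T 0 → pCore p X ≤ U →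
      ∀ x ∈ Subgroup.normalizer (U : Set X), ∃ h ∈ H, ∀ u ∈ U, h * u * h⁻¹ = x * u * x⁻¹ := by
    intro U hU hPU x hx
    obtain ⟨hUT, hUidx, -⟩ := hU
    have hxU : ∀ u ∈ U, x * u * x⁻¹ ∈ U :=
      fun u hu => (Subgroup.mem_normalizer_iff.mp hx u).mp hu
    obtain ⟨cb, hcbN, ecb⟩ := kinf_ctl_of_qstab hstq Tb (π '' (U : Set X)) (π x)
      (by
        rintro _ ⟨u, hu, rfl⟩
        rw [SetLike.mem_coe, hTb]; exact ⟨u, hUT hu, rfl⟩)
      (by
        rintro _ ⟨_, ⟨u, hu, rfl⟩, rfl⟩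
        rw [SetLike.mem_coe, hTb]
        refine ⟨x * u * x⁻¹, hUT (hxU u hu), ?_⟩
        simp)
    obtain ⟨y₀, hy₀⟩ := hπs cb
    have hy₀L : y₀ ∈ L := by rw [hL, Subgroup.mem_comap, hy₀]; exact hcbN
    have hy₀U : lc y₀ (U : Set X) ⊆ ((T : Subgroup X) : Set X) := by
      rintro _ ⟨u, hu, rfl⟩
      apply hTmem
      show π (y₀ * u * y₀⁻¹) ∈ _
      rw [map_mul, map_mul, map_inv, hy₀, ecb (π u) ⟨u, hu, rfl⟩, hTb]
      exact ⟨x * u * x⁻¹, hUT (hxU u hu), by simp⟩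
    obtain ⟨c, hcH, ec⟩ := hsub L hLne hTL (U : Set X) y₀ hy₀L hUT hy₀U
    have hmod : ∀ u ∈ U, (x * u * x⁻¹) * (c * u * c⁻¹)⁻¹ ∈ pCore p X := by
      intro u hu
      have h1 := ecb (π u) ⟨u, hu, rfl⟩
      rw [ec u hu, ← hπ1]
      rw [map_mul, map_inv, map_mul, map_mul, map_inv, map_mul, map_mul, map_inv, hy₀, h1]
      group
    have hcU : ∀ u ∈ U, c * u * c⁻¹ ∈ U := by
      intro u hu
      have h1 := hmod u hu
      have e : c * u * c⁻¹ = ((x * u * x⁻¹) * (c * u * c⁻¹)⁻¹)⁻¹ * (x * u * x⁻¹) := by group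
      rw [e]
      exact U.mul_mem (U.inv_mem (hPU h1)) (hxU u hu)
    have hcN : c ∈ Subgroup.normalizer (U : Set X) :=
      Helper9.mem_normalizer_of_conj_le U c hcU
    have hcinv : ∀ u ∈ U, c⁻¹ * u * c ∈ U := by
      intro u hu
      have h1 := (Subgroup.mem_normalizer_iff.mp (Subgroup.inv_mem _ hcN) u).mp hu
      simpa using h1
    obtain ⟨t, ht, hte⟩ := exists_sylow_act (pCore p X) hPp T hTC U hUT hUidx (x * c⁻¹)
      (Subgroup.mul_mem _ hx (Subgroup.inv_mem _ hcN)) (by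
        intro u hu
        have h1 := hmod (c⁻¹ * u * c) (hcinv u hu)
        have e : x * c⁻¹ * u * (x * c⁻¹)⁻¹ * u⁻¹ =
            (x * (c⁻¹ * u * c) * x⁻¹) * (c * (c⁻¹ * u * c) * c⁻¹)⁻¹ := by group
        rw [e]; exact h1)
    refine ⟨t * c, H.mul_mem (hTH ht.1) hcH, fun u hu => ?_⟩
    have h3 := hte (c * u * c⁻¹) (hcU u hu)
    have e1 : t * c * u * (t * c)⁻¹ = t * (c * u * c⁻¹) * t⁻¹ := by group
    have e2 : x * u * x⁻¹ = x * c⁻¹ * (c * u * c⁻¹) * (x * c⁻¹)⁻¹ := by group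
    rw [e1, e2, h3]
  have stepA : ∀ (A' : Set X) (g' : X), Dec (sylFam T 0) A' g' →
      ((pCore p X : Subgroup X) : Set X) ⊆ A' →
      ∃ h ∈ H, ∀ a ∈ A', h * a * h⁻¹ = g'⁻¹ * a * g' := by
    intro A' g' hdec
    induction hdec with
    | nil A => intro _; exact ⟨1, H.one_mem, fun a _ => by group⟩
    | cons A U x g'' hU hx hA hdec ih =>
      intro hPA
      have hPU : pCore p X ≤ U := fun q hq => hA (hPA hq)
      obtain ⟨h₁, hh₁, e₁⟩ := stepB U hU hPU x⁻¹ (Subgroup.inv_mem _ hx)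
      obtain ⟨h₂, hh₂, e₂⟩ := ih (by
        intro q hq
        rw [mem_cj_iff]
        exact hPA (hPn.conj_mem q hq x))
      refine ⟨h₂ * h₁, H.mul_mem hh₂ hh₁, fun a ha => ?_⟩
      have h3 := e₂ (x⁻¹ * a * x) ⟨a, ha, rfl⟩
      calc h₂ * h₁ * a * (h₂ * h₁)⁻¹ = h₂ * (h₁ * a * h₁⁻¹) * h₂⁻¹ := by group
        _ = h₂ * (x⁻¹ * a * x) * h₂⁻¹ := by rw [e₁ a (hA ha), inv_inv]
        _ = g''⁻¹ * (x⁻¹ * a * x) * g'' := h3
        _ = (x * g'')⁻¹ * a * (x * g'') := by group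
  have hA' : A ∪ ((pCore p X : Subgroup X) : Set X) ⊆ ((T : Subgroup X) : Set X) :=
    Set.union_subset hA hPT
  have hg' : cj g⁻¹ (A ∪ ((pCore p X : Subgroup X) : Set X)) ⊆ ((T : Subgroup X) : Set X) := by
    rw [cj_subset_iff]
    rintro a (ha | ha)
    · have h1 : g * a * g⁻¹ ∈ (T : Subgroup X) := hg ⟨a, ha, rfl⟩
      rw [inv_inv]; exact h1
    · have h1 : g * a * g⁻¹ ∈ (T : Subgroup X) := hPT (hPn.conj_mem a ha g)
      rw [inv_inv]; exact h1
  obtain ⟨h, hh, e⟩ := stepA _ _ (dec_sylFam_set T _ g⁻¹ hA' hg') Set.subset_union_right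
  exact ⟨h, hh, fun a ha => by rw [e a (Set.mem_union_left _ ha), inv_inv]⟩

end Generic

end Cfsg.Agent.Helper10
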