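import Mathlib
import Cfsg.Prelude.Def_ConjugacyFunctors
import Cfsg.Prelude.Def_LocalEven
import Cfsg.Prelude.Def_PLocal
import Cfsg.Agent.Helper10.RelCtl
import Cfsg.Agent.Helper10.KStable
import Cfsg.Agent.Helper10.SylowRel
import Cfsg.Agent.Helper23.ZJ3
import Cfsg.Agent.Helper23.Dk15
import Cfsg.Agent.Helper26.Involves

/-!
# `N(Z(J(D)))` controls strong fusion for a strongly closed `D` in a `Qd(p)`-free group

For `p` odd, `X` a `Qd(p)`-free finite group, `T` a Sylow `p`-subgroup, `D ≤ T` strongly closed in `T`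
with respect to `X`: every `X`-conjugation between subsets of `T` is realised by a single element of
`N_X(zjSub p e D)`  (`zjSub p false D = Z(J(D))`, `zjSub p true D = Ω₁(Z(J_e(D)))`).
-/

set_option autoImplicit false

namespace Cfsg.Agent.Helper10

open Cfsg

universe u

/-- Involvement passes from a subgroup to the group. -/
theorem involves_of_subgroup {G : Type*} [Group G] {H : Type*} [Group H] (L : Subgroup G)
    (h : Involves H ↥L) : Involves H G := by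
  obtain ⟨K', f, hf⟩ := Helper26.exists_surj_of_involves h
  exact Helper26.involves_of_span (L.subtype.comp K'.subtype)
    (L.subtype_injective.comp K'.subtype_injective) f hf

/-- Involvement passes from a quotient to the group. -/
theorem involves_of_quotient {G : Type*} [Group G] {H : Type*} [Group H] (M : Subgroup G)
    [M.Normal] (h : Involves H (G ⧸ M)) : Involves H G := by
  obtain ⟨K', f, hf⟩ := Helper26.exists_surj_of_involves h
  exact Helper26.involves_of_span (K'.comap (QuotientGroup.mk' M)).subtype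
    (Subgroup.subtype_injective _) (f.comp ((QuotientGroup.mk' M).subgroupComap K'))
    (hf.comp ((QuotientGroup.mk' M).subgroupComap_surjective_of_surjective K'
      (QuotientGroup.mk'_surjective M)))

section RCtl

variable {p : ℕ} [Fact p.Prime]

/-- Single-step control of strong fusion in `T` by `N(zjSub p e D)`, for every Sylow `p`-subgroup
`T` and every strongly closed `D ≤ T`. -/
def RCtl (p : ℕ) [Fact p.Prime] (e : Bool) (X : Type u) [Group X] : Prop :=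
  ∀ (T : Sylow p X) (D : Subgroup X), D ≤ (T : Subgroup X) →
    (∀ x ∈ D, ∀ g : X, g * x * g⁻¹ ∈ (T : Subgroup X) → g * x * g⁻¹ ∈ D) →
    ∀ (A : Set X) (g : X), A ⊆ ((T : Subgroup X) : Set X) →
      lc g A ⊆ ((T : Subgroup X) : Set X) →
      ∃ h ∈ Subgroup.normalizer ((Helper23.zjSub p e D : Subgroup X) : Set X),
        ∀ a ∈ A, h * a * h⁻¹ = g * a * g⁻¹

omit [Fact p.Prime] in
/-- `T` normalizes `zjSub p e D` for `D` strongly closed in `T`. -/
theorem le_normalizer_zjSub_of_scl {X : Type*} [Group X] [Finite X] (e : Bool) (T D : Subgroup X)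
    (hDT : D ≤ T) (hsc : ∀ x ∈ D, ∀ g : X, g * x * g⁻¹ ∈ T → g * x * g⁻¹ ∈ D) :
    T ≤ Subgroup.normalizer ((Helper23.zjSub p e D : Subgroup X) : Set X) := by
  intro t ht
  have htD : t ∈ Subgroup.normalizer (D : Set X) := by
    apply Helper9.mem_normalizer_of_conj_le
    intro d hd
    exact hsc d hd t (T.mul_mem (T.mul_mem ht (hDT hd)) (T.inv_mem ht))
  apply Helper9.mem_normalizer_of_conj_le
  intro x hx
  exact Helper23.zjSub_conj_mem htD hx

/-- Restriction to a subgroup containing `T`. -/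
theorem RCtl.of_subgroup {X : Type u} [Group X] [Finite X] (e : Bool) (L : Subgroup X)
    (hL : RCtl p e ↥L) (T : Sylow p X) (hTL : (T : Subgroup X) ≤ L) (D : Subgroup X)
    (hDT : D ≤ (T : Subgroup X))
    (hsc : ∀ x ∈ D, ∀ g : X, g * x * g⁻¹ ∈ (T : Subgroup X) → g * x * g⁻¹ ∈ D)
    (B : Set X) (y : X) (hy : y ∈ L) (hB : B ⊆ ((T : Subgroup X) : Set X))
    (hyB : lc y B ⊆ ((T : Subgroup X) : Set X)) :
    ∃ h ∈ Subgroup.normalizer ((Helper23.zjSub p e D : Subgroup X) : Set X),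
      ∀ a ∈ B, h * a * h⁻¹ = y * a * y⁻¹ := by
  have e1 : (((T.subtype hTL : Sylow p ↥L) : Subgroup ↥L)) = (T : Subgroup X).subgroupOf L :=
    Sylow.coe_subtype _ _
  have h1 := hL (T.subtype hTL) (D.subgroupOf L) ?_ ?_ (L.subtype ⁻¹' B) ⟨y, hy⟩ ?_ ?_
  · obtain ⟨h, hh, eh⟩ := h1
    refine ⟨(h : X), ?_, fun a ha => ?_⟩
    · have e2 : Helper23.zjSub p e D = (Helper23.zjSub p e (D.subgroupOf L)).map L.subtype := by
        rw [← Helper23.zjSub_map_of_injOn L.subtype (D.subgroupOf L)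
          (fun x _ hx => Subtype.ext hx), Subgroup.map_subgroupOf_eq_of_le (hDT.trans hTL)]
      rw [e2]
      exact Subgroup.le_normalizer_map L.subtype (Subgroup.mem_map_of_mem _ hh)
    · have h2 := eh ⟨a, hTL (hB ha)⟩ ha
      exact congrArg Subtype.val h2
  · intro x hx
    rw [e1]; exact Subgroup.mem_subgroupOf.mpr (hDT (Subgroup.mem_subgroupOf.mp hx))
  · intro x hx g hg
    rw [e1] at hg
    exact Subgroup.mem_subgroupOf.mpr
      (hsc x (Subgroup.mem_subgroupOf.mp hx) g (Subgroup.mem_subgroupOf.mp hg))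
  · intro a ha
    rw [SetLike.mem_coe, e1]; exact Subgroup.mem_subgroupOf.mpr (hB ha)
  · rintro _ ⟨a, ha, rfl⟩
    rw [SetLike.mem_coe, e1]; exact Subgroup.mem_subgroupOf.mpr (hyB ⟨a, ha, rfl⟩)

/-- Lifting through a quotient by a normal `p'`-subgroup. -/
theorem RCtl.of_quot_coprime {X : Type u} [Group X] [Finite X] (e : Bool) (M : Subgroup X)
    [M.Normal] (hM : (Nat.card M).Coprime p) (h : RCtl p e (X ⧸ M)) : RCtl p e X := by
  intro T D hDT hsc A g hA hg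
  have hp : p.Prime := Fact.out
  obtain ⟨π, hπ⟩ : ∃ π : X →* X ⧸ M, π = QuotientGroup.mk' M := ⟨_, rfl⟩
  have hπs : Function.Surjective π := by rw [hπ]; exact QuotientGroup.mk'_surjective M
  have hπ1 : ∀ x : X, π x = 1 ↔ x ∈ M := by
    intro x; rw [hπ, QuotientGroup.mk'_apply, QuotientGroup.eq_one_iff]
  have hinj : ∀ x ∈ (T : Subgroup X), π x = 1 → x = 1 := fun x hx h1 =>
    eq_one_of_mem_coprime_of_mem_pGroup hM T.2 ((hπ1 x).mp h1) hx
  have hinj2 : ∀ x ∈ (T : Subgroup X), ∀ y ∈ (T : Subgroup X), π x = π y → x = y := by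
    intro x hx y hy hxy
    have h1 : x * y⁻¹ = 1 := hinj _ (Subgroup.mul_mem _ hx (Subgroup.inv_mem _ hy))
      (by rw [map_mul, map_inv, hxy, mul_inv_cancel])
    exact mul_inv_eq_one.mp h1
  obtain ⟨Tb, hTb⟩ : ∃ Tb : Sylow p (X ⧸ M), (Tb : Subgroup (X ⧸ M)) = (T : Subgroup X).map π :=
    ⟨T.mapSurjective hπs, Sylow.coe_mapSurjective hπs T⟩
  have hidxT : ¬ p ∣ (T : Subgroup X).relIndex ((T : Subgroup X) ⊔ M) := by
    intro hdvd
    exact T.not_dvd_index (dvd_trans hdvd (Subgroup.relIndex_dvd_index_of_le le_sup_left))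
  have hTM : ∀ x : X, π x ∈ (T : Subgroup X).map π → x ∈ (T : Subgroup X) ⊔ M := by
    intro x hx
    obtain ⟨t, ht, htt⟩ := hx
    have h3 : t⁻¹ * x ∈ M := by
      rw [← hπ1, map_mul, map_inv, htt, inv_mul_cancel]
    have h4 : x = t * (t⁻¹ * x) := by group
    rw [h4]
    exact Subgroup.mul_mem _ (Subgroup.mem_sup_left ht) (Subgroup.mem_sup_right h3)
  have hconj : ∀ F : Subgroup X, IsPGroup p F → F ≤ (T : Subgroup X) ⊔ M →
      ∃ m ∈ M, ∀ x ∈ F, m * x * m⁻¹ ∈ (T : Subgroup X) := by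
    intro F hFp hFTM
    obtain ⟨z₂, hz₂, hz₂F⟩ := exists_conj_into_of_relIndex ((T : Subgroup X) ⊔ M)
      (T : Subgroup X) T.2 hidxT F hFp hFTM
    obtain ⟨t₂, ht₂, m₂, hm₂, rfl⟩ := Subgroup.mem_sup_of_normal_right.mp hz₂
    refine ⟨m₂, hm₂, fun x hx => ?_⟩
    have h2 := hz₂F x hx
    have h3 : m₂ * x * m₂⁻¹ = t₂⁻¹ * (t₂ * m₂ * x * (t₂ * m₂)⁻¹) * t₂ := by group
    rw [h3]
    exact Subgroup.mul_mem _ (Subgroup.mul_mem _ (Subgroup.inv_mem _ ht₂) h2) ht₂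
  -- the image of `D`
  obtain ⟨Db, hDb⟩ : ∃ Db : Subgroup (X ⧸ M), Db = D.map π := ⟨_, rfl⟩
  have hDbT : Db ≤ (Tb : Subgroup (X ⧸ M)) := by rw [hDb, hTb]; exact Subgroup.map_mono hDT
  have hscb : ∀ x ∈ Db, ∀ gb : X ⧸ M, gb * x * gb⁻¹ ∈ (Tb : Subgroup (X ⧸ M)) →
      gb * x * gb⁻¹ ∈ Db := by
    intro x hx gb hgb
    rw [hDb] at hx
    obtain ⟨d, hd, rfl⟩ := hx
    obtain ⟨g₀, rfl⟩ := hπs gb
    have h1 : π (g₀ * d * g₀⁻¹) ∈ (T : Subgroup X).map π := by
      rw [← hTb, map_mul, map_mul, map_inv]; exact hgb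
    have h2 : (Subgroup.zpowers d).map (MulAut.conj g₀).toMonoidHom ≤ (T : Subgroup X) ⊔ M := by
      rw [Subgroup.map_le_iff_le_comap, Subgroup.zpowers_le, Subgroup.mem_comap]
      exact hTM _ h1
    have h3 : IsPGroup p ((Subgroup.zpowers d).map (MulAut.conj g₀).toMonoidHom) :=
      (T.2.to_le ((Subgroup.zpowers_le).mpr (hDT hd))).map _
    obtain ⟨m, hm, hmF⟩ := hconj _ h3 h2
    have h4 := hmF (g₀ * d * g₀⁻¹) ⟨d, Subgroup.mem_zpowers d, rfl⟩
    have h5 : m * (g₀ * d * g₀⁻¹) * m⁻¹ = (m * g₀) * d * (m * g₀)⁻¹ := by group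
    rw [h5] at h4
    have h6 := hsc d hd (m * g₀) h4
    rw [hDb]
    refine ⟨_, h6, ?_⟩
    rw [map_mul, map_mul, map_inv, map_mul, (hπ1 m).mpr hm, one_mul]
  have hAb : π '' A ⊆ ((Tb : Subgroup (X ⧸ M)) : Set (X ⧸ M)) := by
    rintro _ ⟨a, ha, rfl⟩
    rw [hTb]; exact Subgroup.mem_map_of_mem _ (hA ha)
  have hgb : lc (π g) (π '' A) ⊆ ((Tb : Subgroup (X ⧸ M)) : Set (X ⧸ M)) := by
    rintro _ ⟨_, ⟨a, ha, rfl⟩, rfl⟩
    have h2 : π g * π a * (π g)⁻¹ = π (g * a * g⁻¹) := by simp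
    show π g * π a * (π g)⁻¹ ∈ (Tb : Subgroup (X ⧸ M))
    rw [hTb, h2]; exact Subgroup.mem_map_of_mem _ (hg ⟨a, ha, rfl⟩)
  obtain ⟨yb, hyb2, eyb⟩ := h Tb Db hDbT hscb (π '' A) (π g) hAb hgb
  obtain ⟨W, hW⟩ : ∃ W, W = Helper23.zjSub p e D := ⟨_, rfl⟩
  have hWD : W ≤ D := by rw [hW]; exact Helper23.zjSub_le p e D
  have hWT : W ≤ (T : Subgroup X) := hWD.trans hDT
  have hWp : IsPGroup p W := T.2.to_le hWT
  have hWb : Helper23.zjSub p e Db = W.map π := by
    rw [hDb, hW]; exact Helper23.zjSub_map_of_injOn π D (fun x hx => hinj x (hDT hx))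
  rw [hWb] at hyb2
  rw [← hW]
  obtain ⟨y₀, hy₀⟩ := hπs yb
  have h1 : W.map (MulAut.conj y₀).toMonoidHom ≤ W ⊔ M := by
    rintro _ ⟨d, hd, rfl⟩
    have h2 : π (y₀ * d * y₀⁻¹) ∈ W.map π := by
      rw [map_mul, map_mul, map_inv, hy₀]
      exact (Subgroup.mem_normalizer_iff.mp hyb2 (π d)).mp (Subgroup.mem_map_of_mem _ hd)
    obtain ⟨d', hd', hdd⟩ := h2
    have h3 : d'⁻¹ * (y₀ * d * y₀⁻¹) ∈ M := by
      rw [← hπ1, map_mul, map_inv, hdd, inv_mul_cancel]
    have h4 : y₀ * d * y₀⁻¹ = d' * (d'⁻¹ * (y₀ * d * y₀⁻¹)) := by group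
    show y₀ * d * y₀⁻¹ ∈ W ⊔ M
    rw [h4]
    exact Subgroup.mul_mem _ (Subgroup.mem_sup_left hd') (Subgroup.mem_sup_right h3)
  have hidxW : ¬ p ∣ W.relIndex (W ⊔ M) := by
    rw [Cfsg.Agent.Helper19.relIndex_sup_normal W M]
    intro hdvd
    have h2 : W.relIndex M ∣ Nat.card M := Subgroup.relIndex_dvd_card W M
    exact (Nat.Prime.coprime_iff_not_dvd hp).mp hM.symm (dvd_trans hdvd h2)
  obtain ⟨z, hz, hzD⟩ := exists_conj_into_of_relIndex (W ⊔ M) W hWp hidxW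
    (W.map (MulAut.conj y₀).toMonoidHom) (hWp.map _) h1
  obtain ⟨d₁, hd₁, m₁, hm₁, rfl⟩ := Subgroup.mem_sup_of_normal_right.mp hz
  have hn : m₁ * y₀ ∈ Subgroup.normalizer (W : Set X) := by
    apply Cfsg.Agent.Helper9.mem_normalizer_of_conj_le W
    intro d hd
    have h2 := hzD (y₀ * d * y₀⁻¹) ⟨d, hd, rfl⟩
    have h3 : m₁ * y₀ * d * (m₁ * y₀)⁻¹ =
        d₁⁻¹ * (d₁ * m₁ * (y₀ * d * y₀⁻¹) * (d₁ * m₁)⁻¹) * d₁ := by group
    rw [h3]
    exact W.mul_mem (W.mul_mem (W.inv_mem hd₁) h2) hd₁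
  have hπn : π (m₁ * y₀) = yb := by rw [map_mul, (hπ1 m₁).mpr hm₁, one_mul, hy₀]
  obtain ⟨n, hnn⟩ : ∃ n, n = m₁ * y₀ := ⟨_, rfl⟩
  rw [← hnn] at hn hπn
  obtain ⟨F, hF⟩ : ∃ F : Subgroup X, F = Subgroup.closure (lc n A) ⊔ W := ⟨_, rfl⟩
  have hFT₁ : F ≤ (T : Subgroup X).map (MulAut.conj n).toMonoidHom := by
    rw [hF]
    apply sup_le
    · rw [Subgroup.closure_le]
      rintro _ ⟨b, hb, rfl⟩
      exact ⟨b, hA hb, rfl⟩
    · intro d hd
      have h2 : n⁻¹ * d * n ∈ W := by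
        have := (Subgroup.mem_normalizer_iff.mp (Subgroup.inv_mem _ hn) d).mp hd
        simpa using this
      refine ⟨n⁻¹ * d * n, hWT h2, ?_⟩
      show n * (n⁻¹ * d * n) * n⁻¹ = d
      group
  have hFp : IsPGroup p F := (T.2.map _).to_le hFT₁
  have hFTM : F ≤ (T : Subgroup X) ⊔ M := by
    rw [hF]
    apply sup_le
    · rw [Subgroup.closure_le]
      rintro _ ⟨b, hb, rfl⟩
      apply hTM
      rw [← hTb, map_mul, map_mul, map_inv, hπn, eyb (π b) ⟨b, hb, rfl⟩]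
      exact hgb ⟨π b, ⟨b, hb, rfl⟩, rfl⟩
    · exact hWT.trans le_sup_left
  obtain ⟨m₂, hm₂, hmF⟩ := hconj F hFp hFTM
  have hm₂D : m₂ ∈ Subgroup.centralizer (W : Set X) := by
    rw [Subgroup.mem_centralizer_iff]
    intro d hd
    have hdF : d ∈ F := by rw [hF]; exact Subgroup.mem_sup_right hd
    have h2 := hmF d hdF
    have h3 : m₂ * d * m₂⁻¹ = d := by
      apply hinj2 _ h2 _ (hWT hd)
      rw [map_mul, map_mul, map_inv, (hπ1 m₂).mpr hm₂]; simp
    calc d * m₂ = (m₂ * d * m₂⁻¹) * m₂ := by rw [h3]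
      _ = m₂ * d := by group
  refine ⟨m₂ * n, Subgroup.mul_mem _ (Subgroup.centralizer_le_normalizer _ hm₂D) hn,
    fun a ha => ?_⟩
  have hbF : n * a * n⁻¹ ∈ F := by
    rw [hF]; exact Subgroup.mem_sup_left (Subgroup.subset_closure ⟨a, ha, rfl⟩)
  have h2 := hmF _ hbF
  have h3 : m₂ * n * a * (m₂ * n)⁻¹ = m₂ * (n * a * n⁻¹) * m₂⁻¹ := by group
  rw [h3]
  apply hinj2 _ h2 _ (hg ⟨a, ha, rfl⟩)
  rw [map_mul, map_mul, map_inv, (hπ1 m₂).mpr hm₂, map_mul, map_mul, map_inv, hπn,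
    eyb (π a) ⟨a, ha, rfl⟩]
  simp

/-- **Main theorem**: in a `Qd(p)`-free group, `p` odd, `N(zjSub p e D)` controls strong fusion in
`T` (single step) for every strongly closed `D ≤ T`. -/
theorem rctl_main (hp2 : p ≠ 2) (e : Bool) :
    ∀ (n : ℕ) (X : Type u) [Group X] [Finite X], Nat.card X = n → ¬ Involves ↥(qd p) X →
      RCtl p e X := by
  intro n
  induction n using Nat.strong_induction_on with
  | _ n ih =>
  intro X _ _ hn hC T D hDT hsc A g hA hg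
  have hst : ∀ (Y : Type u) [Group Y], IsSec X Y → QStab p Y :=
    qstab_of_sections (fun K R hR => Helper23.Dk.sections_nps_of_qd_free hp2 hC K R)
  obtain ⟨H, hH⟩ : ∃ H : Subgroup X,
      H = Subgroup.normalizer ((Helper23.zjSub p e D : Subgroup X) : Set X) := ⟨_, rfl⟩
  rw [← hH]
  have hTH : (T : Subgroup X) ≤ H := by
    rw [hH]; exact le_normalizer_zjSub_of_scl e _ D hDT hsc
  have hnorm : (Helper23.zjSub p e D).Normal →
      ∃ h ∈ H, ∀ a ∈ A, h * a * h⁻¹ = g * a * g⁻¹ := by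
    intro hN
    refine ⟨g, ?_, fun a _ => rfl⟩
    rw [hH, Subgroup.normalizer_eq_top]; trivial
  have hsub : ∀ L : Subgroup X, L ≠ ⊤ → (T : Subgroup X) ≤ L → ∀ (B : Set X) (y : X), y ∈ L →
      B ⊆ ((T : Subgroup X) : Set X) → lc y B ⊆ ((T : Subgroup X) : Set X) →
      ∃ h ∈ H, ∀ a ∈ B, h * a * h⁻¹ = y * a * y⁻¹ := by
    intro L hL hTL B y hy hB hyB
    have hcard : Nat.card ↥L < n := by rw [← hn]; exact card_lt_of_ne_top hL
    have hLC : ¬ Involves ↥(qd p) ↥L := fun hi => hC (involves_of_subgroup L hi)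
    rw [hH]
    exact RCtl.of_subgroup e L (ih _ hcard ↥L rfl hLC) T hTL D hDT hsc B y hy hB hyB
  by_cases hT0 : (T : Subgroup X) = ⊥
  · apply hnorm
    have h0 : Helper23.zjSub p e D = ⊥ := by
      rw [eq_bot_iff, ← hT0]; exact (Helper23.zjSub_le p e D).trans hDT
    rw [h0]; infer_instance
  by_cases hP0 : pCore p X = ⊥
  · exact rel_pCore_bot hst T H hsub hP0 hT0 A g hA hg
  by_cases hM0 : pPrimeCore p X = ⊥
  swap
  · haveI : (pPrimeCore p X).Normal := Helper23.pPrimeCore_normal_fin p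
    have hcard : Nat.card (X ⧸ pPrimeCore p X) < n := by
      rw [← hn]; exact card_quot_lt_of_ne_bot hM0
    have hQC : ¬ Involves ↥(qd p) (X ⧸ pPrimeCore p X) :=
      fun hi => hC (involves_of_quotient _ hi)
    rw [hH]
    exact RCtl.of_quot_coprime e (pPrimeCore p X) (Helper23.pPrimeCore_coprime p)
      (ih _ hcard _ rfl hQC) T D hDT hsc A g hA hg
  by_cases hcons : Subgroup.centralizer ((pCore p X : Subgroup X) : Set X) ≤ pCore p X
  · apply hnorm
    exact Helper23.zjSub_normal_gen hp2 e hcons T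
      (Helper23.zjStable_of_normalizerPStable (Helper23.Dk.nps_of_qd_free hp2 hC) _) D hDT hsc
  have hTCP : ¬ (T : Subgroup X) ⊓ Subgroup.centralizer ((pCore p X : Subgroup X) : Set X)
      ≤ pCore p X :=
    fun h => hcons (centralizer_pCore_le T hM0 h)
  by_cases hTC : (T : Subgroup X) ⊔ Subgroup.centralizer ((pCore p X : Subgroup X) : Set X) = ⊤
  · have hTP : ¬ (T : Subgroup X) ≤ pCore p X := fun h => hTCP (le_trans inf_le_left h)
    exact rel_quot_pCore hst T H hTH hsub hTC hTP A g hA hg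
  · exact rel_decomp T H hsub hTC hTCP A g hA hg

end RCtl

end Cfsg.Agent.Helper10
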