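import Mathlib
import Cfsg.Agent.Helper10.J2A
import Cfsg.Agent.Helper10.J2B
import Cfsg.Agent.Helper19.BO8
import Cfsg.Agent.Helper10.NpcMin
import Cfsg.Agent.Helper10.RelCtl2

/-!
helper10: solvable `S₄`-free groups with Sylow `2`-subgroups of class at most `2`:
`G = N_G(J_e(S)) O_{2'}(G)`.
-/

set_option autoImplicit false

namespace Cfsg.Agent.Helper10

open Cfsg
open scoped commutatorElement

/-- In a `2`-solvable `S₄`-free group with `O_{2'} = 1` whose Sylow `2`-subgroups have class at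
most `2`, every elementary abelian `2`-subgroup of largest order lies in `O_2`. -/
theorem max_ea_le_pCore {H : Type*} [Group H] [Finite H] (hsol : IsPSolvable 2 H)
    (hO : pPrimeCore 2 H = ⊥) (hS4 : ¬ Involves (Equiv.Perm (Fin 4)) H) (T : Sylow 2 H)
    (hcl : ∀ x ∈ (T : Subgroup H), ∀ y ∈ (T : Subgroup H), ∀ z ∈ (T : Subgroup H),
      (x * y * x⁻¹ * y⁻¹) * z = z * (x * y * x⁻¹ * y⁻¹))
    (A : Subgroup H) (hA : A ∈ Cfsg.Agent.Helper23.zjFam 2 true (T : Subgroup H)) :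
    A ≤ pCore 2 H := by
  have : Fact (Nat.Prime 2) := ⟨Nat.prime_two⟩
  have hQn : (pCore 2 H).Normal := Cfsg.Agent.Helper23.pCore_normal_fin 2
  have hQp : IsPGroup 2 (pCore 2 H) := Cfsg.Agent.Helper23.pCore_isPGroup 2
  have hQT : pCore 2 H ≤ T := Cfsg.Agent.Helper23.le_sylow_of_normal hQn hQp T
  have hQc := Cfsg.Agent.Helper23.hall_higman hsol hO
  by_contra hAQ
  have hsol' : IsPSolvable 2 (H ⧸ pCore 2 H) :=
    Cfsg.Agent.Helper23.isPSolvable_quotient hsol (pCore 2 H)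
  have hO2 : pCore 2 (H ⧸ pCore 2 H) = ⊥ := pCore_quot_pCore
  have hdual := Cfsg.Agent.Helper19.SD.hall_higman_dual hsol' hO2
  obtain ⟨π, hπ⟩ : ∃ π : H →* H ⧸ pCore 2 H, π = QuotientGroup.mk' (pCore 2 H) := ⟨_, rfl⟩
  have hker : ∀ x, π x = 1 ↔ x ∈ pCore 2 H := by
    intro x; rw [hπ, QuotientGroup.mk'_apply, QuotientGroup.eq_one_iff]
  have hRn : (pPrimeCore 2 (H ⧸ pCore 2 H)).Normal := Cfsg.Agent.Helper23.pPrimeCore_normal_fin 2
  have hRc : (Nat.card (pPrimeCore 2 (H ⧸ pCore 2 H))).Coprime 2 :=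
    Cfsg.Agent.Helper23.pPrimeCore_coprime 2
  have hodd : ¬ 2 ∣ Nat.card (pPrimeCore 2 (H ⧸ pCore 2 H)) :=
    (Nat.Prime.coprime_iff_not_dvd Nat.prime_two).1 hRc.symm
  obtain ⟨hAT, hAg, hAmax⟩ := id hA
  have hAc := Cfsg.Agent.Helper23.comm_of_isMulCommutative hAg.1
  have hA2 : ∀ x ∈ A, x * x = 1 := fun x hx => by rw [← pow_two]; exact hAg.2 rfl x hx
  have hEc : ∀ x ∈ A.map π, ∀ y ∈ A.map π, x * y = y * x := by
    rintro _ ⟨x, hx, rfl⟩ _ ⟨y, hy, rfl⟩
    rw [← map_mul, ← map_mul, hAc x hx y hy]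
  have hE2 : ∀ x ∈ A.map π, x * x = 1 := by
    rintro _ ⟨x, hx, rfl⟩
    rw [← map_mul, hA2 x hx, map_one]
  have hER : A.map π ≤ Subgroup.normalizer
      ((pPrimeCore 2 (H ⧸ pCore 2 H) : Subgroup (H ⧸ pCore 2 H)) : Set (H ⧸ pCore 2 H)) := by
    rw [Subgroup.normalizer_eq_top]; exact le_top
  have hnc : ∃ e ∈ A.map π, ∃ r ∈ pPrimeCore 2 (H ⧸ pCore 2 H), e * r ≠ r * e := by
    by_contra hcon
    push Not at hcon
    apply hAQ
    intro x hx
    have hx1 : π x ∈ Subgroup.centralizer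
        ((pPrimeCore 2 (H ⧸ pCore 2 H) : Subgroup (H ⧸ pCore 2 H)) : Set (H ⧸ pCore 2 H)) := by
      rw [Subgroup.mem_centralizer_iff]
      intro r hr
      exact (hcon (π x) (Subgroup.mem_map_of_mem π hx) r hr).symm
    have hx2 := hdual hx1
    have h1 : (π x) ^ 2 = 1 := by rw [pow_two, ← map_mul, hA2 x hx, map_one]
    have h2 : (π x) ^ Nat.card (pPrimeCore 2 (H ⧸ pCore 2 H)) = 1 :=
      Cfsg.Agent.Helper23.pow_card_subgroup_eq_one _ hx2
    have h3 : orderOf (π x) ∣ Nat.gcd (Nat.card (pPrimeCore 2 (H ⧸ pCore 2 H))) 2 :=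
      Nat.dvd_gcd (orderOf_dvd_of_pow_eq_one h2) (orderOf_dvd_of_pow_eq_one h1)
    rw [Nat.Coprime.gcd_eq_one hRc, Nat.dvd_one, orderOf_eq_one_iff] at h3
    exact (hker x).1 h3
  obtain ⟨B', hB'E, a', ha'E, ha'B, hidx, y', hy'R, hB'y, ha'y⟩ :=
    hyperplane (A.map π) (pPrimeCore 2 (H ⧸ pCore 2 H)) hEc hE2 hodd hER hnc
  obtain ⟨a, haA, rfl⟩ := ha'E
  obtain ⟨y, rfl⟩ : ∃ y, π y = y' := by rw [hπ]; exact QuotientGroup.mk'_surjective _ y'
  apply hS4
  have hpa : π a * π a = 1 := by rw [← map_mul, hA2 a haA, map_one]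
  have hpainv : (π a)⁻¹ = π a := inv_eq_of_mul_eq_one_left hpa
  have hkR : π (a * (y * a * y⁻¹)) ∈ pPrimeCore 2 (H ⧸ pCore 2 H) := by
    have h1 : π (a * (y * a * y⁻¹)) = (π a * π y * (π a)⁻¹) * (π y)⁻¹ := by
      rw [hpainv]; simp only [map_mul, map_inv]; group
    rw [h1]
    exact (pPrimeCore 2 (H ⧸ pCore 2 H)).mul_mem (hRn.conj_mem _ hy'R _) (inv_mem hy'R)
  refine s4_of_config (pCore 2 H) T A (A ⊓ B'.comap π) hQc hQT hcl hA inf_le_left a haA ?_ y ?_
    (Nat.card (pPrimeCore 2 (H ⧸ pCore 2 H))) ?_ ?_ ?_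
  · intro e he
    rcases hidx (π e) (Subgroup.mem_map_of_mem π he) with h | h
    · left; exact Subgroup.mem_inf.2 ⟨he, Subgroup.mem_comap.2 h⟩
    · right
      refine Subgroup.mem_inf.2 ⟨A.mul_mem he haA, Subgroup.mem_comap.2 ?_⟩
      rw [map_mul]; exact h
  · intro b hb
    rw [← hker]
    have := hB'y (π b) (Subgroup.mem_comap.1 (Subgroup.mem_inf.1 hb).2)
    simp only [map_mul, map_inv]
    rw [← this]; group
  · exact Nat.not_even_iff_odd.1 (fun h => hodd (even_iff_two_dvd.1 h))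
  · rw [← hker, map_pow]
    exact Cfsg.Agent.Helper23.pow_card_subgroup_eq_one _ hkR
  · intro hkQ
    rw [← hker] at hkQ
    apply ha'y
    simp only [map_mul, map_inv] at hkQ
    have h1 : π y * π a * (π y)⁻¹ = (π a)⁻¹ := eq_inv_of_mul_eq_one_right hkQ
    rw [hpainv] at h1
    calc π a * π y = (π y * π a * (π y)⁻¹) * π y := by rw [h1]
      _ = π y * π a := by group

/-- Class at most `2` in elementwise form. -/
theorem class_two_elem {G : Type*} [Group G] (S : Subgroup G)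
    (hcl : S.lowerCentralSeries 2 = ⊥) :
    ∀ x ∈ S, ∀ y ∈ S, ∀ z ∈ S, (x * y * x⁻¹ * y⁻¹) * z = z * (x * y * x⁻¹ * y⁻¹) := by
  intro x hx y hy z hz
  have h1 : ⁅x, y⁆ ∈ S.lowerCentralSeries 1 := by
    show ⁅x, y⁆ ∈ ⁅S.lowerCentralSeries 0, S⁆
    exact Subgroup.commutator_mem_commutator hx hy
  have h2 : ⁅⁅x, y⁆, z⁆ ∈ S.lowerCentralSeries 2 := by
    show ⁅⁅x, y⁆, z⁆ ∈ ⁅S.lowerCentralSeries 1, S⁆
    exact Subgroup.commutator_mem_commutator h1 hz
  rw [hcl, Subgroup.mem_bot, commutatorElement_def, commutatorElement_def] at h2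
  have h4 := mul_inv_eq_one.1 h2
  calc (x * y * x⁻¹ * y⁻¹) * z = ((x * y * x⁻¹ * y⁻¹) * z * (x * y * x⁻¹ * y⁻¹)⁻¹) *
        (x * y * x⁻¹ * y⁻¹) := by group
    _ = z * (x * y * x⁻¹ * y⁻¹) := by rw [h4]

/-- **Solvable `S₄`-free groups with Sylow `2`-subgroups of class at most `2`**:
`G = N_G(J_e(S)) O_{2'}(G)`. -/
theorem solv_s4free_class2 {G : Type*} [Group G] [Finite G] [Group.IsSolvable G]
    (hS4 : ¬ Involves (Equiv.Perm (Fin 4)) G) (S : Sylow 2 G)
    (hcl : Subgroup.lowerCentralSeries (S : Subgroup G) 2 = ⊥) :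
    Subgroup.normalizer ((thompsonSubgroupOf 2 (S : Subgroup G)) : Set G) ⊔ pPrimeCore 2 G
      = ⊤ := by
  have : Fact (Nat.Prime 2) := ⟨Nat.prime_two⟩
  have hKc : (Nat.card (pPrimeCore 2 G)).Coprime 2 := Cfsg.Agent.Helper23.pPrimeCore_coprime 2
  obtain ⟨π, hπ⟩ : ∃ π : G →* G ⧸ pPrimeCore 2 G, π = QuotientGroup.mk' (pPrimeCore 2 G) :=
    ⟨_, rfl⟩
  have hπs : Function.Surjective π := by rw [hπ]; exact QuotientGroup.mk'_surjective _
  have hker : ∀ x, π x = 1 ↔ x ∈ pPrimeCore 2 G := by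
    intro x; rw [hπ, QuotientGroup.mk'_apply, QuotientGroup.eq_one_iff]
  have hclS := class_two_elem (S : Subgroup G) hcl
  have hsolq : Group.IsSolvable (G ⧸ pPrimeCore 2 G) := inferInstance
  have hsol : IsPSolvable 2 (G ⧸ pPrimeCore 2 G) :=
    Cfsg.Agent.Helper23.isPSolvable_of_isSolvable 2 _
  have hO : pPrimeCore 2 (G ⧸ pPrimeCore 2 G) = ⊥ :=
    Cfsg.Agent.Helper23.pPrimeCore_quotient_pPrimeCore 2
  have hS4' : ¬ Involves (Equiv.Perm (Fin 4)) (G ⧸ pPrimeCore 2 G) :=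
    fun h => hS4 (involves_of_quotient _ h)
  obtain ⟨T, hT⟩ : ∃ T : Sylow 2 (G ⧸ pPrimeCore 2 G),
      (T : Subgroup (G ⧸ pPrimeCore 2 G)) = (S : Subgroup G).map π :=
    ⟨S.mapSurjective hπs, Sylow.coe_mapSurjective hπs S⟩
  -- `π` is injective on `S`
  have hinj1 : ∀ x ∈ (S : Subgroup G), π x = 1 → x = 1 := by
    intro x hx h1
    have hxK := (hker x).1 h1
    exact Cfsg.Agent.Helper23.eq_one_of_isPGroup_of_pow_eq_one S.isPGroup' hx hKc
      (Cfsg.Agent.Helper23.pow_card_subgroup_eq_one _ hxK)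
  have hinj : ∀ x ∈ (S : Subgroup G), ∀ y ∈ (S : Subgroup G), π x = π y → x = y := by
    intro x hx y hy hxy
    have h1 : π (x * y⁻¹) = 1 := by rw [map_mul, map_inv, hxy, mul_inv_cancel]
    have h2 := hinj1 _ ((S : Subgroup G).mul_mem hx ((S : Subgroup G).inv_mem hy)) h1
    exact mul_inv_eq_one.1 h2
  have hclT : ∀ x ∈ (T : Subgroup (G ⧸ pPrimeCore 2 G)), ∀ y ∈ (T : Subgroup (G ⧸ pPrimeCore 2 G)),
      ∀ z ∈ (T : Subgroup (G ⧸ pPrimeCore 2 G)),
      (x * y * x⁻¹ * y⁻¹) * z = z * (x * y * x⁻¹ * y⁻¹) := by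
    rw [hT]
    rintro _ ⟨x, hx, rfl⟩ _ ⟨y, hy, rfl⟩ _ ⟨z, hz, rfl⟩
    have := congrArg π (hclS x hx y hy z hz)
    simpa only [map_mul, map_inv] using this
  -- the family of `S` maps into the family of `T`
  have hfam : ∀ A ∈ Cfsg.Agent.Helper23.zjFam 2 true (S : Subgroup G),
      A.map π ∈ Cfsg.Agent.Helper23.zjFam 2 true (T : Subgroup (G ⧸ pPrimeCore 2 G)) := by
    intro A hA
    obtain ⟨hAS, hAg, hAmax⟩ := hA
    have hcardA : Nat.card (A.map π) = Nat.card A := by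
      have h1 : ((A.map π : Subgroup (G ⧸ pPrimeCore 2 G)) : Set (G ⧸ pPrimeCore 2 G)) =
          π '' (A : Set G) := Subgroup.coe_map π A
      show Nat.card ((A.map π : Subgroup (G ⧸ pPrimeCore 2 G)) : Set (G ⧸ pPrimeCore 2 G)) = _
      rw [h1]
      exact Nat.card_image_of_injOn (fun x hx y hy hxy => hinj x (hAS hx) y (hAS hy) hxy)
    refine ⟨?_, Cfsg.Agent.Helper23.zjGood_map π hAg, ?_⟩
    · rw [hT]; exact Subgroup.map_mono hAS
    · intro B' hB'T hB'g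
      obtain ⟨B, hB⟩ : ∃ B : Subgroup G, B = (S : Subgroup G) ⊓ B'.comap π := ⟨_, rfl⟩
      have hBS : B ≤ (S : Subgroup G) := by rw [hB]; exact inf_le_left
      have hBmap : B.map π = B' := by
        apply le_antisymm
        · rintro _ ⟨b, hb, rfl⟩
          rw [hB] at hb
          exact Subgroup.mem_comap.1 (Subgroup.mem_inf.1 hb).2
        · intro b' hb'
          have h1 := hB'T hb'
          rw [hT] at h1
          obtain ⟨s, hs, rfl⟩ := h1
          refine ⟨s, ?_, rfl⟩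
          rw [hB]
          exact Subgroup.mem_inf.2 ⟨hs, Subgroup.mem_comap.2 hb'⟩
      have hB'c := Cfsg.Agent.Helper23.comm_of_isMulCommutative hB'g.1
      have hBg : Cfsg.Agent.Helper23.zjGood 2 true B := by
        refine ⟨IsMulCommutative.of_setLike_mul_comm (fun x hx y hy => ?_), fun _ x hx => ?_⟩
        · apply hinj _ ((S : Subgroup G).mul_mem (hBS hx) (hBS hy)) _
            ((S : Subgroup G).mul_mem (hBS hy) (hBS hx))
          rw [map_mul, map_mul]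
          have hx' : π x ∈ B' := by rw [← hBmap]; exact Subgroup.mem_map_of_mem π hx
          have hy' : π y ∈ B' := by rw [← hBmap]; exact Subgroup.mem_map_of_mem π hy
          exact hB'c _ hx' _ hy'
        · apply hinj1 _ ((S : Subgroup G).pow_mem (hBS hx) 2)
          rw [map_pow]
          have hx' : π x ∈ B' := by rw [← hBmap]; exact Subgroup.mem_map_of_mem π hx
          exact hB'g.2 rfl _ hx'
      have hcardB : Nat.card B' = Nat.card B := by
        rw [← hBmap]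
        have h1 : ((B.map π : Subgroup (G ⧸ pPrimeCore 2 G)) : Set (G ⧸ pPrimeCore 2 G)) =
            π '' (B : Set G) := Subgroup.coe_map π B
        show Nat.card ((B.map π : Subgroup (G ⧸ pPrimeCore 2 G)) : Set (G ⧸ pPrimeCore 2 G)) = _
        rw [h1]
        exact Nat.card_image_of_injOn (fun x hx y hy hxy => hinj x (hBS hx) y (hBS hy) hxy)
      rw [hcardB, hcardA]
      exact hAmax B hBS hBg
  -- every member of the family lies in the preimage of `O_2`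
  obtain ⟨C, hC⟩ : ∃ C : Subgroup G, C = (pCore 2 (G ⧸ pPrimeCore 2 G)).comap π := ⟨_, rfl⟩
  have hCn : C.Normal := by rw [hC]; exact Subgroup.Normal.comap inferInstance π
  have hJ : ∀ A ∈ Cfsg.Agent.Helper23.zjFam 2 true (S : Subgroup G), A ≤ C := by
    intro A hA x hx
    rw [hC, Subgroup.mem_comap]
    exact max_ea_le_pCore hsol hO hS4' T hclT (A.map π) (hfam A hA)
      (Subgroup.mem_map_of_mem π hx)
  rw [eq_top_iff]
  intro g _
  obtain ⟨n, hn, c, hc, hnc⟩ := Cfsg.Agent.Helper23.exists_mul_of_thompson_le S C hJ g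
  have hQT : pCore 2 (G ⧸ pPrimeCore 2 G) ≤ T :=
    Cfsg.Agent.Helper23.le_sylow_of_normal (Cfsg.Agent.Helper23.pCore_normal_fin 2)
      (Cfsg.Agent.Helper23.pCore_isPGroup 2) T
  have hc' : π c ∈ (T : Subgroup (G ⧸ pPrimeCore 2 G)) := by
    rw [hC, Subgroup.mem_comap] at hc
    exact hQT hc
  rw [hT] at hc'
  obtain ⟨s, hs, hsc⟩ := hc'
  have hsK : s⁻¹ * c ∈ pPrimeCore 2 G := by
    rw [← hker, map_mul, map_inv, hsc, inv_mul_cancel]
  have hsN : s ∈ Subgroup.normalizer ((thompsonSubgroupOf 2 (S : Subgroup G)) : Set G) := by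
    have h1 := normalizer_le_normalizer_ind (Cfsg.Agent.Helper23.jW 2 true)
      (Cfsg.Agent.Helper23.jW_char 2 true) (S : Subgroup G) S.isPGroup'
      (Subgroup.le_normalizer hs)
    rw [← Cfsg.Agent.Helper23.thompsonSubgroupOf_eq_ind] at h1
    exact h1
  have hg : g = (n * s) * (s⁻¹ * c) := by rw [← hnc]; group
  rw [hg]
  exact Subgroup.mul_mem_sup ((Subgroup.normalizer _).mul_mem hn hsN) hsK

end Cfsg.Agent.Helper10
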