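import Mathlib
import Cfsg.Agent.Helper10.KJ5
import Cfsg.Agent.Helper19.Nilpotent
import Cfsg.Prelude.Def_Balance

/-!
Helper library (helper10): in a 3-group of rank at least 4, the centralizer of every
elementary abelian subgroup of order at least 9 has rank at least 3.
-/

set_option autoImplicit false

namespace Cfsg.Agent.Helper10.KJ

open Subgroup

theorem rtg_symm {α : Type*} {r : α → α → Prop} (hr : ∀ a b, r a b → r b a) {a b : α}
    (h : Relation.ReflTransGen r a b) : Relation.ReflTransGen r b a := by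
  induction h with
  | refl => exact Relation.ReflTransGen.refl
  | tail _ hbc ih => exact Relation.ReflTransGen.head (hr _ _ hbc) ih

theorem pow_eq_one_of_comm_sup {G : Type*} [Group G] (A B : Subgroup G) (n : ℕ)
    (hab : ∀ x ∈ A ⊔ B, ∀ y ∈ A ⊔ B, x * y = y * x) (hA : ∀ a ∈ A, a ^ n = 1)
    (hB : ∀ b ∈ B, b ^ n = 1) : ∀ x ∈ A ⊔ B, x ^ n = 1 := by
  let T : Subgroup G :=
    { carrier := {g | g ∈ A ⊔ B ∧ g ^ n = 1}
      mul_mem' := by
        rintro a b ⟨ha, ha'⟩ ⟨hb, hb'⟩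
        exact ⟨mul_mem ha hb, by
          rw [(show Commute a b from hab a ha b hb).mul_pow, ha', hb', one_mul]⟩
      one_mem' := ⟨one_mem _, one_pow n⟩
      inv_mem' := by
        rintro a ⟨ha, ha'⟩
        exact ⟨inv_mem ha, by rw [inv_pow, ha', inv_one]⟩ }
  have hle : A ⊔ B ≤ T := sup_le (fun a ha => ⟨le_sup_left (a := A) ha, hA a ha⟩)
    (fun b hb => ⟨le_sup_right (b := B) hb, hB b hb⟩)
  intro x hx
  exact (hle hx).2

/-- An element of order 3 acting on a normal elementary abelian 3-subgroup `W` has at least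
`|W|^(1/3)` fixed points. -/
theorem jordan3 {P : Type*} [Group P] [Finite P] (W : Subgroup P) (hWn : W.Normal)
    (hWab : ∀ a ∈ W, ∀ b ∈ W, a * b = b * a) (hW3 : ∀ a ∈ W, a ^ 3 = 1) (y : P)
    (hy : y ^ 3 = 1) : Nat.card W ≤ Nat.card ↥(W ⊓ centralizer {y}) ^ 3 := by
  letI : CommGroup ↥W :=
    { (inferInstance : Group ↥W) with
      mul_comm := fun a b => Subtype.ext (hWab a.1 a.2 b.1 b.2) }
  obtain ⟨c, hc⟩ : ∃ c : ↥W →* ↥W, ∀ w : ↥W, (c w : P) = y * w * y⁻¹ :=
    ⟨(MulAut.conjNormal y : MulAut ↥W).toMonoidHom, fun w => by simp⟩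
  have hc3 : ∀ w, c (c (c w)) = w := by
    intro w
    apply Subtype.ext
    rw [hc, hc, hc]
    have : y * (y * (y * (w : P) * y⁻¹) * y⁻¹) * y⁻¹ = y ^ 3 * w * (y ^ 3)⁻¹ := by
      simp only [pow_succ, pow_zero, one_mul, mul_inv_rev, mul_assoc]
    rw [this, hy]; simp
  have hw3 : ∀ w : ↥W, w ^ 3 = 1 := fun w => Subtype.ext (by simpa using hW3 w.1 w.2)
  obtain ⟨φ, hφ⟩ : ∃ φ : ↥W →* ↥W, ∀ w, φ w = c w * w⁻¹ :=
    ⟨c * (MonoidHom.id ↥W)⁻¹, fun w => rfl⟩
  have h2 : ∀ w, φ (φ w) = w * c w * c (c w) := by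
    intro w
    rw [hφ, hφ, map_mul, map_inv]
    have h3 : (c w)⁻¹ * (c w)⁻¹ = c w := by
      have := hw3 (c w)
      rw [pow_succ, pow_two] at this
      calc (c w)⁻¹ * (c w)⁻¹ = (c w)⁻¹ * (c w)⁻¹ * (c w * c w * c w) := by rw [this, mul_one]
        _ = c w := by group
    calc c (c w) * (c w)⁻¹ * (c w * w⁻¹)⁻¹ = c (c w) * ((c w)⁻¹ * (c w)⁻¹) * w := by
          rw [mul_inv, inv_inv]; simp only [mul_assoc]
      _ = w * c w * c (c w) := by rw [h3]; ac_rfl
  have h3 : ∀ w, φ (φ (φ w)) = 1 := by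
    intro w
    rw [h2 w, hφ, map_mul, map_mul, hc3, mul_inv_eq_one]
    ac_rfl
  have k1 := card_le_ker_range φ ⊤ φ.ker (fun k _ h => h)
  have k2 := card_le_ker_range φ ((⊤ : Subgroup ↥W).map φ) φ.ker (fun k _ h => h)
  have k3 : Nat.card ↥(((⊤ : Subgroup ↥W).map φ).map φ) ≤ Nat.card φ.ker := by
    apply Subgroup.card_le_of_le
    rintro _ ⟨_, ⟨w, _, rfl⟩, rfl⟩
    exact h3 w
  have hker : φ.ker.map W.subtype = W ⊓ centralizer {y} := by
    ext x
    constructor
    · rintro ⟨w, hw, rfl⟩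
      refine Subgroup.mem_inf.2 ⟨w.2, mem_cent_single.2 ?_⟩
      have h1 : φ w = 1 := hw
      rw [hφ, mul_inv_eq_one] at h1
      have h2' : (c w : P) = w := congrArg Subtype.val h1
      rw [hc] at h2'
      calc y * (w : P) = y * w * y⁻¹ * y := by group
        _ = w * y := by rw [h2']
    · intro hx
      obtain ⟨hxW, hxy⟩ := Subgroup.mem_inf.1 hx
      refine ⟨⟨x, hxW⟩, ?_, rfl⟩
      show φ ⟨x, hxW⟩ = 1
      rw [hφ, mul_inv_eq_one]
      apply Subtype.ext
      rw [hc]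
      have := mem_cent_single.1 hxy
      show y * x * y⁻¹ = x
      rw [this]; group
  rw [← hker, Subgroup.card_map_of_injective W.subtype_injective]
  rw [Subgroup.card_top] at k1
  calc Nat.card W ≤ Nat.card φ.ker * Nat.card ↥((⊤ : Subgroup ↥W).map φ) := k1
    _ ≤ Nat.card φ.ker * (Nat.card φ.ker * Nat.card φ.ker) :=
        Nat.mul_le_mul_left _ (k2.trans (Nat.mul_le_mul_left _ k3))
    _ = Nat.card φ.ker ^ 3 := by ring

theorem rank_of_sub {P : Type*} [Group P] [Finite P] (X B : Subgroup P)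
    (hBX : B ≤ centralizer (X : Set P)) (hBab : ∀ a ∈ B, ∀ b ∈ B, a * b = b * a)
    (hB3 : ∀ a ∈ B, a ^ 3 = 1) (hBc : 27 ≤ Nat.card B) :
    ¬ Cfsg.PRankLE 3 2 ↥(centralizer (X : Set P)) := by
  intro h
  have h1 := h (B.subgroupOf (centralizer (X : Set P)))
    ((isMulComm_iff _).2 (fun a ha b hb =>
      Subtype.ext (hBab a.1 (mem_subgroupOf.1 ha) b.1 (mem_subgroupOf.1 hb))))
    (fun a ha => Subtype.ext (by simpa using hB3 a.1 (mem_subgroupOf.1 ha)))
  rw [Nat.card_congr (subgroupOfEquivOfLe hBX).toEquiv] at h1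
  omega

/-- Main claim for 2-connectedness of 3-groups of rank at least 4. -/
theorem cent_rank_three {P : Type*} [Group P] [Finite P] (hP : IsPGroup 3 P)
    (W : Subgroup P) (hWn : W.Normal) (hWea : Cfsg.IsElementaryAbelian 3 W)
    (hW4 : Nat.card W = 3 ^ 4) (X : Subgroup P) (hX : Cfsg.IsElementaryAbelian 3 X)
    (hXc : 3 ^ 2 ≤ Nat.card X) : ¬ Cfsg.PRankLE 3 2 ↥(centralizer (X : Set P)) := by
  haveI : Fact (Nat.Prime 3) := ⟨by norm_num⟩
  have hXab := (isMulComm_iff X).1 hX.1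
  have hWab := (isMulComm_iff W).1 hWea.1
  have hXcent : X ≤ centralizer (X : Set P) := by
    intro x hx
    rw [mem_centralizer_iff]
    intro h hh
    exact hXab h hh x hx
  by_cases hX27 : 27 ≤ Nat.card X
  · exact rank_of_sub X X hXcent hXab hX.2 hX27
  have hX9 : Nat.card X = 9 := by
    obtain ⟨b, hb⟩ := IsPGroup.iff_card.1 (hP.to_subgroup X)
    rw [hb] at hXc hX27 ⊢
    have h2 : 2 ≤ b := (Nat.pow_le_pow_iff_right (by norm_num)).1 hXc
    have h3 : b < 3 := by
      by_contra hcon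
      push Not at hcon
      exact hX27 (by calc 27 = 3 ^ 3 := by norm_num
        _ ≤ 3 ^ b := Nat.pow_le_pow_right (by norm_num) hcon)
    have : b = 2 := by omega
    rw [this]; norm_num
  by_cases hXW : X ⊓ W = ⊥
  · -- central element of W
    haveI : Group.IsNilpotent P := hP.isNilpotent
    have hWne : W ≠ ⊥ := by
      intro h
      rw [h, Subgroup.card_bot] at hW4
      norm_num at hW4
    have hne := Cfsg.Agent.Helper19.inf_center_ne_bot_of_normal W hWne
    obtain ⟨w, hw1⟩ := (Subgroup.ne_bot_iff_exists_ne_one).1 hne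
    have hw1' : (w : P) ≠ 1 := fun h => hw1 (Subtype.ext h)
    obtain ⟨hwW, hwZ⟩ := Subgroup.mem_inf.1 w.2
    have hwc : ∀ g : P, g * (w : P) = w * g := fun g => (Subgroup.mem_center_iff.1 hwZ g)
    have hwX : (w : P) ∉ X := by
      intro h
      have : (w : P) ∈ X ⊓ W := Subgroup.mem_inf.2 ⟨h, hwW⟩
      rw [hXW, Subgroup.mem_bot] at this
      exact hw1' this
    have hab := comm_sup_zpowers X (w : P) hXab (fun a _ => hwc a)
    have hexp := pow_eq_one_of_comm_sup X (zpowers (w : P)) 3 hab hX.2 (by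
      intro b hb
      obtain ⟨i, rfl⟩ := mem_zpowers_iff.1 hb
      rw [← zpow_natCast, ← zpow_mul, mul_comm, zpow_mul, zpow_natCast, hWea.2 _ hwW, one_zpow])
    have hlt : X < X ⊔ zpowers (w : P) := lt_of_le_of_ne le_sup_left (fun he => hwX (by
      rw [he]; exact (le_sup_right : zpowers (w : P) ≤ X ⊔ zpowers (w : P)) (mem_zpowers _)))
    have hc := card_lt_pgroup hP hlt
    refine rank_of_sub X _ (sup_le hXcent ?_) hab hexp (by omega)
    rw [zpowers_le, mem_centralizer_iff]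
    intro h _
    exact hwc h
  by_cases hXleW : X ≤ W
  · refine rank_of_sub X W ?_ hWab hWea.2 (by rw [hW4]; norm_num)
    intro w hw
    rw [mem_centralizer_iff]
    intro h hh
    exact hWab h (hXleW hh) w hw
  -- y ∈ X \ W
  obtain ⟨y, hyX, hyW⟩ : ∃ y ∈ X, y ∉ W := by
    by_contra hcon
    push Not at hcon
    exact hXleW hcon
  obtain ⟨C, hC⟩ : ∃ C, C = W ⊓ centralizer {y} := ⟨_, rfl⟩
  have hj := jordan3 W hWn hWab hWea.2 y (hX.2 y hyX)
  rw [← hC, hW4] at hj
  have hC9 : 9 ≤ Nat.card C := by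
    obtain ⟨b, hb⟩ := IsPGroup.iff_card.1 (hP.to_subgroup C)
    rw [hb] at hj ⊢
    have h2 : 2 ≤ b := by
      by_contra hcon
      push Not at hcon
      have : 3 ^ b ≤ 3 ^ 1 := Nat.pow_le_pow_right (by norm_num) (by omega)
      have h27 : (3 ^ b) ^ 3 ≤ (3 ^ 1) ^ 3 := Nat.pow_le_pow_left this 3
      norm_num at h27 hj
      omega
    calc 9 = 3 ^ 2 := by norm_num
      _ ≤ 3 ^ b := Nat.pow_le_pow_right (by norm_num) h2
  have hCW : C ≤ W := hC ▸ inf_le_left
  have hCy : ∀ a ∈ C, a * y = y * a := by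
    intro a ha
    have : a ∈ W ⊓ centralizer {y} := hC ▸ ha
    exact (mem_cent_single.1 (Subgroup.mem_inf.1 this).2).symm
  have hCab : ∀ a ∈ C, ∀ b ∈ C, a * b = b * a := fun a ha b hb => hWab a (hCW ha) b (hCW hb)
  have hab := comm_sup_zpowers C y hCab hCy
  have hexp := pow_eq_one_of_comm_sup C (zpowers y) 3 hab (fun a ha => hWea.2 a (hCW ha)) (by
    intro b hb
    obtain ⟨i, rfl⟩ := mem_zpowers_iff.1 hb
    rw [← zpow_natCast, ← zpow_mul, mul_comm, zpow_mul, zpow_natCast, hX.2 _ hyX, one_zpow])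
  have hlt : C < C ⊔ zpowers y := lt_of_le_of_ne le_sup_left (fun he => hyW (hCW (by
    rw [he]; exact (le_sup_right : zpowers y ≤ C ⊔ zpowers y) (mem_zpowers _))))
  have hc := card_lt_pgroup hP hlt
  -- X = (X ⊓ W) ⊔ zpowers y
  have hXdec : X = (X ⊓ W) ⊔ zpowers y := by
    symm
    apply Subgroup.eq_of_le_of_card_ge (sup_le inf_le_left ((zpowers_le).2 hyX))
    have hlt2 : X ⊓ W < (X ⊓ W) ⊔ zpowers y := lt_of_le_of_ne le_sup_left (fun he => hyW (by
      have : y ∈ X ⊓ W := by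
        rw [he]; exact (le_sup_right : zpowers y ≤ (X ⊓ W) ⊔ zpowers y) (mem_zpowers _)
      exact (Subgroup.mem_inf.1 this).2))
    have hc2 := card_lt_pgroup hP hlt2
    have hbot : ⊥ < X ⊓ W := bot_lt_iff_ne_bot.2 hXW
    have hc3 := card_lt_pgroup hP hbot
    rw [Subgroup.card_bot] at hc3
    omega
  refine rank_of_sub X _ (sup_le ?_ ?_) hab hexp (by omega)
  · intro a ha
    have hle : X ≤ centralizer {a} := by
      rw [hXdec]
      apply sup_le
      · intro x hx
        exact mem_cent_single.2 (hWab a (hCW ha) x (Subgroup.mem_inf.1 hx).2)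
      · rw [zpowers_le]; exact mem_cent_single.2 (hCy a ha)
    rw [mem_centralizer_iff]
    intro h hh
    exact (mem_cent_single.1 (hle hh)).symm
  · rw [zpowers_le, mem_centralizer_iff]
    intro h hh
    exact hXab h hh y hyX

end Cfsg.Agent.Helper10.KJ
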