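import Mathlib
import Cfsg.Prelude.Def_Transfer
import Cfsg.Agent.Helper6.PResidual

set_option autoImplicit false

namespace Cfsg.Agent.Helper10

/-- If `O^p(N)` has order prime to `p`, it is a normal `p`-complement. -/
theorem hasNormalPComplement_of_coprime_pResidual {N : Type*} [Group N] [Finite N] {p : ℕ}
    [hp : Fact p.Prime] (h : (Nat.card (Cfsg.pResidual p N)).Coprime p) :
    Cfsg.HasNormalPComplement p N := by
  have hn := Cfsg.Agent.Helper6.pResidual_normal p N
  have hpg : IsPGroup p (N ⧸ Cfsg.pResidual p N) :=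
    Cfsg.Agent.Helper6.isPGroup_quotient_pResidual p _ le_rfl
  obtain ⟨e, he⟩ := IsPGroup.iff_card.1 hpg
  obtain ⟨P⟩ : Nonempty (Sylow p N) := inferInstance
  refine ⟨P, Cfsg.pResidual p N, hn, ?_⟩
  obtain ⟨f, hf⟩ := IsPGroup.iff_card.1 P.isPGroup'
  have h1 : Nat.card (Cfsg.pResidual p N) * p ^ e = Nat.card N := by
    rw [← he, ← Subgroup.index_eq_card]; exact Subgroup.card_mul_index _
  have h2 : p ^ f * (P : Subgroup N).index = Nat.card N := by
    rw [← hf]; exact Subgroup.card_mul_index _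
  have h3 : ¬ p ∣ (P : Subgroup N).index := P.not_dvd_index
  have hcopO : ∀ k, Nat.Coprime (p ^ k) (Nat.card (Cfsg.pResidual p N)) :=
    fun k => Nat.Coprime.pow_left k h.symm
  have hcopI : ∀ k, Nat.Coprime (p ^ k) (P : Subgroup N).index :=
    fun k => Nat.Coprime.pow_left k ((Nat.Prime.coprime_iff_not_dvd hp.out).2 h3)
  have hef : e = f := by
    have d1 : p ^ e ∣ p ^ f * (P : Subgroup N).index := by
      rw [h2, ← h1]; exact dvd_mul_left _ _
    have d1' : p ^ e ∣ p ^ f := (hcopI e).dvd_of_dvd_mul_right d1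
    have d2 : p ^ f ∣ Nat.card (Cfsg.pResidual p N) * p ^ e := by
      rw [h1, ← h2]; exact dvd_mul_right _ _
    have d2' : p ^ f ∣ p ^ e := (hcopO f).dvd_of_dvd_mul_left d2
    exact le_antisymm ((Nat.pow_dvd_pow_iff_le_right hp.out.one_lt).1 d1')
      ((Nat.pow_dvd_pow_iff_le_right hp.out.one_lt).1 d2')
  apply Subgroup.isComplement'_of_coprime
  · rw [hf, ← hef]; exact h1
  · rw [hf]; exact (hcopO f).symm

/-- If all `p`-elements of a finite group `C` are central, then the `p'`-elements of `C` lie in a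
normal subgroup of order prime to `p` (Burnside's transfer theorem). -/
theorem exists_normal_pprime_of_central {C : Type*} [Group C] [Finite C] {p : ℕ}
    [hp : Fact p.Prime]
    (hcen : ∀ x : C, (∃ k : ℕ, orderOf x = p ^ k) → x ∈ Subgroup.center C) :
    ∃ K : Subgroup C, K.Normal ∧ (Nat.card K).Coprime p ∧
      ∀ x : C, (orderOf x).Coprime p → x ∈ K := by
  obtain ⟨Q⟩ : Nonempty (Sylow p C) := inferInstance
  have hQc : ∀ q ∈ (Q : Subgroup C), q ∈ Subgroup.center C := by
    intro q hq
    apply hcen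
    obtain ⟨k, hk⟩ := (IsPGroup.iff_orderOf.1 Q.isPGroup') ⟨q, hq⟩
    exact ⟨k, by rw [← hk]; exact (Subgroup.orderOf_mk q hq).symm⟩
  have hQ : Subgroup.normalizer ((Q : Subgroup C) : Set C) ≤ Subgroup.centralizer (Q : Set C) := by
    intro g _
    rw [Subgroup.mem_centralizer_iff]
    intro q hq
    exact (Subgroup.mem_center_iff.1 (hQc q hq) g).symm
  refine ⟨(MonoidHom.transferSylow Q hQ).ker, inferInstance, ?_, ?_⟩
  · have hcomp := MonoidHom.ker_transferSylow_isComplement' Q hQ
    have : Nat.card (MonoidHom.transferSylow Q hQ).ker = (Q : Subgroup C).index :=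
      (hcomp.index_eq_card).symm
    rw [this]
    exact ((Nat.Prime.coprime_iff_not_dvd hp.out).2 Q.not_dvd_index).symm
  · intro x hx
    rw [MonoidHom.mem_ker]
    have h1 : orderOf (MonoidHom.transferSylow Q hQ x) ∣ orderOf x := orderOf_map_dvd _ x
    obtain ⟨k, hk⟩ := (IsPGroup.iff_orderOf.1 Q.isPGroup') (MonoidHom.transferSylow Q hQ x)
    rw [hk] at h1
    have h2 : (p ^ k).Coprime p := Nat.Coprime.coprime_dvd_left h1 hx
    cases k with
    | zero => exact orderOf_eq_one_iff.1 (by rw [hk]; rfl)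
    | succ k =>
      exfalso
      have := Nat.Coprime.eq_one_of_dvd h2.symm (dvd_pow_self p (Nat.succ_ne_zero k))
      exact hp.out.ne_one this

end Cfsg.Agent.Helper10
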