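import Mathlib
import Cfsg.Agent.Helper14.PslAdj2
import Cfsg.Agent.Helper27.SpE1

set_option autoImplicit false

namespace Cfsg.Agent.Helper10.PSpRS

/-- Fixed spaces of coprime isometries on nondegenerate invariant subspaces are nondegenerate,
hence even-dimensional. -/
theorem even_fix {F V : Type*} [Field F] [AddCommGroup V] [Module F V] [FiniteDimensional F V]
    (f : LinearMap.BilinForm F V) (halt : ∀ v, f v v = 0)
    (W : Submodule F V) (hW : ∀ w ∈ W, (∀ w' ∈ W, f w w' = 0) → w = 0)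
    (X : Module.End F V) (hX : ∀ u v, f (X u) (X v) = f u v) (hXW : ∀ w ∈ W, X w ∈ W)
    (s : ℕ) (hs : (s : F) ≠ 0) (hXs : X ^ s = 1) :
    (∀ w ∈ W ⊓ LinearMap.ker (X - 1), (∀ w' ∈ W ⊓ LinearMap.ker (X - 1), f w w' = 0) → w = 0) ∧
      Even (Module.finrank F ↥(W ⊓ LinearMap.ker (X - 1))) := by
  have hmem : ∀ v, v ∈ LinearMap.ker (X - 1) ↔ X v = v := fun v => by
    rw [LinearMap.mem_ker, LinearMap.sub_apply, sub_eq_zero]
    exact Iff.rfl
  have hpowW : ∀ (i : ℕ) (w : V), w ∈ W → (X ^ i) w ∈ W := by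
    intro i
    induction i with
    | zero => intro w hw; simpa using hw
    | succ i ih =>
      intro w hw
      rw [pow_succ', Module.End.mul_apply]
      exact hXW _ (ih w hw)
  have hpowfix : ∀ (i : ℕ) (w : V), X w = w → (X ^ i) w = w := by
    intro i w hw
    induction i with
    | zero => simp
    | succ i ih => rw [pow_succ, Module.End.mul_apply, hw, ih]
  have hpowiso : ∀ (i : ℕ) (u v : V), f ((X ^ i) u) ((X ^ i) v) = f u v := by
    intro i
    induction i with
    | zero => intro u v; simp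
    | succ i ih =>
      intro u v
      rw [pow_succ', Module.End.mul_apply, Module.End.mul_apply, hX, ih]
  have key : ∀ w ∈ W ⊓ LinearMap.ker (X - 1),
      (∀ w' ∈ W ⊓ LinearMap.ker (X - 1), f w w' = 0) → w = 0 := by
    intro w hw hperp
    obtain ⟨hwW, hwK⟩ := Submodule.mem_inf.mp hw
    rw [hmem] at hwK
    apply hW w hwW
    intro u hu
    have hbar : (∑ i ∈ Finset.range s, (X ^ i) u) ∈ W ⊓ LinearMap.ker (X - 1) := by
      refine Submodule.mem_inf.mpr ⟨Submodule.sum_mem _ (fun i _ => hpowW i u hu), ?_⟩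
      rw [hmem, map_sum]
      have h1 : ∀ i, X ((X ^ i) u) = (X ^ (i + 1)) u := fun i => by
        rw [pow_succ', Module.End.mul_apply]
      simp only [h1]
      have e1 := Finset.sum_range_succ' (fun i => (X ^ i) u) s
      have e2 := Finset.sum_range_succ (fun i => (X ^ i) u) s
      have e3 : (X ^ s) u = (X ^ 0) u := by rw [hXs, pow_zero]
      rw [e1, e3] at e2
      exact add_right_cancel e2
    have h2 := hperp _ hbar
    rw [map_sum] at h2
    have h3 : ∀ i ∈ Finset.range s, f w ((X ^ i) u) = f w u := by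
      intro i _
      have := hpowiso i w u
      rw [hpowfix i w hwK] at this
      exact this
    rw [Finset.sum_congr rfl h3, Finset.sum_const, Finset.card_range, nsmul_eq_mul] at h2
    exact (mul_eq_zero.mp h2).resolve_left hs
  refine ⟨key, ?_⟩
  apply Cfsg.Agent.Helper27.SpE1.even_finrank f (fun v => halt v)
  intro a ha ha0
  by_contra hcon
  push_neg at hcon
  exact ha0 (key a ha hcon)

theorem even_sub' (a b : ℕ) (ha : Even a) (hb : Even b) : Even (a - b) := by
  obtain ⟨x, hx⟩ := ha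
  obtain ⟨y, hy⟩ := hb
  exact ⟨x - y, by omega⟩

theorem two_eta_dvd (k η x : ℕ) (hη : (Odd k ∧ η = k) ∨ (Even k ∧ 2 * η = k)) (hkx : k ∣ x)
    (hx : Even x) : 2 * η ∣ x := by
  rcases hη with ⟨ho, h⟩ | ⟨-, h⟩
  · rw [h]
    exact Nat.Coprime.mul_dvd_of_dvd_of_dvd (Nat.coprime_two_left.mpr ho)
      (even_iff_two_dvd.mp hx) hkx
  · rw [h]; exact hkx

/-- The dimension count. -/
theorem dim_arg {F V : Type*} [Field F] [Fintype F] [AddCommGroup V] [Module F V] [Finite V]
    (r s : ℕ) [Fact r.Prime] [Fact s.Prime] (hrq : ¬ r ∣ Fintype.card F) (hsq : ¬ s ∣ Fintype.card F)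
    (A B : Module.End F V) (hA : A ^ r = 1) (hA1 : A ≠ 1) (hB : B ^ s = 1) (hB1 : B ≠ 1)
    (hAB : A * B = B * A) (n k l ηk ηl : ℕ) (hdim : Module.finrank F V = 2 * n)
    (hk : k = orderOf ((Fintype.card F : ℕ) : ZMod r)) (hl : l = orderOf ((Fintype.card F : ℕ) : ZMod s))
    (hηk : (Odd k ∧ ηk = k) ∨ (Even k ∧ 2 * ηk = k)) (hηl : (Odd l ∧ ηl = l) ∨ (Even l ∧ 2 * ηl = l))
    (hkl : ηk ≤ ηl) (hn : n < ηk + ηl)
    (hEA : Even (Module.finrank F ↥(LinearMap.ker (A - 1))))
    (hEB : Even (Module.finrank F ↥(LinearMap.ker (B - 1))))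
    (hEAB : Even (Module.finrank F ↥(LinearMap.ker (B - 1) ⊓ LinearMap.ker (A - 1)))) :
    LinearMap.ker (A - 1) = LinearMap.ker (B - 1) ∧
      Module.finrank F ↥(LinearMap.ker (B - 1)) + 2 * ηl = 2 * n ∧ ηk ∣ ηl := by
  classical
  obtain ⟨EA, hEAd⟩ : ∃ EA : Submodule F V, EA = LinearMap.ker (A - 1) := ⟨_, rfl⟩
  obtain ⟨EB, hEBd⟩ : ∃ EB : Submodule F V, EB = LinearMap.ker (B - 1) := ⟨_, rfl⟩
  rw [← hEAd] at hEA hEAB ⊢
  rw [← hEBd] at hEB hEAB ⊢
  have hmemA : ∀ v, v ∈ EA ↔ A v = v := fun v => by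
    rw [hEAd, LinearMap.mem_ker, LinearMap.sub_apply, sub_eq_zero]
    exact Iff.rfl
  have hmemB : ∀ v, v ∈ EB ↔ B v = v := fun v => by
    rw [hEBd, LinearMap.mem_ker, LinearMap.sub_apply, sub_eq_zero]
    exact Iff.rfl
  have hABv : ∀ v, A (B v) = B (A v) := fun v => congrArg (fun f : Module.End F V => f v) hAB
  have hEAtop : EA ≠ ⊤ := by
    intro h
    apply hA1
    apply LinearMap.ext
    intro v
    exact (hmemA v).mp (by rw [h]; exact Submodule.mem_top)
  have hEBtop : EB ≠ ⊤ := by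
    intro h
    apply hB1
    apply LinearMap.ext
    intro v
    exact (hmemB v).mp (by rw [h]; exact Submodule.mem_top)
  have hdA : Module.finrank F EA < 2 * n := hdim ▸ Submodule.finrank_lt hEAtop
  have hdB : Module.finrank F EB < 2 * n := hdim ▸ Submodule.finrank_lt hEBtop
  have h1 := Cfsg.Agent.Helper14.PslAdj2.fix_dvd r hrq A hA ⊤ (fun _ _ => Submodule.mem_top)
  rw [top_inf_eq, finrank_top, hdim, ← hEAd, ← hk] at h1
  have h2 := Cfsg.Agent.Helper14.PslAdj2.fix_dvd s hsq B hB ⊤ (fun _ _ => Submodule.mem_top)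
  rw [top_inf_eq, finrank_top, hdim, ← hEBd, ← hl] at h2
  have h3 := Cfsg.Agent.Helper14.PslAdj2.fix_dvd r hrq A hA EB (fun w hw => by
    rw [hmemB] at hw ⊢
    rw [← hABv, hw])
  rw [← hEAd, ← hk] at h3
  have h4 := Cfsg.Agent.Helper14.PslAdj2.fix_dvd s hsq B hB EA (fun w hw => by
    rw [hmemA] at hw ⊢
    rw [hABv, hw])
  rw [← hEBd, ← hl] at h4
  have hcomm : EA ⊓ EB = EB ⊓ EA := inf_comm _ _
  rw [hcomm] at h4
  have h5 : Module.finrank F ↥(EB ⊓ EA) ≤ Module.finrank F EB :=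
    Submodule.finrank_mono inf_le_left
  have h6 : Module.finrank F ↥(EB ⊓ EA) ≤ Module.finrank F EA :=
    Submodule.finrank_mono inf_le_right
  have e2n : Even (2 * n) := even_two_mul n
  have H1 := two_eta_dvd k ηk _ hηk h1 (even_sub' _ _ e2n hEA)
  have H2 := two_eta_dvd l ηl _ hηl h2 (even_sub' _ _ e2n hEB)
  have H3 := two_eta_dvd k ηk _ hηk h3 (even_sub' _ _ hEB hEAB)
  have H4 := two_eta_dvd l ηl _ hηl h4 (even_sub' _ _ hEA hEAB)
  have hk' : 2 * ηk ≤ 2 * n - Module.finrank F EA := Nat.le_of_dvd (by omega) H1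
  have hl' : 2 * ηl ≤ 2 * n - Module.finrank F EB := Nat.le_of_dvd (by omega) H2
  have h7 : Module.finrank F ↥(EB ⊓ EA) = Module.finrank F EB := by
    by_contra hne
    have := Nat.le_of_dvd (by omega) H3
    omega
  have h8 : Module.finrank F ↥(EB ⊓ EA) = Module.finrank F EA := by
    by_contra hne
    have := Nat.le_of_dvd (by omega) H4
    omega
  have h9 : EB ⊓ EA = EB := Submodule.eq_of_le_of_finrank_eq inf_le_left h7
  have h10 : EB ⊓ EA = EA := Submodule.eq_of_le_of_finrank_eq inf_le_right h8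
  have h11 : EA = EB := by rw [← h10, h9]
  have h12 : 2 * n - Module.finrank F EB = 2 * ηl :=
    Nat.eq_of_dvd_of_lt_two_mul (by omega) H2 (by omega)
  refine ⟨h11, by omega, ?_⟩
  have h13 : Module.finrank F EA = Module.finrank F EB := by rw [h11]
  rw [h13, h12] at H1
  exact Nat.dvd_of_mul_dvd_mul_left (by norm_num) H1

end Cfsg.Agent.Helper10.PSpRS
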