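import Mathlib
import Cfsg.Agent.Helper14.PslAdj2
import Cfsg.Agent.Helper14.PrimeOrdSp
import Cfsg.Agent.Helper14.SylTorus

set_option autoImplicit false

namespace Cfsg.Agent.Helper10.PSpRS2

open Polynomial

/-- If `g(B)` has a nonzero kernel, then so does `φ(B)` for some irreducible factor `φ` of `g`. -/
theorem exists_irr_ker {F V : Type*} [Field F] [AddCommGroup V] [Module F V] (B : Module.End F V) :
    ∀ (d : ℕ) (g : F[X]), g.natDegree ≤ d → g ≠ 0 → LinearMap.ker (aeval B g) ≠ ⊥ →
      ∃ φ : F[X], Irreducible φ ∧ φ ∣ g ∧ LinearMap.ker (aeval B φ) ≠ ⊥ := by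
  intro d
  induction d with
  | zero =>
    intro g hd hg0 hker
    exfalso
    apply hker
    rw [Nat.le_zero] at hd
    obtain ⟨c, rfl⟩ : ∃ c, g = C c := ⟨g.coeff 0, eq_C_of_natDegree_eq_zero hd⟩
    have hc : c ≠ 0 := fun h => hg0 (by rw [h, map_zero])
    rw [Submodule.eq_bot_iff]
    intro v hv
    rw [LinearMap.mem_ker, aeval_C, Module.algebraMap_end_apply] at hv
    exact (smul_eq_zero.mp hv).resolve_left hc
  | succ d ih =>
    intro g hd hg0 hker
    by_cases hu : IsUnit g
    · exfalso
      apply hker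
      obtain ⟨c, hc, rfl⟩ := Polynomial.isUnit_iff.mp hu
      rw [Submodule.eq_bot_iff]
      intro v hv
      rw [LinearMap.mem_ker, aeval_C, Module.algebraMap_end_apply] at hv
      exact (smul_eq_zero.mp hv).resolve_left hc.ne_zero
    · obtain ⟨φ, hφ, g', rfl⟩ := WfDvdMonoid.exists_irreducible_factor hu hg0
      by_cases hk : LinearMap.ker (aeval B φ) = ⊥
      · have hφ0 : φ ≠ 0 := hφ.ne_zero
        have hg'0 : g' ≠ 0 := right_ne_zero_of_mul hg0
        have hdeg : g'.natDegree ≤ d := by
          have h1 := natDegree_mul hφ0 hg'0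
          have h2 : 0 < φ.natDegree := hφ.natDegree_pos
          omega
        have hker' : LinearMap.ker (aeval B g') ≠ ⊥ := by
          intro h
          apply hker
          rw [Submodule.eq_bot_iff] at h hk ⊢
          intro v hv
          apply h
          rw [LinearMap.mem_ker] at hv ⊢
          apply hk
          rw [LinearMap.mem_ker, ← Module.End.mul_apply, ← map_mul]
          exact hv
        obtain ⟨ψ, hψ, hψg, hψk⟩ := ih g' hdeg hg'0 hker'
        exact ⟨ψ, hψ, hψg.mul_left φ, hψk⟩
      · exact ⟨φ, hφ, dvd_mul_right φ g', hk⟩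

theorem x2 {F V : Type*} [Field F] [Fintype F] [AddCommGroup V] [Module F V] [Finite V]
    (f : LinearMap.BilinForm F V) (halt : ∀ v, f v v = 0) (hnd : ∀ v, (∀ w, f v w = 0) → v = 0)
    (r s : ℕ) [Fact r.Prime] [Fact s.Prime] (hs2 : s ≠ 2) (hrq : ¬ r ∣ Fintype.card F) (hsq : ¬ s ∣ Fintype.card F)
    (A B : Module.End F V) (hAf : ∀ u v, f (A u) (A v) = f u v) (hBf : ∀ u v, f (B u) (B v) = f u v)
    (hA : A ^ r = 1) (hB : B ^ s = 1) (hAB : A * B = B * A)
    (hker : LinearMap.ker (A - 1) = LinearMap.ker (B - 1))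
    (l : ℕ) (hl : l = orderOf ((Fintype.card F : ℕ) : ZMod s)) (hlo : Odd l)
    (hdim : Module.finrank F ↥(LinearMap.ker (B - 1)) + 2 * l = Module.finrank F V) :
    orderOf ((Fintype.card F : ℕ) : ZMod r) ∣ l := by
  classical
  have hs : s.Prime := Fact.out
  have hs0 : 0 < s := hs.pos
  have hl0 : 0 < l := hlo.pos
  have hq1 : 1 < Fintype.card F := Fintype.one_lt_card
  have hsF : (s : F) ≠ 0 := by
    intro h
    obtain ⟨p, hp⟩ := CharP.exists F
    haveI := hp
    haveI : Fact p.Prime := ⟨CharP.char_is_prime F p⟩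
    have h1 : p ∣ s := (CharP.cast_eq_zero_iff F p s).mp h
    have h2 : p = s := (Nat.prime_dvd_prime_iff_eq (Fact.out : p.Prime) hs).mp h1
    obtain ⟨n, -, hn⟩ := FiniteField.card F p
    apply hsq
    rw [hn, ← h2]
    exact dvd_pow_self p n.ne_zero
  obtain ⟨E, hEd⟩ : ∃ E : Submodule F V, E = LinearMap.ker (B - 1) := ⟨_, rfl⟩
  rw [← hEd] at hdim
  have hmemE : ∀ v, v ∈ E ↔ B v = v := fun v => by
    rw [hEd, LinearMap.mem_ker, LinearMap.sub_apply, sub_eq_zero]
    exact Iff.rfl
  have hABv : ∀ v, A (B v) = B (A v) := fun v => congrArg (fun T : Module.End F V => T v) hAB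
  have hBX : ∀ (g : F[X]) (v : V), aeval B g (B v) = B (aeval B g v) := by
    intro g v
    have e1 : aeval B (g * X) = aeval B g * B := by rw [map_mul, aeval_X]
    have e2 : aeval B (X * g) = B * aeval B g := by rw [map_mul, aeval_X]
    rw [mul_comm] at e1
    exact congrArg (fun T : Module.End F V => T v) (e1.symm.trans e2)
  have hpowA : ∀ (n : ℕ) (v : V), (B ^ n) (A v) = A ((B ^ n) v) := by
    intro n
    induction n with
    | zero => intro v; simp
    | succ n ih =>
      intro v
      rw [pow_succ, Module.End.mul_apply, Module.End.mul_apply, ← hABv, ih]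
  have hAg : ∀ (g : F[X]) (v : V), aeval B g (A v) = A (aeval B g v) := by
    intro g
    induction g using Polynomial.induction_on' with
    | add p q hp hq =>
      intro v
      simp only [map_add, LinearMap.add_apply, hp, hq]
    | monomial n a =>
      intro v
      simp only [← C_mul_X_pow_eq_monomial, map_mul, aeval_C, map_pow, aeval_X,
        Module.End.mul_apply, Module.algebraMap_end_apply, map_smul, hpowA]
  have hpowE : ∀ (i : ℕ) (e : V), B e = e → (B ^ i) e = e := by
    intro i e he
    induction i with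
    | zero => simp
    | succ i ih => rw [pow_succ, Module.End.mul_apply, he, ih]
  have hpowiso : ∀ (i : ℕ) (u v : V), f ((B ^ i) u) ((B ^ i) v) = f u v := by
    intro i
    induction i with
    | zero => intro u v; simp
    | succ i ih =>
      intro u v
      rw [pow_succ', Module.End.mul_apply, Module.End.mul_apply, hBf, ih]
  have hfixg : ∀ (g : F[X]) (e : V), B e = e → aeval B g e = eval 1 g • e := by
    intro g e he
    induction g using Polynomial.induction_on' with
    | add p q hp hq => rw [map_add, LinearMap.add_apply, hp, hq, eval_add, add_smul]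
    | monomial n a =>
      simp only [← C_mul_X_pow_eq_monomial, map_mul, aeval_C, map_pow, aeval_X,
        Module.End.mul_apply, Module.algebraMap_end_apply, eval_mul, eval_C, eval_pow, eval_X,
        one_pow, mul_one, hpowE n e he]
  -- the polynomial Φ
  obtain ⟨Φ, hΦd⟩ : ∃ Φ : F[X], Φ = ∑ i ∈ Finset.range s, X ^ i := ⟨_, rfl⟩
  have hΦmul : Φ * (X - 1) = X ^ s - 1 := by rw [hΦd]; exact geom_sum_mul X s
  have hXs : aeval B (X ^ s - 1 : F[X]) = 0 := by
    rw [map_sub, map_pow, aeval_X, map_one, hB, sub_self]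
  have hΦ0 : Φ ≠ 0 := by
    intro h
    rw [h, zero_mul] at hΦmul
    have h1 := Polynomial.X_pow_sub_C_ne_zero hs0 (1 : F)
    rw [map_one] at h1
    exact h1 hΦmul.symm
  have hΦ1 : eval 1 Φ = (s : F) := by
    rw [hΦd, eval_finset_sum]
    simp
  have hEtop : E ≠ ⊤ := by
    intro h
    rw [h, finrank_top] at hdim
    omega
  obtain ⟨v0, hv0⟩ : ∃ v, v ∉ E := by
    by_contra hc
    push_neg at hc
    exact hEtop (Submodule.eq_top_iff'.mpr hc)
  have hkerΦ : LinearMap.ker (aeval B Φ) ≠ ⊥ := by
    intro h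
    apply hv0
    rw [hmemE]
    have h1 : aeval B Φ (B v0 - v0) = 0 := by
      have h2 := congrArg (fun T : Module.End F V => T v0) hXs
      rw [← hΦmul, map_mul, map_sub, aeval_X, map_one] at h2
      simpa [Module.End.mul_apply, LinearMap.sub_apply] using h2
    have h3 : B v0 - v0 ∈ LinearMap.ker (aeval B Φ) := LinearMap.mem_ker.mpr h1
    rw [h, Submodule.mem_bot, sub_eq_zero] at h3
    exact h3
  obtain ⟨φ0, hφ0irr, hφ0dvd, hφ0ker⟩ := exists_irr_ker B Φ.natDegree Φ le_rfl hΦ0 hkerΦ
  obtain ⟨φ, hφd⟩ : ∃ φ : F[X], φ = C (φ0.leadingCoeff)⁻¹ * φ0 := ⟨_, rfl⟩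
  have hlc : φ0.leadingCoeff ≠ 0 := leadingCoeff_ne_zero.mpr hφ0irr.ne_zero
  have hunit : IsUnit (C (φ0.leadingCoeff)⁻¹ : F[X]) :=
    Polynomial.isUnit_C.mpr (IsUnit.mk0 _ (inv_ne_zero hlc))
  have hφmonic : φ.Monic := by
    rw [hφd]
    exact monic_C_mul_of_mul_leadingCoeff_eq_one (inv_mul_cancel₀ hlc)
  have hφirr : Irreducible φ := by
    rw [hφd]
    exact (irreducible_isUnit_mul hunit).mpr hφ0irr
  have hφΦ : φ ∣ Φ := by
    rw [hφd]
    exact (IsUnit.mul_left_dvd hunit).mpr hφ0dvd
  have hφXs : φ ∣ X ^ s - 1 := hφΦ.trans ⟨X - 1, hΦmul.symm⟩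
  obtain ⟨W, hWd⟩ : ∃ W : Submodule F V, W = LinearMap.ker (aeval B φ) := ⟨_, rfl⟩
  have hmemW : ∀ v, v ∈ W ↔ aeval B φ v = 0 := fun v => by rw [hWd, LinearMap.mem_ker]
  have hWbot : W ≠ ⊥ := by
    intro h
    apply hφ0ker
    rw [Submodule.eq_bot_iff] at h ⊢
    intro v hv
    apply h
    rw [hmemW, hφd, map_mul, aeval_C, Module.End.mul_apply, LinearMap.mem_ker.mp hv, map_zero]
  have hφ1 : eval 1 φ ≠ 0 := by
    intro h
    obtain ⟨c, hc⟩ := hφΦ
    have h1 : eval 1 Φ = 0 := by rw [hc, eval_mul, h, zero_mul]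
    rw [hΦ1] at h1
    exact hsF h1
  have hWE : W ⊓ E = ⊥ := by
    rw [Submodule.eq_bot_iff]
    intro w hw
    obtain ⟨hwW, hwE⟩ := Submodule.mem_inf.mp hw
    rw [hmemW, hfixg φ w ((hmemE w).mp hwE)] at hwW
    exact (smul_eq_zero.mp hwW).resolve_left hφ1
  have hWB : ∀ w ∈ W, B w ∈ W := by
    intro w hw
    rw [hmemW] at hw ⊢
    rw [hBX, hw, map_zero]
  have hWA : ∀ w ∈ W, A w ∈ W := by
    intro w hw
    rw [hmemW] at hw ⊢
    rw [hAg, hw, map_zero]
  have hfW := Cfsg.Agent.Helper14.PslAdj2.fix_dvd s hsq B hB W hWB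
  rw [← hEd, hWE, finrank_bot, Nat.sub_zero, ← hl] at hfW
  have hWpos : 0 < Module.finrank F W := by
    rw [Nat.pos_iff_ne_zero]
    intro h
    exact hWbot (Submodule.finrank_eq_zero.mp h)
  have hsum := Submodule.finrank_sup_add_finrank_inf_eq W E
  rw [hWE, finrank_bot, add_zero] at hsum
  have hle : Module.finrank F ↥(W ⊔ E) ≤ Module.finrank F V := Submodule.finrank_le _
  have hfA := Cfsg.Agent.Helper14.PslAdj2.fix_dvd r hrq A hA W hWA
  rw [hker, ← hEd, hWE, finrank_bot, Nat.sub_zero] at hfA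
  have hWle : Module.finrank F W ≤ 2 * l := by omega
  obtain ⟨j, hj⟩ := hfW
  have hj12 : j = 1 ∨ j = 2 := by
    have h1 : 0 < j := by
      rcases Nat.eq_zero_or_pos j with h | h
      · rw [h, mul_zero] at hj; omega
      · exact h
    have h2 : l * j ≤ l * 2 := by rw [← hj]; omega
    have h3 : j ≤ 2 := Nat.le_of_mul_le_mul_left h2 hl0
    omega
  rcases hj12 with rfl | rfl
  · rw [hj, mul_one] at hfA
    exact hfA
  · exfalso
    have hWtop : W ⊔ E = ⊤ := Submodule.eq_top_of_finrank_eq (by omega)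
    obtain ⟨B', hB'd⟩ : ∃ B' : Module.End F V, B' = B ^ (s - 1) := ⟨_, rfl⟩
    have hBB' : ∀ v, B (B' v) = v := by
      intro v
      have h1 : B * B' = 1 := by rw [hB'd, ← pow_succ', Nat.sub_add_cancel hs0, hB]
      exact congrArg (fun T : Module.End F V => T v) h1
    have hadj1 : ∀ x y, f (B' x) y = f x (B y) := by
      intro x y
      have h1 := hBf (B' x) y
      rw [hBB'] at h1
      exact h1.symm
    have hadjn : ∀ (n : ℕ) (x y : V), f ((B' ^ n) x) y = f x ((B ^ n) y) := by
      intro n
      induction n with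
      | zero => intro x y; simp
      | succ n ih =>
        intro x y
        rw [pow_succ, Module.End.mul_apply, ih, hadj1, pow_succ', Module.End.mul_apply]
    have hadjg : ∀ (g : F[X]) (x y : V), f (aeval B' g x) y = f x (aeval B g y) := by
      intro g
      induction g using Polynomial.induction_on' with
      | add p q hp hq =>
        intro x y
        simp only [map_add, LinearMap.add_apply, hp, hq]
      | monomial n a =>
        intro x y
        simp only [← C_mul_X_pow_eq_monomial, map_mul, aeval_C, map_pow, aeval_X,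
          Module.End.mul_apply, Module.algebraMap_end_apply, map_smul, LinearMap.smul_apply, hadjn]
    have hΦW : ∀ w ∈ W, aeval B Φ w = 0 := by
      intro w hw
      obtain ⟨c, hc⟩ := hφΦ
      rw [hc, mul_comm, map_mul, Module.End.mul_apply, (hmemW w).mp hw, map_zero]
    have hperp : ∀ w ∈ W, ∀ e ∈ E, f w e = 0 := by
      intro w hw e he
      have h1 := hΦW w hw
      rw [hΦd, map_sum, LinearMap.sum_apply] at h1
      simp only [map_pow, aeval_X] at h1
      have h2 : f (∑ i ∈ Finset.range s, (B ^ i) w) e = 0 := by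
        rw [h1, map_zero, LinearMap.zero_apply]
      rw [map_sum, LinearMap.sum_apply] at h2
      have h3 : ∀ i ∈ Finset.range s, f ((B ^ i) w) e = f w e := by
        intro i _
        have h4 := hpowiso i w e
        rw [hpowE i e ((hmemE e).mp he)] at h4
        exact h4
      rw [Finset.sum_congr rfl h3, Finset.sum_const, Finset.card_range, nsmul_eq_mul] at h2
      exact (mul_eq_zero.mp h2).resolve_left hsF
    have hB'W : ∀ w ∈ W, aeval B' φ w = 0 := by
      intro w hw
      apply hnd
      intro y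
      rw [hadjg]
      have hy : y ∈ W ⊔ E := by rw [hWtop]; exact Submodule.mem_top
      obtain ⟨w', hw', e, he, rfl⟩ := Submodule.mem_sup.mp hy
      rw [map_add, (hmemW w').mp hw', zero_add, hfixg φ e ((hmemE e).mp he), map_smul,
        hperp w hw e he, smul_zero]
    have hcancel : ∀ (j d : ℕ), j ≤ d → ∀ w, (B ^ d) ((B' ^ j) w) = (B ^ (d - j)) w := by
      intro j
      induction j with
      | zero => intro d _ w; simp
      | succ j ih =>
        intro d hjd w
        rw [pow_succ, Module.End.mul_apply, ih d (by omega) (B' w)]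
        have h1 : d - j = (d - (j + 1)) + 1 := by omega
        rw [h1, pow_succ, Module.End.mul_apply, hBB']
    have hrev : ∀ w, aeval B φ.reverse w = (B ^ φ.natDegree) (aeval B' φ w) := by
      intro w
      have hL : aeval B φ.reverse w =
          ∑ i ∈ Finset.range (φ.natDegree + 1), φ.reverse.coeff i • (B ^ i) w := by
        rw [aeval_eq_sum_range' (Nat.lt_succ_of_le (reverse_natDegree_le φ)) B,
          LinearMap.sum_apply]
        simp only [LinearMap.smul_apply]
      have hR : (B ^ φ.natDegree) (aeval B' φ w) =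
          ∑ j ∈ Finset.range (φ.natDegree + 1), φ.coeff j • (B ^ φ.natDegree) ((B' ^ j) w) := by
        rw [aeval_eq_sum_range B', LinearMap.sum_apply, map_sum]
        simp only [LinearMap.smul_apply, map_smul]
      rw [hL, hR, ← Finset.sum_range_reflect]
      apply Finset.sum_congr rfl
      intro j hj
      rw [Finset.mem_range] at hj
      have hj' : φ.natDegree + 1 - 1 - j = φ.natDegree - j := by omega
      rw [hj', coeff_reverse, revAt_le (by omega), Nat.sub_sub_self (by omega),
        hcancel j φ.natDegree (by omega) w]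
    have h0 : φ.coeff 0 ≠ 0 := Cfsg.Agent.Helper14.PrimeOrdSp.coeff_zero_ne hs.ne_zero φ hφXs
    have hstarW : ∀ w ∈ W, aeval B (Cfsg.Agent.Helper14.PrimeOrdSp.star φ) w = 0 := by
      intro w hw
      unfold Cfsg.Agent.Helper14.PrimeOrdSp.star
      rw [map_mul, aeval_C, Module.End.mul_apply, hrev, hB'W w hw, map_zero, map_zero]
    have hdeg : φ.natDegree ∣ l := by
      apply hφirr.natDegree_dvd_of_dvd_X_pow_card_pow_sub_X
      rw [Nat.card_eq_fintype_card]
      have h1 : s ∣ Fintype.card F ^ l - 1 :=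
        (Cfsg.Agent.Helper14.SylTorus.dvd_iff s _ hq1.le l).mpr (by rw [← hl])
      obtain ⟨c, hc⟩ := h1
      have h2 : (X ^ s - 1 : F[X]) ∣ X ^ (Fintype.card F ^ l - 1) - 1 := by
        rw [hc, pow_mul]
        simpa using sub_dvd_pow_sub_pow (X ^ s : F[X]) 1 c
      have h3 : (X ^ (Fintype.card F ^ l) - X : F[X]) =
          X * (X ^ (Fintype.card F ^ l - 1) - 1) := by
        have h4 : Fintype.card F ^ l = (Fintype.card F ^ l - 1) + 1 :=
          (Nat.sub_add_cancel (Nat.one_le_pow _ _ (by omega))).symm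
        conv_lhs => rw [h4, pow_succ]
        ring
      rw [h3]
      exact (hφXs.trans h2).mul_left X
    have hodd : Odd φ.natDegree := Odd.of_dvd_nat hlo hdeg
    have hne := Cfsg.Agent.Helper14.PrimeOrdSp.star_ne_of_odd hs hs2 hodd φ rfl hφXs hφ1
    apply hne
    have hsm := Cfsg.Agent.Helper14.PrimeOrdSp.star_monic φ h0
    have hsd := Cfsg.Agent.Helper14.PrimeOrdSp.star_natDegree φ h0
    have hdvd : φ ∣ Cfsg.Agent.Helper14.PrimeOrdSp.star φ := by
      by_contra hnd'
      have hcop : IsCoprime φ (Cfsg.Agent.Helper14.PrimeOrdSp.star φ) :=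
        (Irreducible.coprime_iff_not_dvd hφirr).mpr hnd'
      obtain ⟨a, b, hab⟩ := hcop
      apply hWbot
      rw [Submodule.eq_bot_iff]
      intro w hw
      have h1 := congrArg (fun g : F[X] => aeval B g w) hab
      simp only [map_add, map_mul, map_one, LinearMap.add_apply, Module.End.mul_apply,
        Module.End.one_apply] at h1
      rw [(hmemW w).mp hw, hstarW w hw, map_zero, map_zero, add_zero] at h1
      exact h1.symm
    exact eq_of_monic_of_dvd_of_natDegree_le hφmonic hsm hdvd (by rw [hsd])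

end Cfsg.Agent.Helper10.PSpRS2
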