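import Mathlib
import Cfsg.Prelude.Def_Classical
import Cfsg.Agent.S0278
import Cfsg.Agent.S0281
import Cfsg.Agent.S0284
import Cfsg.Agent.Helper14.PslAdj2
import Cfsg.Agent.Helper14.SylTorus
import Cfsg.Agent.Helper14.Psl3c

set_option autoImplicit false

namespace Cfsg.Agent.Helper10.Psu3x

open Polynomial Matrix

/-! ### number theory -/

theorem nt1 (q : ℕ) : (q + 1) * (q ^ 2 - q + 1) = q ^ 3 + 1 := by
  have hqq : q ≤ q ^ 2 := Nat.le_self_pow two_ne_zero q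
  apply Nat.cast_injective (R := ℤ)
  push_cast [Nat.cast_sub hqq]
  ring

theorem nt2 (q : ℕ) (hq : 1 ≤ q) : (q ^ 3 - 1) * (q ^ 3 + 1) = q ^ 6 - 1 := by
  have h3 : 1 ≤ q ^ 3 := Nat.one_le_pow _ _ hq
  have h6 : 1 ≤ q ^ 6 := Nat.one_le_pow _ _ hq
  apply Nat.cast_injective (R := ℤ)
  push_cast [Nat.cast_sub h3, Nat.cast_sub h6]
  ring

/-- a common divisor of `q^2-q+1` and `q^2-1` divides `3` and `q+1`. -/
theorem nt3 (q g : ℕ) (hq : 1 ≤ q) (h1 : g ∣ q ^ 2 - q + 1) (h2 : g ∣ q ^ 2 - 1) :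
    g ∣ 3 ∧ g ∣ q + 1 := by
  have hqq : q ≤ q ^ 2 := Nat.le_self_pow two_ne_zero q
  have h1q : 1 ≤ q ^ 2 := Nat.one_le_pow _ _ hq
  have e1 : ((q ^ 2 - q + 1 : ℕ) : ℤ) = (q : ℤ) ^ 2 - q + 1 := by
    push_cast [Nat.cast_sub hqq]; ring
  have e2 : ((q ^ 2 - 1 : ℕ) : ℤ) = (q : ℤ) ^ 2 - 1 := by
    push_cast [Nat.cast_sub h1q]; ring
  have z1 : (g : ℤ) ∣ (q : ℤ) ^ 2 - q + 1 := by
    rw [← e1]; exact Int.natCast_dvd_natCast.mpr h1
  have z2 : (g : ℤ) ∣ (q : ℤ) ^ 2 - 1 := by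
    rw [← e2]; exact Int.natCast_dvd_natCast.mpr h2
  have z3 : (g : ℤ) ∣ 3 := by
    have h : (3 : ℤ) = ((q : ℤ) + 2) * ((q : ℤ) ^ 2 - q + 1) - ((q : ℤ) + 1) * ((q : ℤ) ^ 2 - 1) := by
      ring
    rw [h]
    exact dvd_sub (z1.mul_left _) (z2.mul_left _)
  have z4 : (g : ℤ) ∣ (q : ℤ) + 1 := by
    have h : (q : ℤ) + 1 = 3 + ((q : ℤ) ^ 2 - 1) - ((q : ℤ) ^ 2 - q + 1) := by ring
    rw [h]
    exact dvd_sub (dvd_add z3 z2) z1
  exact ⟨by exact_mod_cast z3, by exact_mod_cast z4⟩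

theorem nt4 (q : ℕ) : ¬ 9 ∣ q ^ 2 - q + 1 := by
  have hqq : q ≤ q ^ 2 := Nat.le_self_pow two_ne_zero q
  intro h
  have h1 : ((q ^ 2 - q + 1 : ℕ) : ZMod 9) = 0 := (ZMod.natCast_eq_zero_iff _ 9).mpr h
  rw [Nat.cast_add, Nat.cast_sub hqq, Nat.cast_pow, Nat.cast_one] at h1
  have key : ∀ x : ZMod 9, x ^ 2 - x + 1 ≠ 0 := by decide
  exact key _ h1

theorem nt5 (q : ℕ) : Nat.gcd 3 (q + 1) ∣ q ^ 2 - q + 1 := by
  have hqq : q ≤ q ^ 2 := Nat.le_self_pow two_ne_zero q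
  rcases (Nat.dvd_prime Nat.prime_three).mp (Nat.gcd_dvd_left 3 (q + 1)) with h | h
  · rw [h]; exact one_dvd _
  · rw [h]
    have h3 : 3 ∣ q + 1 := h ▸ Nat.gcd_dvd_right 3 (q + 1)
    have h1 : ((q + 1 : ℕ) : ZMod 3) = 0 := (ZMod.natCast_eq_zero_iff _ 3).mpr h3
    rw [Nat.cast_add, Nat.cast_one] at h1
    apply (ZMod.natCast_eq_zero_iff _ 3).mp
    rw [Nat.cast_add, Nat.cast_sub hqq, Nat.cast_pow, Nat.cast_one]
    have key : ∀ x : ZMod 3, x + 1 = 0 → x ^ 2 - x + 1 = 0 := by decide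
    exact key _ h1

theorem exists_prime (q : ℕ) (hq : 3 ≤ q) : ∃ s : ℕ, s.Prime ∧ s ∣ q ^ 2 - q + 1 ∧ s ≠ 3 := by
  by_contra hcon
  push_neg at hcon
  have hqq : q ≤ q ^ 2 := Nat.le_self_pow two_ne_zero q
  have hbig : 7 ≤ q ^ 2 - q + 1 := by
    have : 3 * q ≤ q ^ 2 := by nlinarith
    omega
  have h3 := Nat.eq_prime_pow_of_unique_prime_dvd (n := q ^ 2 - q + 1) (p := 3) (by omega)
    (fun {d} hd hdd => hcon d hd hdd)
  obtain ⟨k, hk⟩ : ∃ k, q ^ 2 - q + 1 = 3 ^ k := ⟨_, h3⟩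
  rcases Nat.lt_or_ge k 2 with h | h
  · interval_cases k <;> omega
  · apply nt4 q
    rw [hk]
    exact pow_dvd_pow 3 h

theorem ex_d {F : Type*} [Field F] [Fintype F] (p : ℕ) [Fact p.Prime] [CharP F p] (q : ℕ)
    (hF : Fintype.card F = q ^ 2) (hp : p ≠ 2) :
    ∃ M : Matrix (Fin 3) (Fin 3) F, Mᵀ * M.map (fun x => x ^ q) = 1 ∧ M.det = 1 ∧
      (∃ c : F, M ^ ((q ^ 2 - q + 1) / Nat.gcd 3 (q + 1)) = c • (1 : Matrix (Fin 3) (Fin 3) F)) ∧
      ∀ j : ℕ, (∃ c : F, M ^ j = c • (1 : Matrix (Fin 3) (Fin 3) F)) →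
        (q ^ 2 - q + 1) / Nat.gcd 3 (q + 1) ∣ j := by
  classical
  have hpp : p.Prime := Fact.out
  -- q is a power of p and q ≥ 3
  obtain ⟨f, -, hq2⟩ := FiniteField.card F p
  rw [hF] at hq2
  have hqdvd : q ∣ p ^ (f : ℕ) := ⟨q, by rw [← hq2, sq]⟩
  obtain ⟨e, -, hqe⟩ := (Nat.dvd_prime_pow hpp).mp hqdvd
  have hcard1 : 1 < Fintype.card F := Fintype.one_lt_card
  have hq2' : 2 ≤ q := by
    rw [hF] at hcard1
    by_contra hlt
    have : q = 0 ∨ q = 1 := by omega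
    rcases this with h | h <;> rw [h] at hcard1 <;> norm_num at hcard1
  have he0 : e ≠ 0 := by
    intro h
    rw [h, pow_zero] at hqe
    omega
  have hp3 : 3 ≤ p := by
    have := hpp.two_le
    omega
  have hq3 : 3 ≤ q := by
    rw [hqe]
    exact le_trans hp3 (Nat.le_self_pow he0 p)
  have hq1 : 1 ≤ q := by omega
  have hqq : q ≤ q ^ 2 := Nat.le_self_pow two_ne_zero q
  -- the prime s
  obtain ⟨s, hs, hsN, hs3⟩ := exists_prime q hq3
  haveI := Fact.mk hs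
  have hs1 : ¬ s ∣ q ^ 2 - 1 := fun h =>
    hs3 ((Nat.prime_dvd_prime_iff_eq hs Nat.prime_three).mp (nt3 q s hq1 hsN h).1)
  have hsq3 : s ∣ q ^ 3 + 1 := by
    rw [← nt1 q]
    exact hsN.mul_left _
  have hsq6 : s ∣ q ^ 6 - 1 := by
    rw [← nt2 q hq1]
    exact hsq3.mul_left _
  have hsF : ¬ s ∣ Fintype.card F := by
    rw [hF]
    intro h
    have h' : s ∣ q := hs.dvd_of_dvd_pow h
    have h3 : s ∣ q ^ 3 := dvd_pow h' (by norm_num)
    have h1 : s ∣ 1 := (Nat.dvd_add_right h3).mp hsq3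
    exact hs.one_lt.ne' (Nat.dvd_one.mp h1)
  have hord : 3 = orderOf ((Fintype.card F : ℕ) : ZMod s) := by
    rw [hF]
    have e6 : (q ^ 2) ^ 3 = q ^ 6 := by ring
    have h1 : orderOf (((q ^ 2 : ℕ)) : ZMod s) ∣ 3 :=
      (Cfsg.Agent.Helper14.SylTorus.dvd_iff s (q ^ 2) (Nat.one_le_pow _ _ hq1) 3).mp
        (by rw [e6]; exact hsq6)
    have h2 : ¬ orderOf (((q ^ 2 : ℕ)) : ZMod s) ∣ 1 := fun h => hs1 (by
      have h3 := (Cfsg.Agent.Helper14.SylTorus.dvd_iff s (q ^ 2) (Nat.one_le_pow _ _ hq1) 1).mpr h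
      rwa [pow_one] at h3)
    rcases (Nat.dvd_prime Nat.prime_three).mp h1 with h | h
    · exact absurd (h ▸ dvd_rfl) h2
    · exact h.symm
  -- Cauchy in SU_3(q)
  have hcard := Cfsg.Agent.S0278.result hF 3 (by norm_num)
  have hsG : s ∣ Nat.card (Cfsg.SU 3 F q) := by
    have h2 : (∏ i ∈ Finset.range 3, (if Even i then q ^ (i + 1) + 1 else q ^ (i + 1) - 1)) =
        (q ^ 1 + 1) * (q ^ 2 - 1) * (q ^ 3 + 1) := by
      rw [Finset.prod_range_succ, Finset.prod_range_succ, Finset.prod_range_one]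
      rw [if_pos (by decide : Even 0), if_neg (by decide : ¬ Even 1), if_pos (by decide : Even 2)]
    have h1 : s ∣ (q + 1) * Nat.card (Cfsg.SU 3 F q) := by
      rw [hcard, h2]
      exact (hsq3.mul_left _).mul_left _
    refine (hs.dvd_mul.mp h1).resolve_left (fun h => hs1 ?_)
    have h3 : q ^ 2 - 1 = (q + 1) * (q - 1) := by
      have := Nat.sq_sub_sq q 1
      simpa using this
    rw [h3]
    exact h.mul_right _
  obtain ⟨x, hx⟩ := exists_prime_orderOf_dvd_card' s hsG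
  obtain ⟨X, hXd⟩ : ∃ X : Matrix (Fin 3) (Fin 3) F,
      X = ((x : Matrix.SpecialLinearGroup (Fin 3) F) : Matrix (Fin 3) (Fin 3) F) := ⟨_, rfl⟩
  obtain ⟨σ, hσd⟩ : ∃ σ : F →+* F, σ = Cfsg.Agent.S0284.frob hF := ⟨_, rfl⟩
  have hσ : ∀ c : F, σ c = c ^ q := fun c => by rw [hσd]; rfl
  have hXU : Xᵀ * X.map σ = 1 := by
    rw [hXd, hσd]
    exact (Cfsg.Agent.S0281.mem_SU_iff hF 3 x.1).mp x.2
  have hXs : X ^ s = 1 := by
    have h1 : x ^ s = 1 := by rw [← hx]; exact pow_orderOf_eq_one x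
    have h2 := congrArg (fun y : ↥(Cfsg.SU 3 F q) =>
      ((y : Matrix.SpecialLinearGroup (Fin 3) F) : Matrix (Fin 3) (Fin 3) F)) h1
    simpa [hXd] using h2
  have hX1 : X ≠ 1 := by
    intro h
    have h1 : x = 1 := by
      apply Subtype.ext
      apply Subtype.ext
      rw [← hXd, h]
      rfl
    rw [h1, orderOf_one] at hx
    exact hs.one_lt.ne' hx.symm
  -- irreducibility of the characteristic polynomial
  obtain ⟨χ, hχd⟩ : ∃ χ : F[X], χ = X.charpoly := ⟨_, rfl⟩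
  have hχdeg : χ.natDegree = 3 := by
    rw [hχd, Matrix.charpoly_natDegree_eq_dim]
    rfl
  have hχirr : Irreducible χ := by
    apply Polynomial.irreducible_of_degree_le_three_of_not_isRoot
    · rw [hχdeg]; decide
    · intro lam hlam
      rw [hχd, IsRoot.def, Matrix.eval_charpoly] at hlam
      obtain ⟨v, hv0, hv⟩ := Matrix.exists_mulVec_eq_zero_iff.mpr hlam
      have hsc : Matrix.scalar (Fin 3) lam = lam • (1 : Matrix (Fin 3) (Fin 3) F) := by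
        ext i j
        simp [Matrix.scalar_apply, Matrix.diagonal_apply, Matrix.one_apply]
      have hXv : X *ᵥ v = lam • v := by
        rw [hsc, Matrix.sub_mulVec, Matrix.smul_mulVec, Matrix.one_mulVec] at hv
        exact (sub_eq_zero.mp hv).symm
      obtain ⟨W, hWd⟩ : ∃ W : Submodule F (Fin 3 → F), W = Submodule.span F {v} := ⟨_, rfl⟩
      have hW : ∀ w ∈ W, X *ᵥ w ∈ W := by
        intro w hw
        rw [hWd, Submodule.mem_span_singleton] at hw ⊢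
        obtain ⟨c, rfl⟩ := hw
        exact ⟨c * lam, by rw [Matrix.mulVec_smul, hXv, smul_smul]⟩
      rcases Cfsg.Agent.Helper14.PslAdj2.irr_of_ord 3 (by norm_num) s hsF hord X hXs hX1 W hW
        with h | h
      · rw [hWd, Submodule.span_singleton_eq_bot] at h
        exact hv0 h
      · have h1 : Module.finrank F W = 1 := by rw [hWd]; exact finrank_span_singleton hv0
        rw [h, finrank_top, Module.finrank_fintype_fun_eq_card, Fintype.card_fin] at h1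
        omega
  haveI : Fact (Irreducible χ) := ⟨hχirr⟩
  have hχ0 : χ ≠ 0 := hχirr.ne_zero
  have hXq : X ^ (q ^ 3 + 1) = 1 := by
    obtain ⟨c, hc⟩ := hsq3
    rw [hc, pow_mul, hXs, one_pow]
  have hXstar : (X.map σ)ᵀ = X ^ (q ^ 3) := by
    have h1 : (X.map σ)ᵀ * X = 1 := by
      have h2 := congrArg Matrix.transpose hXU
      rwa [Matrix.transpose_mul, Matrix.transpose_transpose, Matrix.transpose_one] at h2
    have h3 : X * X ^ (q ^ 3) = 1 := by rw [← pow_succ', hXq]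
    calc (X.map σ)ᵀ = (X.map σ)ᵀ * (X * X ^ (q ^ 3)) := by rw [h3, mul_one]
      _ = X ^ (q ^ 3) := by rw [← mul_assoc, h1, one_mul]
  have hcq : ∀ c : F, c ^ (q ^ 3) = c ^ q := by
    intro c
    have h1 : c ^ (q ^ 2) = c := by rw [← hF]; exact FiniteField.pow_card c
    have h2 : q ^ 3 = q ^ 2 * q := by ring
    rw [h2, pow_mul, h1]
  haveI : CharP F[X] p := charP_of_injective_algebraMap (R := F) (A := F[X])
    (by exact Polynomial.C_injective) p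
  have hstar : ∀ g : F[X], ((aeval X g).map σ)ᵀ = aeval X (g ^ (q ^ 3)) := by
    intro g
    induction g using Polynomial.induction_on' with
    | add g1 g2 h1 h2 =>
      have hq3e : q ^ 3 = p ^ (e * 3) := by rw [hqe, pow_mul]
      rw [map_add, Matrix.map_add σ (map_add σ), Matrix.transpose_add, h1, h2, hq3e,
        add_pow_char_pow, map_add]
    | monomial n c =>
      rw [monomial_pow, aeval_monomial, aeval_monomial, ← Algebra.smul_def, ← Algebra.smul_def,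
        Matrix.map_smul' σ c (X ^ n) (map_mul σ), Matrix.transpose_smul, hcq, ← hσ]
      congr 1
      have h3 : (X ^ n).map σ = (X.map σ) ^ n := by
        have h4 := map_pow (σ.mapMatrix (m := Fin 3)) X n
        simpa [RingHom.mapMatrix_apply] using h4
      rw [h3, Matrix.transpose_pow, hXstar, ← pow_mul, mul_comm]
  -- the algebra map from the field `AdjoinRoot χ`
  have haev : aeval X χ = 0 := by rw [hχd]; exact Matrix.aeval_self_charpoly X
  obtain ⟨Φ, hΦ⟩ : ∃ Φ : AdjoinRoot χ →+* Matrix (Fin 3) (Fin 3) F,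
      ∀ g : F[X], Φ (AdjoinRoot.mk χ g) = aeval X g :=
    ⟨Ideal.Quotient.lift (Ideal.span {χ})
      ((aeval X : F[X] →ₐ[F] Matrix (Fin 3) (Fin 3) F) : F[X] →+* Matrix (Fin 3) (Fin 3) F)
      (fun a ha => by
        obtain ⟨b, rfl⟩ := Ideal.mem_span_singleton.mp ha
        change aeval X (χ * b) = 0
        rw [map_mul, haev, zero_mul]), fun g => rfl⟩
  have hΦinj : Function.Injective Φ := Φ.injective
  have hΦalg : ∀ c : F, Φ (algebraMap F (AdjoinRoot χ) c) =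
      algebraMap F (Matrix (Fin 3) (Fin 3) F) c := by
    intro c
    rw [AdjoinRoot.algebraMap_eq, ← AdjoinRoot.mk_C, hΦ, aeval_C]
  haveI : Module.Finite F (AdjoinRoot χ) := (AdjoinRoot.powerBasis hχ0).finite
  haveI : Finite (AdjoinRoot χ) := Module.finite_of_finite F
  haveI : Fintype (AdjoinRoot χ) := Fintype.ofFinite _
  have hLcard : Fintype.card (AdjoinRoot χ) = q ^ 6 := by
    rw [Module.card_eq_pow_finrank (K := F) (V := AdjoinRoot χ),
      (AdjoinRoot.powerBasis hχ0).finrank, AdjoinRoot.powerBasis_dim, hχdeg, hF, ← pow_mul]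
  obtain ⟨ω, hω⟩ := IsCyclic.exists_ofOrder_eq_natCard (α := (AdjoinRoot χ)ˣ)
  have hωord : orderOf ω = q ^ 6 - 1 := by
    rw [hω, Nat.card_eq_fintype_card, Fintype.card_units, hLcard]
  have hω6 : (ω : AdjoinRoot χ) ^ (q ^ 6 - 1) = 1 := by
    rw [← hωord, ← Units.val_pow_eq_pow_val, pow_orderOf_eq_one, Units.val_one]
  have hunit : ∀ g : F[X], (AdjoinRoot.mk χ g) ^ (q ^ 3 + 1) = 1 →
      ((aeval X g).map σ)ᵀ * aeval X g = 1 := by
    intro g hg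
    rw [hstar, ← map_mul, ← pow_succ, ← hΦ, map_pow, hg, map_one]
  obtain ⟨g0, hg0⟩ := AdjoinRoot.mk_surjective (g := χ) ((ω : AdjoinRoot χ) ^ (q ^ 3 - 1))
  obtain ⟨Y0, hY0⟩ : ∃ Y0 : Matrix (Fin 3) (Fin 3) F, Y0 = aeval X g0 := ⟨_, rfl⟩
  have hY0U : (Y0.map σ)ᵀ * Y0 = 1 := by
    rw [hY0]
    apply hunit
    rw [hg0, ← pow_mul, nt2 q hq1, hω6]
  have hsq1 : q ^ 2 - 1 = (q + 1) * (q - 1) := by
    have := Nat.sq_sub_sq q 1
    simpa using this
  refine ⟨Y0 ^ (q + 1), ?_, ?_, ?_, ?_⟩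
  · have h1 : ((Y0 ^ (q + 1)).map σ)ᵀ * Y0 ^ (q + 1) = 1 := by
      rw [hY0, ← map_pow]
      apply hunit
      rw [map_pow, hg0, ← pow_mul, ← pow_mul]
      have h2 : (q ^ 3 - 1) * ((q + 1) * (q ^ 3 + 1)) = (q ^ 6 - 1) * (q + 1) := by
        rw [← nt2 q hq1]; ring
      rw [h2, pow_mul, hω6, one_pow]
    have h2 := congrArg Matrix.transpose h1
    rw [Matrix.transpose_mul, Matrix.transpose_transpose, Matrix.transpose_one] at h2
    have h3 : (Y0 ^ (q + 1)).map (fun x => x ^ q) = (Y0 ^ (q + 1)).map σ := by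
      ext i j
      simp [Matrix.map_apply, hσ]
    rw [h3]
    exact h2
  · have h1 := congrArg Matrix.det hY0U
    rw [Matrix.det_mul, Matrix.det_transpose, Matrix.det_one] at h1
    have h2 : (Y0.map σ).det = σ Y0.det := by
      rw [RingHom.map_det σ Y0]
      rfl
    rw [h2, hσ, ← pow_succ] at h1
    rw [Matrix.det_pow, h1]
  · obtain ⟨N, hN⟩ : ∃ N, N = (q ^ 2 - q + 1) / Nat.gcd 3 (q + 1) := ⟨_, rfl⟩
    rw [← hN]
    have hNd : N * Nat.gcd 3 (q + 1) = q ^ 2 - q + 1 := by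
      rw [hN]; exact Nat.div_mul_cancel (nt5 q)
    have hd0 : 0 < Nat.gcd 3 (q + 1) := Nat.gcd_pos_of_pos_left _ (by norm_num)
    have hd1 : Nat.gcd 3 (q + 1) ∣ Fintype.card F - 1 := by
      rw [hF, hsq1]
      exact (Nat.gcd_dvd_right 3 (q + 1)).mul_right _
    have hz : ((AdjoinRoot.mk χ g0) ^ ((q + 1) * N)) ^ Nat.gcd 3 (q + 1) = 1 := by
      rw [hg0, ← pow_mul, ← pow_mul]
      have h2 : (q ^ 3 - 1) * ((q + 1) * N * Nat.gcd 3 (q + 1)) = q ^ 6 - 1 := by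
        rw [mul_assoc (q + 1), hNd, nt1 q, nt2 q hq1]
      rw [h2, hω6]
    obtain ⟨c, hc⟩ := Cfsg.Agent.Helper14.Psl3c.root_mem (F := F) (K := AdjoinRoot χ) _ hd0 hd1 _ hz
    refine ⟨c, ?_⟩
    rw [hY0, ← pow_mul, ← map_pow, ← hΦ, map_pow, ← hc, hΦalg,
      Algebra.algebraMap_eq_smul_one]
  · rintro j ⟨c, hc⟩
    have h1 : (AdjoinRoot.mk χ g0) ^ ((q + 1) * j) = algebraMap F (AdjoinRoot χ) c := by
      apply hΦinj
      rw [← map_pow (AdjoinRoot.mk χ), hΦ, map_pow, pow_mul, ← hY0, hc, hΦalg,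
        Algebra.algebraMap_eq_smul_one]
    have hc0 : c ≠ 0 := by
      intro h
      rw [h, map_zero, hg0] at h1
      have h2 : ((ω : AdjoinRoot χ) ^ (q ^ 3 - 1)) ^ ((q + 1) * j) ≠ 0 :=
        pow_ne_zero _ (pow_ne_zero _ (Units.ne_zero ω))
      exact h2 h1
    have h2 : (ω : AdjoinRoot χ) ^ ((q ^ 3 - 1) * ((q + 1) * j) * (q ^ 2 - 1)) = 1 := by
      rw [pow_mul, pow_mul, ← hg0, h1, ← map_pow, ← hF,
        FiniteField.pow_card_sub_one_eq_one c hc0, map_one]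
    have h3 : q ^ 6 - 1 ∣ (q ^ 3 - 1) * ((q + 1) * j) * (q ^ 2 - 1) := by
      rw [← hωord]
      apply orderOf_dvd_of_pow_eq_one
      apply Units.ext
      rw [Units.val_pow_eq_pow_val, Units.val_one]
      exact h2
    have h4 : q ^ 2 - q + 1 ∣ j * (q ^ 2 - 1) := by
      have h5 : q ^ 6 - 1 = (q ^ 3 - 1) * (q + 1) * (q ^ 2 - q + 1) := by
        rw [mul_assoc, nt1 q, nt2 q hq1]
      have h6 : (q ^ 3 - 1) * ((q + 1) * j) * (q ^ 2 - 1) =
          (q ^ 3 - 1) * (q + 1) * (j * (q ^ 2 - 1)) := by ring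
      rw [h5, h6] at h3
      have hpos : 0 < (q ^ 3 - 1) * (q + 1) :=
        Nat.mul_pos (Nat.sub_pos_of_lt (Nat.one_lt_pow (by norm_num) (by omega))) (by omega)
      exact Nat.dvd_of_mul_dvd_mul_left hpos h3
    obtain ⟨g, hgd⟩ : ∃ g, g = Nat.gcd (q ^ 2 - q + 1) (q ^ 2 - 1) := ⟨_, rfl⟩
    have hgN : g ∣ q ^ 2 - q + 1 := hgd ▸ Nat.gcd_dvd_left _ _
    have hgq : g ∣ q ^ 2 - 1 := hgd ▸ Nat.gcd_dvd_right _ _
    have hgpos : 0 < g := by
      rw [hgd]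
      exact Nat.gcd_pos_of_pos_left _ (by omega)
    have hgd3 := nt3 q g hq1 hgN hgq
    have hg_d : g ∣ Nat.gcd 3 (q + 1) := Nat.dvd_gcd hgd3.1 hgd3.2
    have h7 : (q ^ 2 - q + 1) / g ∣ j := by
      have hcop : Nat.Coprime ((q ^ 2 - q + 1) / g) ((q ^ 2 - 1) / g) := by
        rw [hgd]
        exact Nat.coprime_div_gcd_div_gcd (hgd ▸ hgpos)
      apply hcop.dvd_of_dvd_mul_right
      apply Nat.dvd_of_mul_dvd_mul_left hgpos
      rw [Nat.mul_div_cancel' hgN, mul_left_comm, Nat.mul_div_cancel' hgq]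
      exact h4
    exact dvd_trans (Nat.div_dvd_div_left (nt5 q) hg_d) h7

end Cfsg.Agent.Helper10.Psu3x
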