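import Mathlib
import Cfsg.Agent.Helper2.SylU

set_option autoImplicit false

namespace Cfsg.Agent.Helper10.S4349f

open Cfsg.Agent.Helper2.SylU

variable {α : Type*} [Fintype α] [DecidableEq α]

theorem good_of_cycleType (x : Equiv.Perm α) (h1 : Fintype.card α ≤ x.support.card + 2)
    (h2 : x.cycleType.Nodup) : Good x Finset.univ := by
  constructor
  · intro a _ b _ ha hb hcard
    have hca : x.cycleOf a ∈ x.cycleFactorsFinset :=
      Equiv.Perm.cycleOf_mem_cycleFactorsFinset_iff.mpr (Equiv.Perm.mem_support.mpr ha)
    have hcb : x.cycleOf b ∈ x.cycleFactorsFinset :=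
      Equiv.Perm.cycleOf_mem_cycleFactorsFinset_iff.mpr (Equiv.Perm.mem_support.mpr hb)
    have heq : x.cycleOf a = x.cycleOf b := by
      rw [Equiv.Perm.cycleType_def] at h2
      exact Multiset.inj_on_of_nodup_map h2 _ hca _ hcb hcard
    have hmv : (x.cycleOf a) b ≠ b := by
      rw [heq, Equiv.Perm.cycleOf_apply_self]
      exact hb
    by_contra hns
    exact hmv (Equiv.Perm.cycleOf_apply_of_not_sameCycle hns)
  · intro a _ b _ c _ ha hb hc
    by_contra hne
    push Not at hne
    have hsub : ({a, b, c} : Finset α) ⊆ Finset.univ \ x.support := by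
      intro y hy
      simp only [Finset.mem_insert, Finset.mem_singleton] at hy
      simp only [Finset.mem_sdiff, Finset.mem_univ, true_and, Equiv.Perm.mem_support, not_not]
      rcases hy with rfl | rfl | rfl
      · exact ha
      · exact hb
      · exact hc
    have hcard3 : ({a, b, c} : Finset α).card = 3 :=
      Finset.card_eq_three.mpr ⟨a, b, c, hne.1, hne.2.1, hne.2.2, rfl⟩
    have hle := Finset.card_le_card hsub
    have hsd : (Finset.univ \ x.support).card = Fintype.card α - x.support.card := by
      rw [Finset.card_sdiff_of_subset (Finset.subset_univ _), Finset.card_univ]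
    omega

end Cfsg.Agent.Helper10.S4349f
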