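import Mathlib
import Cfsg.Agent.Helper2.SylU

set_option autoImplicit false

namespace Cfsg.Agent.Helper10.S4349h

open Cfsg.Agent.Helper2.SylU

variable {α : Type*} [Fintype α] [DecidableEq α]

theorem card_orb (D : Subgroup (Equiv.Perm α)) (hD : IsPGroup 2 D) (O : Finset α)
    (hO : IsOrb D O) (a : α) (ha : a ∈ O) : ∃ b : ℕ, O.card = 2 ^ b := by
  have hset : (MulAction.orbit D a : Set α) = ↑O := by
    ext c
    constructor
    · rintro ⟨d, rfl⟩
      exact hO.1 d.1 d.2 a ha
    · intro hc
      obtain ⟨d, hd, hdc⟩ := hO.2 a ha c hc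
      exact ⟨⟨d, hd⟩, hdc⟩
  obtain ⟨n, hn⟩ := hD.card_orbit a
  refine ⟨n, ?_⟩
  rw [hset] at hn
  rw [← hn]
  simp

theorem sum_cb (b : ℕ) (hb : 1 ≤ b) :
    ∑ j ∈ Finset.range b, (if j = 0 then 2 else 2 ^ j) = 2 ^ b := by
  induction b, hb using Nat.le_induction with
  | base => simp
  | succ n hn ih =>
    rw [Finset.sum_range_succ, ih, if_neg (by omega)]
    ring

theorem trans_or_fix (D : Subgroup (Equiv.Perm α)) (hD : IsPGroup 2 D) (O : Finset α)
    (hO : IsOrb D O) (y : Equiv.Perm α) (hy : y ∈ D) (hgood : Good y O) : TransOrFix y O := by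
  classical
  rcases O.eq_empty_or_nonempty with hemp | ⟨a0, ha0⟩
  · left
    intro a ha
    rw [hemp] at ha
    exact absurd ha (Finset.notMem_empty _)
  obtain ⟨b, hb⟩ := card_orb D hD O hO a0 ha0
  by_cases hb0 : b = 0
  · left
    intro c hc d hd
    have hcd : c = d := Finset.card_le_one.mp (by rw [hb, hb0]; simp) c hc d hd
    rw [hcd]
  have hb1 : 1 ≤ b := by omega
  -- invariance under y
  have hinv : ∀ a ∈ O, ∀ c, y.SameCycle a c → c ∈ O := by
    rintro a ha c ⟨i, hi⟩
    rw [← hi]
    exact hO.1 (y ^ i) (D.zpow_mem hy i) a ha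
  have hsub : ∀ a ∈ O, (y.cycleOf a).support ⊆ O := by
    intro a ha c hc
    exact hinv a ha c (Equiv.Perm.mem_support_cycleOf_iff.mp hc).1
  obtain ⟨k, hk⟩ : ∃ k, orderOf y = 2 ^ k := by
    obtain ⟨k, hk⟩ := hD ⟨y, hy⟩
    have hyk : y ^ 2 ^ k = 1 := by
      have := congrArg (Subtype.val) hk
      simpa using this
    obtain ⟨j, _, hj⟩ := (Nat.dvd_prime_pow Nat.prime_two).mp (orderOf_dvd_of_pow_eq_one hyk)
    exact ⟨j, hj⟩
  have hs : ∀ a ∈ O, y a ≠ a →
      ∃ j, 1 ≤ j ∧ j ≤ b ∧ (y.cycleOf a).support.card = 2 ^ j := by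
    intro a ha hmv
    have hmem : (y.cycleOf a).support.card ∈ y.cycleType := by
      rw [Equiv.Perm.cycleType_def]
      exact Multiset.mem_map_of_mem _
        (Equiv.Perm.cycleOf_mem_cycleFactorsFinset_iff.mpr (Equiv.Perm.mem_support.mpr hmv))
    have hdvd := Equiv.Perm.dvd_of_mem_cycleType hmem
    rw [hk] at hdvd
    obtain ⟨j, hjk, hj⟩ := (Nat.dvd_prime_pow Nat.prime_two).mp hdvd
    have h2 : 2 ≤ (y.cycleOf a).support.card := Equiv.Perm.two_le_of_mem_cycleType hmem
    have hle : (y.cycleOf a).support.card ≤ O.card := Finset.card_le_card (hsub a ha)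
    refine ⟨j, ?_, ?_, hj⟩
    · by_contra h
      have hj0 : j = 0 := by omega
      rw [hj, hj0] at h2
      norm_num at h2
    · rw [hj, hb] at hle
      exact (Nat.pow_le_pow_iff_right (by norm_num)).mp hle
  by_cases htr : ∃ a ∈ O, (y.cycleOf a).support.card = 2 ^ b
  · left
    obtain ⟨a, ha, hca⟩ := htr
    have heq : (y.cycleOf a).support = O :=
      Finset.eq_of_subset_of_card_le (hsub a ha) (by rw [hca, hb])
    intro c hc d hd
    rw [← heq] at hc hd
    have h1 := (Equiv.Perm.mem_support_cycleOf_iff.mp hc).1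
    have h2 := (Equiv.Perm.mem_support_cycleOf_iff.mp hd).1
    exact h1.symm.trans h2
  push Not at htr
  set idx : α → ℕ := fun a => Nat.log 2 (y.cycleOf a).support.card with hidx
  have hfixidx : ∀ a, y a = a → idx a = 0 := by
    intro a hfa
    have h1 : y.cycleOf a = 1 := (Equiv.Perm.cycleOf_eq_one_iff y).mpr hfa
    simp [hidx, h1]
  have hmvidx : ∀ a ∈ O, y a ≠ a →
      1 ≤ idx a ∧ idx a < b ∧ (y.cycleOf a).support.card = 2 ^ idx a := by
    intro a ha hmv
    obtain ⟨j, h1, h2, h3⟩ := hs a ha hmv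
    have hij : idx a = j := by
      simp only [hidx]
      rw [h3]
      exact Nat.log_pow (by norm_num) j
    have hjb : j ≠ b := fun h => htr a ha (by rw [h3, h])
    rw [hij]
    exact ⟨h1, by omega, h3⟩
  have hrange : ∀ a ∈ O, idx a ∈ Finset.range b := by
    intro a ha
    rw [Finset.mem_range]
    by_cases hfa : y a = a
    · rw [hfixidx a hfa]
      omega
    · exact (hmvidx a ha hfa).2.1
  have hcardsum := Finset.card_eq_sum_card_fiberwise hrange
  have hbound : ∀ j ∈ Finset.range b,
      (O.filter (fun a => idx a = j)).card ≤ (if j = 0 then 2 else 2 ^ j) := by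
    intro j _
    by_cases hj0 : j = 0
    · rw [if_pos hj0]
      by_contra hgt
      push Not at hgt
      obtain ⟨p, hp, q, hq, r, hr, hpq, hpr, hqr⟩ := Finset.two_lt_card.mp hgt
      rw [Finset.mem_filter] at hp hq hr
      have fixp : y p = p := by
        by_contra h
        have := (hmvidx p hp.1 h).1
        omega
      have fixq : y q = q := by
        by_contra h
        have := (hmvidx q hq.1 h).1
        omega
      have fixr : y r = r := by
        by_contra h
        have := (hmvidx r hr.1 h).1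
        omega
      rcases hgood.2 p hp.1 q hq.1 r hr.1 fixp fixq fixr with h | h | h
      exacts [hpq h, hpr h, hqr h]
    · rw [if_neg hj0]
      rcases (O.filter (fun a => idx a = j)).eq_empty_or_nonempty with he | ⟨a1, ha1⟩
      · rw [he]
        simp
      · rw [Finset.mem_filter] at ha1
        have hmv1 : y a1 ≠ a1 := fun h => hj0 (by rw [← ha1.2, hfixidx a1 h])
        have hc1 := (hmvidx a1 ha1.1 hmv1).2.2
        rw [ha1.2] at hc1
        rw [← hc1]
        apply Finset.card_le_card
        intro a ha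
        rw [Finset.mem_filter] at ha
        have hmv : y a ≠ a := fun h => hj0 (by rw [← ha.2, hfixidx a h])
        have hc := (hmvidx a ha.1 hmv).2.2
        rw [ha.2] at hc
        have hsc := hgood.1 a1 ha1.1 a ha.1 hmv1 hmv (by rw [hc1, hc])
        exact Equiv.Perm.mem_support_cycleOf_iff.mpr ⟨hsc, Equiv.Perm.mem_support.mpr hmv1⟩
  have hsumc := sum_cb b hb1
  have heqall := (Finset.sum_eq_sum_iff_of_le hbound).mp (by rw [← hcardsum, hsumc, hb])
  right
  have h0 : (O.filter (fun a => idx a = 0)).card = 2 := by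
    have h := heqall 0 (Finset.mem_range.mpr hb1)
    rw [h]
    simp
  obtain ⟨p, q, hpq, hpqeq⟩ := Finset.card_eq_two.mp h0
  have hp : p ∈ O.filter (fun a => idx a = 0) := by
    rw [hpqeq]
    simp
  have hq : q ∈ O.filter (fun a => idx a = 0) := by
    rw [hpqeq]
    simp
  rw [Finset.mem_filter] at hp hq
  have fixp : y p = p := by
    by_contra h
    have := (hmvidx p hp.1 h).1
    omega
  have fixq : y q = q := by
    by_contra h
    have := (hmvidx q hq.1 h).1
    omega
  refine ⟨p, hp.1, q, hq.1, hpq, fixp, fixq, ?_⟩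
  by_cases hb2 : b = 1
  · refine ⟨{p}, by simpa using hp.1, by rw [hb, hb2]; simp, ?_, ?_⟩
    · intro c hc c' hc'
      rw [Finset.mem_singleton] at hc hc'
      rw [hc, hc']
    · intro c hc
      rw [Finset.mem_singleton] at hc ⊢
      rw [hc, fixp]
  · have hb3 : 2 ≤ b := by omega
    have hC : (O.filter (fun a => idx a = b - 1)).card = 2 ^ (b - 1) := by
      have h := heqall (b - 1) (Finset.mem_range.mpr (by omega))
      rw [h]
      exact if_neg (by omega)
    refine ⟨O.filter (fun a => idx a = b - 1), Finset.filter_subset _ _, ?_, ?_, ?_⟩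
    · rw [hC, hb, ← pow_succ']
      congr 1
      omega
    · intro c hc c' hc'
      rw [Finset.mem_filter] at hc hc'
      have hmv : y c ≠ c := fun h => by
        have := hfixidx c h
        omega
      have hmv' : y c' ≠ c' := fun h => by
        have := hfixidx c' h
        omega
      have e1 := (hmvidx c hc.1 hmv).2.2
      have e2 := (hmvidx c' hc'.1 hmv').2.2
      exact hgood.1 c hc.1 c' hc'.1 hmv hmv' (by rw [e1, e2, hc.2, hc'.2])
    · intro c hc
      rw [Finset.mem_filter] at hc ⊢
      refine ⟨hO.1 y hy c hc.1, ?_⟩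
      have hcyc : y.cycleOf (y c) = y.cycleOf c := Equiv.Perm.cycleOf_self_apply y c
      have hidxeq : idx (y c) = idx c := by
        simp only [hidx]
        rw [hcyc]
      rw [hidxeq]
      exact hc.2

end Cfsg.Agent.Helper10.S4349h
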