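import Mathlib
import Cfsg.Prelude.Def_CaseTheorems
import Cfsg.Prelude.Def_OddOrderLocal
import Cfsg.Agent.Helper7.Hup
import Cfsg.Agent.Helper10.KJ2

set_option autoImplicit false

/-! # 2-groups of sectional rank at most 2 (helper10): basic tools

`SR G` is a concrete form of "sectional 2-rank at most 2"; `ph` is the pigeonhole lemma
extracting a dependency among three elements modulo a central subgroup. -/

namespace Cfsg.Agent.Helper10.SR2

open Subgroup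
open scoped Pointwise

universe u

/-- concrete sectional 2-rank at most 2 -/
def SR (G : Type*) [Group G] : Prop :=
  ∀ K N : Subgroup G, N ≤ K → (∀ x ∈ K, ∀ n ∈ N, x * n * x⁻¹ ∈ N) → (∀ x ∈ K, x ^ 2 ∈ N) →
    N.relIndex K ≤ 4

theorem sr_of_sectional {G : Type*} [Group G] [Finite G] (h : Cfsg.SectionalPRankLE 2 2 G) :
    SR G := by
  intro K N hNK hnorm hsq
  have : (N.subgroupOf K).Normal := by
    constructor
    intro n hn g
    rw [Subgroup.mem_subgroupOf] at hn ⊢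
    simpa using hnorm g g.2 n hn
  have h1 := h K (N.subgroupOf K)
  have hsq' : ∀ q : ↥K ⧸ N.subgroupOf K, q ^ 2 = 1 := by
    intro q
    obtain ⟨k, rfl⟩ := QuotientGroup.mk_surjective q
    rw [← QuotientGroup.mk_pow, QuotientGroup.eq_one_iff, Subgroup.mem_subgroupOf]
    simpa using hsq k k.2
  have key : ∀ w : ↥K ⧸ N.subgroupOf K, w⁻¹ = w := fun w =>
    inv_eq_of_mul_eq_one_left (by rw [← pow_two]; exact hsq' w)
  have hcomm : ∀ x y : ↥K ⧸ N.subgroupOf K, x * y = y * x := by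
    intro x y
    calc x * y = (x * y)⁻¹ := (key _).symm
      _ = y⁻¹ * x⁻¹ := mul_inv_rev x y
      _ = y * x := by rw [key, key]
  have h2 := h1 ⊤ ((KJ.isMulComm_iff _).2 (fun a _ b _ => hcomm a b)) (fun a _ => hsq' a)
  rw [Subgroup.card_top] at h2
  rw [Subgroup.relIndex, Subgroup.index_eq_card]
  norm_num at h2
  exact h2

theorem sr_quot {G : Type*} [Group G] (h : SR G) (T : Subgroup G) [T.Normal] : SR (G ⧸ T) := by
  intro K N hNK hnorm hsq
  have h1 := h (K.comap (QuotientGroup.mk' T)) (N.comap (QuotientGroup.mk' T))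
    (Subgroup.comap_mono hNK)
    (fun x hx n hn => by
      rw [Subgroup.mem_comap] at hx hn ⊢
      rw [map_mul, map_mul, map_inv]
      exact hnorm _ hx _ hn)
    (fun x hx => by
      rw [Subgroup.mem_comap] at hx ⊢
      rw [map_pow]; exact hsq _ hx)
  rwa [Subgroup.relIndex_comap,
    Subgroup.map_comap_eq_self_of_surjective (QuotientGroup.mk'_surjective T)] at h1

theorem mem_sup_zp {G : Type*} [Group G] (N : Subgroup G) (x g : G)
    (hx : ∀ n ∈ N, n * x = x * n) (h : g ∈ N ⊔ zpowers x) :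
    ∃ n ∈ N, ∃ k : ℤ, g = n * x ^ k := by
  have hle : zpowers x ≤ normalizer (N : Set G) := by
    rw [zpowers_le, mem_normalizer_iff]
    intro n
    constructor
    · intro hn
      rw [← hx n hn, mul_inv_cancel_right]; exact hn
    · intro hn
      have h2 := hx _ hn
      rw [inv_mul_cancel_right] at h2
      have h3 : n = x * n * x⁻¹ := mul_left_cancel h2
      rw [h3]; exact hn
  have hset := Subgroup.coe_mul_of_right_le_normalizer_left N (zpowers x) hle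
  have hg : g ∈ ((N ⊔ zpowers x : Subgroup G) : Set G) := h
  rw [hset] at hg
  obtain ⟨n, hn, y, hy, rfl⟩ := Set.mem_mul.1 hg
  obtain ⟨k, rfl⟩ := mem_zpowers_iff.1 hy
  exact ⟨n, hn, k, rfl⟩

theorem mem_zpowers_of_odd {G : Type*} [Group G] (hG : IsPGroup 2 G) (a : G) (e : ℤ)
    (he : Odd e) : a ∈ zpowers (a ^ e) := by
  obtain ⟨m, hm⟩ := hG a
  have hcop : IsCoprime e ((2 : ℤ) ^ m) := by
    apply IsCoprime.pow_right
    obtain ⟨k, rfl⟩ := he
    exact ⟨1, -k, by ring⟩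
  obtain ⟨u, v, huv⟩ := hcop
  rw [mem_zpowers_iff]
  refine ⟨u, ?_⟩
  have h0 : a ^ ((2 : ℤ) ^ m) = 1 := by
    have : ((2 : ℤ) ^ m) = ((2 ^ m : ℕ) : ℤ) := by push_cast; rfl
    rw [this, zpow_natCast, hm]
  have h1 : a ^ ((2 : ℤ) ^ m * v) = 1 := by rw [zpow_mul, h0, one_zpow]
  have h2 : a ^ (e * u) * a ^ ((2 : ℤ) ^ m * v) = a := by
    rw [← zpow_add]
    have : e * u + (2 : ℤ) ^ m * v = 1 := by linarith
    rw [this, zpow_one]
  rw [h1, mul_one, zpow_mul] at h2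
  exact h2

theorem mc_of_gen {G : Type*} [Group G] [Finite G] (x y : G) (hn : (zpowers x).Normal)
    (hgen : closure ({x, y} : Set G) = ⊤) : Cfsg.Agent.Helper8.Meta.MC x y := by
  refine ⟨hn, fun g => ?_⟩
  have := hn
  have hg : g ∈ zpowers x ⊔ zpowers y := by
    have : closure ({x, y} : Set G) = zpowers x ⊔ zpowers y := by
      rw [← Set.singleton_union, Subgroup.closure_union, zpowers_eq_closure, zpowers_eq_closure]
    rw [← this, hgen]; exact mem_top g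
  obtain ⟨u, hu, v, hv, rfl⟩ := mem_sup_of_normal_left.1 hg
  obtain ⟨i, hi⟩ := (Submonoid.mem_powers_iff _ _).mp ((mem_powers_iff_mem_zpowers).mpr hu)
  obtain ⟨j, hj⟩ := (Submonoid.mem_powers_iff _ _).mp ((mem_powers_iff_mem_zpowers).mpr hv)
  exact ⟨i, j, by rw [hi, hj]⟩

theorem normal_of_comm {G : Type*} [Group G] (x : G) (C : Subgroup G) (hC : C ≤ zpowers x)
    (hcomm : ∀ u v : G, u * v * u⁻¹ * v⁻¹ ∈ C) : (zpowers x).Normal := by
  constructor
  intro n hn g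
  have h1 := hC (hcomm g n)
  have h2 := (zpowers x).mul_mem h1 hn
  rwa [inv_mul_cancel_right] at h2

/-- pigeonhole: three elements of exponent 2 modulo a central subgroup `N`, the first two central -/
theorem ph {G : Type*} [Group G] [Finite G] (hG : IsPGroup 2 G) (hsr : SR G) (N : Subgroup G)
    (x₁ x₂ x₃ : G) (hN : N ≤ center G) (h1 : x₁ ∈ center G) (h2 : x₂ ∈ center G)
    (s1 : x₁ ^ 2 ∈ N) (s2 : x₂ ^ 2 ∈ N) (s3 : x₃ ^ 2 ∈ N) :
    x₁ ∈ N ∨ x₂ ∈ N ⊔ zpowers x₁ ∨ x₃ ∈ (N ⊔ zpowers x₁) ⊔ zpowers x₂ := by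
  by_contra hcon
  push Not at hcon
  obtain ⟨n1, n2, n3⟩ := hcon
  obtain ⟨N₁, hN₁⟩ : ∃ X, X = N ⊔ zpowers x₁ := ⟨_, rfl⟩
  obtain ⟨N₂, hN₂⟩ : ∃ X, X = N₁ ⊔ zpowers x₂ := ⟨_, rfl⟩
  obtain ⟨K, hK⟩ : ∃ X, X = N₂ ⊔ zpowers x₃ := ⟨_, rfl⟩
  rw [← hN₁] at n2 n3
  rw [← hN₂] at n3
  have hN₁c : N₁ ≤ center G := by
    rw [hN₁]; exact sup_le hN (zpowers_le.2 h1)
  have hN₂c : N₂ ≤ center G := by
    rw [hN₂]; exact sup_le hN₁c (zpowers_le.2 h2)
  have hKab : ∀ a ∈ K, ∀ b ∈ K, a * b = b * a := by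
    rw [hK]
    apply KJ.comm_sup_zpowers
    · intro a ha a' _
      exact ((mem_center_iff.1 (hN₂c ha)) a').symm
    · intro a ha
      exact ((mem_center_iff.1 (hN₂c ha)) x₃).symm
  have l01 : N ≤ N₁ := by rw [hN₁]; exact le_sup_left
  have l12 : N₁ ≤ N₂ := by rw [hN₂]; exact le_sup_left
  have l23 : N₂ ≤ K := by rw [hK]; exact le_sup_left
  have hNK : N ≤ K := l01.trans (l12.trans l23)
  have hx1 : x₁ ∈ N₁ := by rw [hN₁]; exact mem_sup_right (mem_zpowers x₁)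
  have hx2 : x₂ ∈ N₂ := by rw [hN₂]; exact mem_sup_right (mem_zpowers x₂)
  have hx3 : x₃ ∈ K := by rw [hK]; exact mem_sup_right (mem_zpowers x₃)
  obtain ⟨M, hM⟩ : ∃ M : Subgroup G, ∀ g, g ∈ M ↔ (g ∈ K ∧ g ^ 2 ∈ N) :=
    ⟨{ carrier := {g | g ∈ K ∧ g ^ 2 ∈ N}
       mul_mem' := by
         rintro g h ⟨hg, hg2⟩ ⟨hh, hh2⟩
         refine ⟨K.mul_mem hg hh, ?_⟩
         have : (g * h) ^ 2 = g ^ 2 * h ^ 2 := (show Commute g h from hKab g hg h hh).mul_pow 2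
         rw [this]; exact N.mul_mem hg2 hh2
       one_mem' := ⟨K.one_mem, by rw [one_pow]; exact N.one_mem⟩
       inv_mem' := by
         rintro g ⟨hg, hg2⟩
         exact ⟨K.inv_mem hg, by rw [inv_pow]; exact N.inv_mem hg2⟩ }, fun g => Iff.rfl⟩
  have hKM : K ≤ M := by
    have a0 : N ≤ M := fun n hn => (hM n).2 ⟨hNK hn, N.pow_mem hn 2⟩
    have a1 : x₁ ∈ M := (hM _).2 ⟨l12.trans l23 hx1, s1⟩
    have a2 : x₂ ∈ M := (hM _).2 ⟨l23 hx2, s2⟩
    have a3 : x₃ ∈ M := (hM _).2 ⟨hx3, s3⟩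
    rw [hK, hN₂, hN₁]
    exact sup_le (sup_le (sup_le a0 (zpowers_le.2 a1)) (zpowers_le.2 a2)) (zpowers_le.2 a3)
  have hr := hsr K N hNK
    (fun x _ n hn => by
      rw [(mem_center_iff.1 (hN hn)) x, mul_inv_cancel_right]; exact hn)
    (fun x hx => ((hM x).1 (hKM hx)).2)
  have hcard := KJ.card_mul_relIndex' hNK
  have c1 : N < N₁ := lt_of_le_of_ne l01 (fun h => n1 (by rw [h]; exact hx1))
  have c2 : N₁ < N₂ := lt_of_le_of_ne l12 (fun h => n2 (by rw [h]; exact hx2))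
  have c3 : N₂ < K := lt_of_le_of_ne l23 (fun h => n3 (by rw [h]; exact hx3))
  have d1 := KJ.card_lt_pgroup hG c1
  have d2 := KJ.card_lt_pgroup hG c2
  have d3 := KJ.card_lt_pgroup hG c3
  have hpos : 0 < Nat.card N := Nat.card_pos
  have : Nat.card K ≤ Nat.card N * 4 := by
    rw [← hcard]; exact Nat.mul_le_mul_left _ hr
  omega

theorem comm_cancel {C : Type*} [Group C] [IsMulCommutative C] (P Q R Z : C) :
    R⁻¹ * P⁻¹ * (P * Q * Z * R * Q⁻¹) = Z := by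
  have : R⁻¹ * P⁻¹ * (P * Q * Z * R * Q⁻¹) = (R⁻¹ * R) * (P⁻¹ * P) * (Q * Q⁻¹) * Z := by ac_rfl
  rw [this]; simp

theorem central_cancel {G : Type*} [Group G] (P Q R Z : G) (hP : P ∈ center G)
    (hQ : Q ∈ center G) (hR : R ∈ center G) (hZ : Z ∈ center G) :
    R⁻¹ * P⁻¹ * (P * Q * Z * R * Q⁻¹) = Z :=
  congrArg Subtype.val (comm_cancel (⟨P, hP⟩ : center G) ⟨Q, hQ⟩ ⟨R, hR⟩ ⟨Z, hZ⟩)

theorem zpow_pow_comm {G : Type*} [Group G] (a : G) (i : ℤ) (n : ℕ) :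
    (a ^ i) ^ n = (a ^ n) ^ i := by
  rw [← zpow_natCast, ← zpow_mul, mul_comm, zpow_mul, zpow_natCast]

theorem odd_form {G : Type*} [Group G] (a : G) (i : ℤ) :
    ((a ^ 2) ^ i)⁻¹ * a = a ^ (1 - 2 * i) := by
  rw [sub_eq_neg_add, zpow_add, zpow_neg, zpow_mul, zpow_one, zpow_ofNat]

theorem odd_one_sub (i : ℤ) : Odd (1 - 2 * i) := ⟨-i, by ring⟩

end Cfsg.Agent.Helper10.SR2
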