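import Mathlib
import Cfsg.Agent.Helper10.SR2a

set_option autoImplicit false

/-! # 2-groups of sectional rank at most 2 (helper10): the class-2 endgame

Context: `z` a central involution with all commutators in `⟨z⟩`. -/

namespace Cfsg.Agent.Helper10.SR2

open Subgroup
open Cfsg.Agent.Helper8.Meta (MC)

theorem pow_two_two {G : Type*} [Monoid G] (x : G) : (x ^ 2) ^ 2 = x ^ 4 := by
  rw [← pow_mul]

theorem zp2 {G : Type*} [Group G] {z : G} (hz2 : z ^ 2 = 1) {t : G} (ht : t ∈ zpowers z) :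
    t = 1 ∨ t = z := by
  obtain ⟨k, rfl⟩ := mem_zpowers_iff.1 ht
  have hz2' : z ^ (2 : ℤ) = 1 := (zpow_ofNat z 2).trans hz2
  rcases Int.even_or_odd' k with ⟨r, rfl | rfl⟩
  · left; rw [zpow_mul, hz2', one_zpow]
  · right; rw [zpow_add, zpow_mul, hz2', one_zpow, one_mul, zpow_one]

theorem comm_cases {G : Type*} [Group G] {z : G} (hz2 : z ^ 2 = 1)
    (hcomm : ∀ x y : G, x * y * x⁻¹ * y⁻¹ ∈ zpowers z) (x y : G) :
    x * y = y * x ∨ x * y = z * (y * x) := by
  rcases zp2 hz2 (hcomm x y) with h | h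
  · left
    have h1 : x * y * x⁻¹ = y := mul_inv_eq_one.1 h
    exact mul_inv_eq_iff_eq_mul.1 h1
  · right
    have h1 : x * y * x⁻¹ = z * y := mul_inv_eq_iff_eq_mul.1 h
    have h2 : x * y = z * y * x := mul_inv_eq_iff_eq_mul.1 h1
    rw [h2, mul_assoc]

theorem sq_central {G : Type*} [Group G] {z : G} (hz2 : z ^ 2 = 1) (hzc : ∀ g : G, g * z = z * g)
    (hcomm : ∀ x y : G, x * y * x⁻¹ * y⁻¹ ∈ zpowers z) (x y : G) : x ^ 2 * y = y * x ^ 2 := by
  rcases comm_cases hz2 hcomm x y with h | h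
  · exact ((show Commute x y from h).pow_left 2).eq
  · calc x ^ 2 * y = x * (x * y) := by rw [pow_two, mul_assoc]
      _ = x * (z * (y * x)) := by rw [h]
      _ = z * (x * (y * x)) := (show Commute x z from hzc x).left_comm _
      _ = z * (x * y * x) := by rw [mul_assoc]
      _ = z * (z * (y * x) * x) := by rw [h]
      _ = y * x ^ 2 := by
        rw [mul_assoc z (y * x) x, ← mul_assoc z z, ← pow_two z, hz2, one_mul, mul_assoc,
          ← pow_two]

theorem sq_mem_center {G : Type*} [Group G] {z : G} (hz2 : z ^ 2 = 1)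
    (hzc : ∀ g : G, g * z = z * g) (hcomm : ∀ x y : G, x * y * x⁻¹ * y⁻¹ ∈ zpowers z) (x : G) :
    x ^ 2 ∈ center G :=
  mem_center_iff.2 (fun g => (sq_central hz2 hzc hcomm x g).symm)

theorem pow4_mem_center {G : Type*} [Group G] {z : G} (hz2 : z ^ 2 = 1)
    (hzc : ∀ g : G, g * z = z * g) (hcomm : ∀ x y : G, x * y * x⁻¹ * y⁻¹ ∈ zpowers z) (x : G) :
    x ^ 4 ∈ center G := by
  rw [← pow_two_two]; exact sq_mem_center hz2 hzc hcomm (x ^ 2)

theorem sq_mul {G : Type*} [Group G] {z : G} (hz2 : z ^ 2 = 1) (hzc : ∀ g : G, g * z = z * g)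
    (hcomm : ∀ x y : G, x * y * x⁻¹ * y⁻¹ ∈ zpowers z) (u v : G) :
    ∃ w : G, (w = 1 ∨ w = z) ∧ (u * v) ^ 2 = w * (u ^ 2 * v ^ 2) := by
  rcases comm_cases hz2 hcomm v u with h | h
  · refine ⟨1, Or.inl rfl, ?_⟩
    rw [one_mul]; exact (show Commute u v from h.symm).mul_pow 2
  · refine ⟨z, Or.inr rfl, ?_⟩
    calc (u * v) ^ 2 = u * (v * u) * v := by rw [pow_two]; simp only [mul_assoc]
      _ = u * (z * (u * v)) * v := by rw [h]
      _ = z * (u * (u * v)) * v := by rw [(show Commute u z from hzc u).left_comm]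
      _ = z * (u ^ 2 * v ^ 2) := by simp only [pow_two, mul_assoc]

theorem pow4_mul {G : Type*} [Group G] {z : G} (hz2 : z ^ 2 = 1) (hzc : ∀ g : G, g * z = z * g)
    (hcomm : ∀ x y : G, x * y * x⁻¹ * y⁻¹ ∈ zpowers z) (u v : G) :
    (u * v) ^ 4 = u ^ 4 * v ^ 4 := by
  obtain ⟨w, hw, h⟩ := sq_mul hz2 hzc hcomm u v
  have hwc : Commute w (u ^ 2 * v ^ 2) := by
    rcases hw with hw | hw
    · rw [hw]; exact Commute.one_left _
    · rw [hw]; exact (hzc _).symm
  have hw2 : w ^ 2 = 1 := by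
    rcases hw with hw | hw
    · rw [hw]; exact one_pow 2
    · rw [hw]; exact hz2
  have huv : Commute (u ^ 2) (v ^ 2) := sq_central hz2 hzc hcomm u (v ^ 2)
  calc (u * v) ^ 4 = ((u * v) ^ 2) ^ 2 := (pow_two_two _).symm
    _ = (w * (u ^ 2 * v ^ 2)) ^ 2 := by rw [h]
    _ = w ^ 2 * (u ^ 2 * v ^ 2) ^ 2 := hwc.mul_pow 2
    _ = (u ^ 2) ^ 2 * (v ^ 2) ^ 2 := by rw [hw2, one_mul, huv.mul_pow]
    _ = u ^ 4 * v ^ 4 := by rw [pow_two_two, pow_two_two]

theorem pow4k_mul {G : Type*} [Group G] {z : G} (hz2 : z ^ 2 = 1) (hzc : ∀ g : G, g * z = z * g)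
    (hcomm : ∀ x y : G, x * y * x⁻¹ * y⁻¹ ∈ zpowers z) (u v : G) (k : ℕ) :
    (u * v) ^ (4 * k) = u ^ (4 * k) * v ^ (4 * k) := by
  have h4 : Commute (u ^ 4) (v ^ 4) := by
    rw [← pow_two_two u]
    exact sq_central hz2 hzc hcomm (u ^ 2) (v ^ 4)
  rw [pow_mul, pow4_mul hz2 hzc hcomm, h4.mul_pow, ← pow_mul, ← pow_mul]

theorem abelian_of_gen {G : Type*} [Group G] (x y : G) (hgen : closure ({x, y} : Set G) = ⊤)
    (hxy : x * y = y * x) : ∀ u v : G, u * v = v * u := by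
  have hsup : zpowers x ⊔ zpowers y = ⊤ := by
    rw [← hgen, ← Set.singleton_union, Subgroup.closure_union, zpowers_eq_closure,
      zpowers_eq_closure]
  have h := KJ.comm_sup (zpowers x) (zpowers y)
    (by
      intro a ha a' ha'
      obtain ⟨i, rfl⟩ := mem_zpowers_iff.1 ha
      obtain ⟨j, rfl⟩ := mem_zpowers_iff.1 ha'
      exact (Commute.zpow_zpow (Commute.refl x) i j).eq)
    (by
      intro a ha a' ha'
      obtain ⟨i, rfl⟩ := mem_zpowers_iff.1 ha
      obtain ⟨j, rfl⟩ := mem_zpowers_iff.1 ha'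
      exact (Commute.zpow_zpow (Commute.refl y) i j).eq)
    (by
      intro a ha a' ha'
      obtain ⟨i, rfl⟩ := mem_zpowers_iff.1 ha
      obtain ⟨j, rfl⟩ := mem_zpowers_iff.1 ha'
      exact (Commute.zpow_zpow (show Commute x y from hxy) i j).eq)
  intro u v
  exact h u (hsup ▸ mem_top u) v (hsup ▸ mem_top v)

theorem gen_of_mem {G : Type*} [Group G] {a b x y : G} (hgen : closure ({a, b} : Set G) = ⊤)
    (ha : a ∈ closure ({x, y} : Set G)) (hb : b ∈ closure ({x, y} : Set G)) :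
    closure ({x, y} : Set G) = ⊤ := by
  rw [eq_top_iff, ← hgen, closure_le]
  intro g hg
  rcases hg with rfl | rfl
  · exact ha
  · exact hb

theorem inv_case {G : Type*} [Group G] [Finite G] (hG : IsPGroup 2 G) (hsr : SR G) {z : G}
    (hz2 : z ^ 2 = 1) (hzc : ∀ g : G, g * z = z * g)
    (hcomm : ∀ x y : G, x * y * x⁻¹ * y⁻¹ ∈ zpowers z) (hna : ¬ ∀ u v : G, u * v = v * u)
    (x y : G) (hgen : closure ({x, y} : Set G) = ⊤) (hx2 : x ^ 2 = 1) :
    ∃ x' y' : G, MC x' y' := by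
  have hzcen : z ∈ center G := mem_center_iff.2 hzc
  have hy2c : y ^ 2 ∈ center G := sq_mem_center hz2 hzc hcomm y
  have hy4c : y ^ 4 ∈ center G := pow4_mem_center hz2 hzc hcomm y
  have hgen' : closure ({y, x} : Set G) = ⊤ := by rw [Set.pair_comm]; exact hgen
  have done : z ∈ zpowers y → ∃ x' y' : G, MC x' y' := fun hz =>
    ⟨y, x, mc_of_gen y x (normal_of_comm y (zpowers z) (zpowers_le.2 hz) hcomm) hgen'⟩
  rcases ph hG hsr (zpowers (y ^ 4)) z (y ^ 2) x (zpowers_le.2 hy4c) hzcen hy2c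
      (by rw [hz2]; exact one_mem _) (by rw [pow_two_two]; exact mem_zpowers _)
      (by rw [hx2]; exact one_mem _) with h | h | h
  · exact done (zpowers_le.2 (pow_mem (mem_zpowers y) 4) h)
  · obtain ⟨n, hn, k, hk⟩ := mem_sup_zp _ z _ (fun n _ => hzc n) h
    obtain ⟨j, rfl⟩ := mem_zpowers_iff.1 hn
    rcases zp2 hz2 (zpow_mem (mem_zpowers z) k) with hk1 | hk1
    · rw [hk1, mul_one] at hk
      have hy2 : y ^ 2 = 1 := by
        have e : (y ^ 2) ^ (1 - 2 * j) = 1 := by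
          rw [← odd_form, pow_two_two, ← hk, inv_mul_cancel]
        have := mem_zpowers_of_odd hG (y ^ 2) (1 - 2 * j) (odd_one_sub j)
        rw [e, zpowers_one_eq_bot, mem_bot] at this
        exact this
      have hxx : x * x = 1 := by rw [← pow_two]; exact hx2
      have hyy : y * y = 1 := by rw [← pow_two]; exact hy2
      rcases comm_cases hz2 hcomm x y with hc | hc
      · exact absurd (abelian_of_gen x y hgen hc) hna
      · have hz : (x * y) ^ 2 = z := by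
          calc (x * y) ^ 2 = (x * y) * (x * y) := pow_two _
            _ = z * (y * x) * (x * y) := congrArg (fun t => t * (x * y)) hc
            _ = z := by
              rw [mul_assoc z, mul_assoc y x (x * y), ← mul_assoc x x y, hxx, one_mul, hyy,
                mul_one]
        have hzm : z ∈ zpowers (x * y) := by rw [← hz]; exact pow_mem (mem_zpowers _) 2
        refine ⟨x * y, y, mc_of_gen _ _
          (normal_of_comm (x * y) (zpowers z) (zpowers_le.2 hzm) hcomm) ?_⟩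
        have hxy : x * y ∈ closure ({x * y, y} : Set G) := subset_closure (Set.mem_insert _ _)
        have hy : y ∈ closure ({x * y, y} : Set G) :=
          subset_closure (Set.mem_insert_of_mem _ rfl)
        have hx : x * y * y⁻¹ ∈ closure ({x * y, y} : Set G) := mul_mem hxy (inv_mem hy)
        rw [mul_inv_cancel_right] at hx
        exact gen_of_mem hgen hx hy
    · apply done
      rw [hk1] at hk
      have h1 : ((y ^ 4) ^ j)⁻¹ * y ^ 2 ∈ zpowers y :=
        mul_mem (inv_mem (zpow_mem (pow_mem (mem_zpowers y) 4) j)) (pow_mem (mem_zpowers y) 2)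
      rwa [hk, inv_mul_cancel_left] at h1
  · have hxc : x ∈ center G :=
      (sup_le (sup_le (zpowers_le.2 hy4c) (zpowers_le.2 hzcen)) (zpowers_le.2 hy2c)) h
    exact absurd (abelian_of_gen x y hgen ((mem_center_iff.1 hxc y).symm)) hna

theorem fin_case {G : Type*} [Group G] [Finite G] (hG : IsPGroup 2 G) (hsr : SR G) {z : G}
    (hz2 : z ^ 2 = 1) (hzc : ∀ g : G, g * z = z * g)
    (hcomm : ∀ x y : G, x * y * x⁻¹ * y⁻¹ ∈ zpowers z) (hna : ¬ ∀ u v : G, u * v = v * u)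
    (x y : G) (hgen : closure ({x, y} : Set G) = ⊤) (hx : x ^ 2 = 1 ∨ x ^ 2 = z) :
    ∃ x' y' : G, MC x' y' := by
  rcases hx with hx | hx
  · exact inv_case hG hsr hz2 hzc hcomm hna x y hgen hx
  · exact ⟨x, y, mc_of_gen x y (normal_of_comm x (zpowers z)
      (zpowers_le.2 (by rw [← hx]; exact pow_mem (mem_zpowers x) 2)) hcomm) hgen⟩

theorem sqroot {G : Type*} [Group G] (hG : IsPGroup 2 G) {z : G}
    (hz2 : z ^ 2 = 1) (hzc : ∀ g : G, g * z = z * g)
    (hcomm : ∀ x y : G, x * y * x⁻¹ * y⁻¹ ∈ zpowers z)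
    (a b : G) (hgen : closure ({a, b} : Set G) = ⊤) (i j k l : ℤ)
    (h : b ^ 2 = (a ^ 4) ^ i * (b ^ 4) ^ j * z ^ k * (a ^ 2) ^ l) :
    ∃ x : G, closure ({x, a} : Set G) = ⊤ ∧ (x ^ 2 = 1 ∨ x ^ 2 = z) := by
  obtain ⟨u, hu⟩ : ∃ u, u = (a ^ l)⁻¹ * ((a ^ 2) ^ i)⁻¹ := ⟨_, rfl⟩
  obtain ⟨y₀, hy₀⟩ : ∃ y₀, y₀ = b * ((b ^ 2) ^ j)⁻¹ := ⟨_, rfl⟩
  refine ⟨u * y₀, ?_, ?_⟩
  · have ha : a ∈ closure ({u * y₀, a} : Set G) := subset_closure (Set.mem_insert_of_mem _ rfl)
    have hx : u * y₀ ∈ closure ({u * y₀, a} : Set G) := subset_closure (Set.mem_insert _ _)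
    apply gen_of_mem hgen ha
    have hu' : (a ^ l)⁻¹ * ((a ^ 2) ^ i)⁻¹ ∈ closure ({u * y₀, a} : Set G) :=
      mul_mem (inv_mem (zpow_mem ha l)) (inv_mem (zpow_mem (pow_mem ha 2) i))
    rw [← hu] at hu'
    have hy : u⁻¹ * (u * y₀) ∈ closure ({u * y₀, a} : Set G) := mul_mem (inv_mem hu') hx
    rw [inv_mul_cancel_left] at hy
    have hy' : y₀ = b ^ (1 - 2 * j) := by
      rw [hy₀, ← odd_form]
      exact ((((Commute.refl b).pow_right 2).zpow_right j).inv_right).eq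
    have := mem_zpowers_of_odd hG b (1 - 2 * j) (odd_one_sub j)
    rw [← hy'] at this
    exact (zpowers_le.2 hy) this
  · obtain ⟨w, hw, hsq⟩ := sq_mul hz2 hzc hcomm u y₀
    have hP : (a ^ 4) ^ i ∈ center G := zpow_mem (pow4_mem_center hz2 hzc hcomm a) i
    have hQ : (b ^ 4) ^ j ∈ center G := zpow_mem (pow4_mem_center hz2 hzc hcomm b) j
    have hR : (a ^ 2) ^ l ∈ center G := zpow_mem (sq_mem_center hz2 hzc hcomm a) l
    have hZ : z ^ k ∈ center G := zpow_mem (mem_center_iff.2 hzc) k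
    have hu2 : u ^ 2 = ((a ^ 2) ^ l)⁻¹ * ((a ^ 4) ^ i)⁻¹ := by
      have hc : Commute ((a ^ l)⁻¹) (((a ^ 2) ^ i)⁻¹) :=
        ((((Commute.refl a).zpow_left l).pow_right 2).zpow_right i).inv_inv
      rw [hu, hc.mul_pow, inv_pow, inv_pow, zpow_pow_comm a l 2, zpow_pow_comm (a ^ 2) i 2,
        pow_two_two]
    have hy2 : y₀ ^ 2 = b ^ 2 * ((b ^ 4) ^ j)⁻¹ := by
      have hc : Commute b (((b ^ 2) ^ j)⁻¹) :=
        (((Commute.refl b).pow_right 2).zpow_right j).inv_right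
      rw [hy₀, hc.mul_pow, inv_pow, zpow_pow_comm (b ^ 2) j 2, pow_two_two]
    have hfin : u ^ 2 * y₀ ^ 2 = z ^ k := by
      rw [hu2, hy2, h]
      exact central_cancel _ _ _ _ hP hQ hR hZ
    rw [hsq, hfin]
    rcases hw with hw | hw
    · rcases zp2 hz2 (zpow_mem (mem_zpowers z) k) with e | e
      · left; rw [hw, e, one_mul]
      · right; rw [hw, e, one_mul]
    · rcases zp2 hz2 (zpow_mem (mem_zpowers z) k) with e | e
      · right; rw [hw, e, mul_one]
      · left; rw [hw, e, ← pow_two, hz2]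

theorem halving {G : Type*} [Group G] [Finite G] (hG : IsPGroup 2 G) {z : G}
    (hz2 : z ^ 2 = 1) (hzc : ∀ g : G, g * z = z * g)
    (hcomm : ∀ x y : G, x * y * x⁻¹ * y⁻¹ ∈ zpowers z) (hz1 : z ≠ 1)
    (a b : G) (hgen : closure ({a, b} : Set G) = ⊤) (M : ℕ)
    (hM : ∀ g : G, g ^ (4 * 2 ^ M) = 1) :
    ∀ d r : ℕ, r + d = M → ∀ i j : ℤ,
      z = (a ^ (4 * 2 ^ r)) ^ i * (b ^ (4 * 2 ^ r)) ^ j → ∃ x y : G, MC x y := by
  intro d
  induction d with
  | zero =>
    intro r hr i j h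
    exfalso
    apply hz1
    have hr' : r = M := by omega
    rw [h, hr', hM a, hM b, one_zpow, one_zpow, one_mul]
  | succ d ih =>
    intro r hr i j h
    have key : (a ^ i * b ^ j) ^ (4 * 2 ^ r) = z := by
      rw [pow4k_mul hz2 hzc hcomm, zpow_pow_comm, zpow_pow_comm]; exact h.symm
    have hzx : z ∈ zpowers (a ^ i * b ^ j) := by rw [← key]; exact pow_mem (mem_zpowers _) _
    have hn := normal_of_comm (a ^ i * b ^ j) (zpowers z) (zpowers_le.2 hzx) hcomm
    rcases Int.even_or_odd i with hi | hi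
    · rcases Int.even_or_odd j with hj | hj
      · obtain ⟨i', rfl⟩ := hi
        obtain ⟨j', rfl⟩ := hj
        apply ih (r + 1) (by omega) i' j'
        have e : ∀ (g : G) (t : ℤ),
            (g ^ (4 * 2 ^ r)) ^ (t + t) = (g ^ (4 * 2 ^ (r + 1))) ^ t := by
          intro g t
          have : g ^ (4 * 2 ^ (r + 1)) = (g ^ (4 * 2 ^ r)) ^ 2 := by
            rw [← pow_mul, pow_succ, mul_assoc]
          rw [this, zpow_add, ← zpow_pow_comm (g ^ (4 * 2 ^ r)) t 2, pow_two]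
        rw [← e, ← e]; exact h
      · refine ⟨a ^ i * b ^ j, a, mc_of_gen _ _ hn ?_⟩
        have hx : a ^ i * b ^ j ∈ closure ({a ^ i * b ^ j, a} : Set G) :=
          subset_closure (Set.mem_insert _ _)
        have ha' : a ∈ closure ({a ^ i * b ^ j, a} : Set G) :=
          subset_closure (Set.mem_insert_of_mem _ rfl)
        have hbj : (a ^ i)⁻¹ * (a ^ i * b ^ j) ∈ closure ({a ^ i * b ^ j, a} : Set G) :=
          mul_mem (inv_mem (zpow_mem ha' i)) hx
        rw [inv_mul_cancel_left] at hbj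
        exact gen_of_mem hgen ha' ((zpowers_le.2 hbj) (mem_zpowers_of_odd hG b j hj))
    · refine ⟨a ^ i * b ^ j, b, mc_of_gen _ _ hn ?_⟩
      have hx : a ^ i * b ^ j ∈ closure ({a ^ i * b ^ j, b} : Set G) :=
        subset_closure (Set.mem_insert _ _)
      have hb' : b ∈ closure ({a ^ i * b ^ j, b} : Set G) :=
        subset_closure (Set.mem_insert_of_mem _ rfl)
      have hai : a ^ i * b ^ j * (b ^ j)⁻¹ ∈ closure ({a ^ i * b ^ j, b} : Set G) :=
        mul_mem hx (inv_mem (zpow_mem hb' j))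
      rw [mul_inv_cancel_right] at hai
      exact gen_of_mem hgen ((zpowers_le.2 hai) (mem_zpowers_of_odd hG a i hi)) hb'

/-- the class-2 endgame -/
theorem e2 {G : Type*} [Group G] [Finite G] (hG : IsPGroup 2 G) (hsr : SR G) {z : G}
    (hz2 : z ^ 2 = 1) (hz1 : z ≠ 1) (hzc : ∀ g : G, g * z = z * g)
    (hcomm : ∀ x y : G, x * y * x⁻¹ * y⁻¹ ∈ zpowers z)
    (a b : G) (hab : a * b * a⁻¹ * b⁻¹ = z) (hgen : closure ({a, b} : Set G) = ⊤) :
    ∃ x y : G, MC x y := by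
  have hna : ¬ ∀ u v : G, u * v = v * u := by
    intro h
    apply hz1
    rw [← hab, h a b, mul_inv_cancel_right, mul_inv_cancel]
  have hzcen : z ∈ center G := mem_center_iff.2 hzc
  have ha2 := sq_mem_center hz2 hzc hcomm a
  have hb2 := sq_mem_center hz2 hzc hcomm b
  have ha4 := pow4_mem_center hz2 hzc hcomm a
  have hb4 := pow4_mem_center hz2 hzc hcomm b
  have hgen' : closure ({b, a} : Set G) = ⊤ := by rw [Set.pair_comm]; exact hgen
  rcases ph hG hsr (zpowers (a ^ 4) ⊔ zpowers (b ^ 4)) z (a ^ 2) (b ^ 2)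
      (sup_le (zpowers_le.2 ha4) (zpowers_le.2 hb4)) hzcen ha2
      (by rw [hz2]; exact one_mem _)
      (by rw [pow_two_two]; exact mem_sup_left (mem_zpowers _))
      (by rw [pow_two_two]; exact mem_sup_right (mem_zpowers _)) with h | h | h
  · obtain ⟨n, hn, j, hj⟩ := mem_sup_zp _ _ _ (fun n _ => (mem_center_iff.1 hb4 n)) h
    obtain ⟨i, rfl⟩ := mem_zpowers_iff.1 hn
    obtain ⟨M, hM⟩ : ∃ M : ℕ, ∀ g : G, g ^ (4 * 2 ^ M) = 1 := by
      obtain ⟨M, hM⟩ := IsPGroup.iff_card.1 hG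
      refine ⟨M, fun g => ?_⟩
      rw [mul_comm, pow_mul, ← hM, pow_card_eq_one', one_pow]
    exact halving hG hz2 hzc hcomm hz1 a b hgen M hM M 0 (by omega) i j
      (by rw [pow_zero, mul_one]; exact hj)
  · obtain ⟨n, hn, k, hk⟩ := mem_sup_zp _ _ _ (fun n _ => hzc n) h
    obtain ⟨m, hm, j, rfl⟩ := mem_sup_zp _ _ _ (fun n _ => (mem_center_iff.1 hb4 n)) hn
    obtain ⟨i, rfl⟩ := mem_zpowers_iff.1 hm
    obtain ⟨x, hx1, hx2⟩ := sqroot hG hz2 hzc hcomm b a hgen' j i k 0 (by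
      rw [hk, zpow_zero, mul_one]
      congr 1
      exact mem_center_iff.1 (zpow_mem hb4 j) _)
    exact fin_case hG hsr hz2 hzc hcomm hna x b hx1 hx2
  · obtain ⟨n', hn', l, hl⟩ := mem_sup_zp _ _ _ (fun n _ => (mem_center_iff.1 ha2 n)) h
    obtain ⟨n, hn, k, rfl⟩ := mem_sup_zp _ _ _ (fun n _ => hzc n) hn'
    obtain ⟨m, hm, j, rfl⟩ := mem_sup_zp _ _ _ (fun n _ => (mem_center_iff.1 hb4 n)) hn
    obtain ⟨i, rfl⟩ := mem_zpowers_iff.1 hm
    obtain ⟨x, hx1, hx2⟩ := sqroot hG hz2 hzc hcomm a b hgen i j k l hl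
    exact fin_case hG hsr hz2 hzc hcomm hna x a hx1 hx2

end Cfsg.Agent.Helper10.SR2
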