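import Mathlib
import Cfsg.Agent.Helper10.SR2b

set_option autoImplicit false

/-! # 2-groups of sectional rank at most 2 are metacyclic (helper10): the induction -/

namespace Cfsg.Agent.Helper10.SR2

open Subgroup
open Cfsg.Agent.Helper8.Meta (MC)

universe u

theorem zpow_two_mul {G : Type*} [Group G] {z : G} (hz2 : z ^ 2 = 1) (r : ℤ) :
    z ^ (2 * r) = 1 := by
  rw [zpow_mul, (zpow_ofNat z 2).trans hz2, one_zpow]

theorem zpow_two_mul_add_one {G : Type*} [Group G] {z : G} (hz2 : z ^ 2 = 1) (r : ℤ) :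
    z ^ (2 * r + 1) = z := by
  rw [zpow_add, zpow_two_mul hz2, one_mul, zpow_one]

theorem main : ∀ n : ℕ, ∀ (G : Type u) [Group G] [Finite G], Nat.card G = n → IsPGroup 2 G →
    SR G → ∃ a b : G, MC a b := by
  intro n
  induction n using Nat.strong_induction_on with
  | _ n ih =>
    intro G _ _ hn hG hsr
    by_cases htriv : ∀ g : G, g = 1
    · refine ⟨1, 1, ?_, fun g => ⟨0, 0, by rw [htriv g]; simp⟩⟩
      rw [zpowers_one_eq_bot]; infer_instance
    push Not at htriv
    obtain ⟨g₀, hg₀⟩ := htriv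
    obtain ⟨z, hz1, hz2, hzc, hzG⟩ : ∃ z : G, z ≠ 1 ∧ z ^ 2 = 1 ∧ (∀ g : G, g * z = z * g) ∧
        (commutator G ≠ ⊥ → z ∈ commutator G) := by
      by_cases hc : commutator G = ⊥
      · have htop : (⊤ : Subgroup G) ≠ ⊥ := by
          intro h
          have : g₀ ∈ (⊥ : Subgroup G) := h ▸ mem_top g₀
          exact hg₀ (mem_bot.1 this)
        obtain ⟨z, -, hz1, hz2, hzc⟩ := Cfsg.Agent.Helper7.PU.exists_central_p hG ⊤ htop
        exact ⟨z, hz1, hz2, hzc, fun h => absurd hc h⟩
      · obtain ⟨z, hz, hz1, hz2, hzc⟩ :=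
          Cfsg.Agent.Helper7.PU.exists_central_p hG (commutator G) hc
        exact ⟨z, hz1, hz2, hzc, fun _ => hz⟩
    have hTc : ∀ t ∈ zpowers z, ∀ g : G, g * t = t * g := by
      intro t ht g
      obtain ⟨k, rfl⟩ := mem_zpowers_iff.1 ht
      exact ((show Commute g z from hzc g).zpow_right k).eq
    have hTn : (zpowers z).Normal := ⟨fun t ht g => by
      rw [hTc t ht g, mul_inv_cancel_right]; exact ht⟩
    have hcardT : Nat.card (zpowers z) = 2 := by
      rw [Nat.card_zpowers]; exact orderOf_eq_prime hz2 hz1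
    have hcard := Subgroup.card_eq_card_quotient_mul_card_subgroup (zpowers z)
    rw [hcardT, hn] at hcard
    have hlt : Nat.card (G ⧸ zpowers z) < n := by
      have : 0 < n := by rw [← hn]; exact Nat.card_pos
      omega
    obtain ⟨a', b', hmc⟩ := ih _ hlt (G ⧸ zpowers z) rfl (hG.to_quotient (zpowers z))
      (sr_quot hsr (zpowers z))
    obtain ⟨a, rfl⟩ := QuotientGroup.mk'_surjective (zpowers z) a'
    obtain ⟨b, rfl⟩ := QuotientGroup.mk'_surjective (zpowers z) b'
    have hgen : ∀ g : G, ∃ i j : ℕ, ∃ t ∈ zpowers z, g = a ^ i * b ^ j * t := by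
      intro g
      obtain ⟨i, j, hij⟩ := hmc.gen (QuotientGroup.mk' (zpowers z) g)
      refine ⟨i, j, (a ^ i * b ^ j)⁻¹ * g, ?_, by rw [mul_inv_cancel_left]⟩
      apply Cfsg.Agent.Helper8.Meta.mem_of_map_eq_one (zpowers z)
      rw [map_mul, map_inv, hij, map_mul, map_pow, map_pow, inv_mul_cancel]
    obtain ⟨s, t₀, ht₀, hconj⟩ : ∃ s : ℕ, ∃ t₀ ∈ zpowers z, b * a * b⁻¹ = a ^ s * t₀ := by
      have h1 := hmc.normal.conj_mem _ (mem_zpowers (QuotientGroup.mk' (zpowers z) a))
        (QuotientGroup.mk' (zpowers z) b)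
      obtain ⟨s, hs⟩ := (Submonoid.mem_powers_iff _ _).mp ((mem_powers_iff_mem_zpowers).mpr h1)
      refine ⟨s, (a ^ s)⁻¹ * (b * a * b⁻¹), ?_, by rw [mul_inv_cancel_left]⟩
      apply Cfsg.Agent.Helper8.Meta.mem_of_map_eq_one (zpowers z)
      simp only [map_mul, map_inv, map_pow]
      rw [hs, inv_mul_cancel]
    have hcomm := Cfsg.Agent.Helper7.PU.lemC (zpowers z) hTc a b hgen s t₀ ht₀ hconj
    obtain ⟨c, hc⟩ : ∃ c, c = a * b * a⁻¹ * b⁻¹ := ⟨_, rfl⟩
    rw [← hc] at hcomm
    have top_of : ∀ H : Subgroup G, a ∈ H → b ∈ H → z ∈ H → H = ⊤ := by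
      intro H ha hb hz
      rw [eq_top_iff']
      intro g
      obtain ⟨i, j, t, ht, rfl⟩ := hgen g
      exact mul_mem (mul_mem (pow_mem ha i) (pow_mem hb j)) ((zpowers_le.2 hz) ht)
    by_cases hc1 : c = 1
    · -- the abelian case
      have hab : ∀ x y : G, x * y = y * x := by
        intro x y
        have h := hcomm x y
        rw [hc1, zpowers_one_eq_bot, mem_bot] at h
        have h1 : x * y * x⁻¹ = y := mul_inv_eq_one.1 h
        exact mul_inv_eq_iff_eq_mul.1 h1
      have hcen : ∀ x : G, x ∈ center G := fun x => mem_center_iff.2 (fun g => hab g x)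
      have hnorm : ∀ x : G, (zpowers x).Normal := fun x => ⟨fun n hn g => by
        rw [hab g n, mul_inv_cancel_right]; exact hn⟩
      rcases ph hG hsr (zpowers (a ^ 2) ⊔ zpowers (b ^ 2)) z a b
          (fun x _ => hcen x) (hcen z) (hcen a)
          (by rw [hz2]; exact one_mem _) (mem_sup_left (mem_zpowers _))
          (mem_sup_right (mem_zpowers _)) with h | h | h
      · have ha : a ∈ closure ({a, b} : Set G) := subset_closure (Set.mem_insert _ _)
        have hb : b ∈ closure ({a, b} : Set G) := subset_closure (Set.mem_insert_of_mem _ rfl)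
        have hle : zpowers (a ^ 2) ⊔ zpowers (b ^ 2) ≤ closure ({a, b} : Set G) :=
          sup_le (zpowers_le.2 (pow_mem ha 2)) (zpowers_le.2 (pow_mem hb 2))
        exact ⟨a, b, mc_of_gen a b (hnorm a) (top_of _ ha hb (hle h))⟩
      · obtain ⟨n, hn, k, hk⟩ := mem_sup_zp _ _ _ (fun n _ => hzc n) h
        obtain ⟨m, hm, j, rfl⟩ := mem_sup_zp _ _ _ (fun n _ => hab n _) hn
        obtain ⟨i, rfl⟩ := mem_zpowers_iff.1 hm
        have hb' : b ∈ closure ({b, z} : Set G) := subset_closure (Set.mem_insert _ _)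
        have hz' : z ∈ closure ({b, z} : Set G) := subset_closure (Set.mem_insert_of_mem _ rfl)
        have e : ((a ^ 2) ^ i)⁻¹ * a = (b ^ 2) ^ j * z ^ k := by
          calc ((a ^ 2) ^ i)⁻¹ * a = ((a ^ 2) ^ i)⁻¹ * ((a ^ 2) ^ i * (b ^ 2) ^ j * z ^ k) :=
                congrArg (fun t => ((a ^ 2) ^ i)⁻¹ * t) hk
            _ = (b ^ 2) ^ j * z ^ k := by simp only [mul_assoc, inv_mul_cancel_left]
        have h1 : ((a ^ 2) ^ i)⁻¹ * a ∈ closure ({b, z} : Set G) := by
          rw [e]; exact mul_mem (zpow_mem (pow_mem hb' 2) j) (zpow_mem hz' k)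
        rw [odd_form] at h1
        have ha' : a ∈ closure ({b, z} : Set G) :=
          (zpowers_le.2 h1) (mem_zpowers_of_odd hG a _ (odd_one_sub i))
        exact ⟨b, z, mc_of_gen b z (hnorm b) (top_of _ ha' hb' hz')⟩
      · obtain ⟨n', hn', l, hl⟩ := mem_sup_zp _ _ _ (fun n _ => hab n _) h
        obtain ⟨n, hn, k, rfl⟩ := mem_sup_zp _ _ _ (fun n _ => hzc n) hn'
        obtain ⟨m, hm, j, rfl⟩ := mem_sup_zp _ _ _ (fun n _ => hab n _) hn
        obtain ⟨i, rfl⟩ := mem_zpowers_iff.1 hm
        have ha' : a ∈ closure ({a, z} : Set G) := subset_closure (Set.mem_insert _ _)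
        have hz' : z ∈ closure ({a, z} : Set G) := subset_closure (Set.mem_insert_of_mem _ rfl)
        have e : ((b ^ 2) ^ j)⁻¹ * b = (a ^ 2) ^ i * z ^ k * a ^ l := by
          calc ((b ^ 2) ^ j)⁻¹ * b
              = ((b ^ 2) ^ j)⁻¹ * ((a ^ 2) ^ i * (b ^ 2) ^ j * z ^ k * a ^ l) :=
                congrArg (fun t => ((b ^ 2) ^ j)⁻¹ * t) hl
            _ = ((b ^ 2) ^ j)⁻¹ * ((b ^ 2) ^ j * (a ^ 2) ^ i * z ^ k * a ^ l) := by
                rw [hab ((a ^ 2) ^ i) ((b ^ 2) ^ j)]
            _ = (a ^ 2) ^ i * z ^ k * a ^ l := by simp only [mul_assoc, inv_mul_cancel_left]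
        have h1 : ((b ^ 2) ^ j)⁻¹ * b ∈ closure ({a, z} : Set G) := by
          rw [e]
          exact mul_mem (mul_mem (zpow_mem (pow_mem ha' 2) i) (zpow_mem hz' k)) (zpow_mem ha' l)
        rw [odd_form] at h1
        have hb' : b ∈ closure ({a, z} : Set G) :=
          (zpowers_le.2 h1) (mem_zpowers_of_odd hG b _ (odd_one_sub j))
        exact ⟨a, z, mc_of_gen a z (hnorm a) (top_of _ ha' hb' hz')⟩
    · -- the non-abelian case
      have ha : a ∈ closure ({a, b} : Set G) := subset_closure (Set.mem_insert _ _)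
      have hb : b ∈ closure ({a, b} : Set G) := subset_closure (Set.mem_insert_of_mem _ rfl)
      have hcG : commutator G ≠ ⊥ := by
        intro h
        apply hc1
        have h1 : c ∈ commutator G := by
          rw [hc, commutator_def]
          have := Subgroup.commutator_mem_commutator (mem_top a) (mem_top b)
          rwa [commutatorElement_def] at this
        rw [h] at h1; exact mem_bot.1 h1
      have hzc' : z ∈ zpowers c := by
        have hle : commutator G ≤ zpowers c := by
          rw [commutator_def, Subgroup.commutator_le]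
          intro x _ y _
          rw [commutatorElement_def]; exact hcomm x y
        exact hle (hzG hcG)
      have hca : c ∈ closure ({a, b} : Set G) := by
        rw [hc]; exact mul_mem (mul_mem (mul_mem ha hb) (inv_mem ha)) (inv_mem hb)
      have hgenab : closure ({a, b} : Set G) = ⊤ := top_of _ ha hb ((zpowers_le.2 hca) hzc')
      have hcform : c = a * (a ^ s)⁻¹ * t₀⁻¹ := by
        have h1 : c = a * (b * a * b⁻¹)⁻¹ := by rw [hc]; group
        rw [h1, hconj, mul_inv_rev, mul_assoc]
        congr 1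
        exact (hTc t₀⁻¹ (inv_mem ht₀) ((a ^ s)⁻¹)).symm
      have done : z ∈ zpowers a → ∃ x y : G, MC x y := by
        intro hza
        have hcz : zpowers c ≤ zpowers a := by
          rw [zpowers_le, hcform]
          exact mul_mem (mul_mem (mem_zpowers a) (inv_mem (pow_mem (mem_zpowers a) s)))
            (inv_mem ((zpowers_le.2 hza) ht₀))
        exact ⟨a, b, mc_of_gen a b (normal_of_comm a (zpowers c) hcz hcomm) hgenab⟩
      by_cases hza : z ∈ zpowers a
      · exact done hza
      obtain ⟨e, he⟩ : ∃ e, e = a * (a ^ s)⁻¹ := ⟨_, rfl⟩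
      have hea : e ∈ zpowers a := by
        rw [he]; exact mul_mem (mem_zpowers a) (inv_mem (pow_mem (mem_zpowers a) s))
      rw [← he] at hcform
      rcases zp2 hz2 (inv_mem ht₀) with ht | ht
      · exfalso
        apply hza
        have : c ∈ zpowers a := by rw [hcform, ht, mul_one]; exact hea
        exact (zpowers_le.2 this) hzc'
      · rw [ht] at hcform
        obtain ⟨k, hk⟩ := mem_zpowers_iff.1 hzc'
        have hck : c ^ k = e ^ k * z ^ k := by
          rw [hcform]; exact (show Commute e z from hzc e).mul_zpow k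
        rcases Int.even_or_odd' k with ⟨r, rfl | rfl⟩
        · exfalso
          apply hza
          rw [hck, zpow_two_mul hz2, mul_one] at hk
          rw [← hk]; exact zpow_mem hea _
        · rw [hck, zpow_two_mul_add_one hz2] at hk
          have hek : e ^ (2 * r + 1) = 1 := mul_right_cancel (hk.trans (one_mul z).symm)
          have he1 : e = 1 := by
            have := mem_zpowers_of_odd hG e (2 * r + 1) ⟨r, rfl⟩
            rw [hek, zpowers_one_eq_bot, mem_bot] at this
            exact this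
          rw [he1, one_mul] at hcform
          rw [hcform] at hcomm hc
          exact e2 hG hsr hz2 hz1 hzc hcomm a b hc.symm hgenab

/-- A finite 2-group of sectional 2-rank at most 2 is metacyclic (Blackburn). -/
theorem metacyclic_of_sectional {S : Type u} [Group S] [Finite S] (h2 : IsPGroup 2 S)
    (hr : Cfsg.SectionalPRankLE 2 2 S) : Cfsg.IsMetacyclic S := by
  obtain ⟨a, b, h⟩ := main _ S rfl h2 (sr_of_sectional hr)
  exact Cfsg.Agent.Helper7.PU.metacyclic_of_MC h

end Cfsg.Agent.Helper10.SR2
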