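import Mathlib
import Cfsg.Agent.Helper10.SR4a

set_option autoImplicit false

/-! # 2-groups of sectional rank at most 4 (helper10): packages

A "package" is a non-abelian subgroup `Q` whose centre is `{1, w}` and which is normalised by
the centraliser of `w`.  Three independent packages contradict sectional rank `≤ 4`. -/

namespace Cfsg.Agent.Helper10.SR4

open Subgroup
open scoped Pointwise

variable {G : Type*} [Group G]

/-- a non-abelian subgroup with centre `{1, w}`, normalised by the centraliser of `w` -/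
structure Pk (Q : Subgroup G) (w : G) : Prop where
  mem : w ∈ Q
  ne : w ≠ 1
  sq : w * w = 1
  cen : ∀ x ∈ Q, x * w = w * x
  zc : ∀ y ∈ Q, (∀ x ∈ Q, x * y = y * x) → y = 1 ∨ y = w
  nab : ∃ a ∈ Q, ∃ b ∈ Q, a * b ≠ b * a
  nrm : ∀ s, s * w = w * s → ∀ x ∈ Q, s * x * s⁻¹ ∈ Q

theorem pk_conj {Q : Subgroup G} {w : G} (h : Pk Q w) (g : G) :
    Pk (KJ.conjSub g Q) (g * w * g⁻¹) := by
  refine ⟨conj_mem_conjSub h.mem, ?_, ?_, ?_, ?_, ?_, ?_⟩
  · intro e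
    apply h.ne
    have e1 : w = g⁻¹ * (g * w * g⁻¹) * g := by group
    rw [e1, e]; group
  · have e1 : g * w * g⁻¹ * (g * w * g⁻¹) = g * (w * w) * g⁻¹ := by group
    rw [e1, h.sq]; group
  · intro x hx
    have e := h.cen _ (KJ.mem_conjSub.1 hx)
    calc x * (g * w * g⁻¹) = g * (g⁻¹ * x * g * w) * g⁻¹ := by group
      _ = g * (w * (g⁻¹ * x * g)) * g⁻¹ := by rw [e]
      _ = g * w * g⁻¹ * x := by group
  · intro y hy hyc
    have h1 := h.zc _ (KJ.mem_conjSub.1 hy) (fun x hx => by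
      have e := hyc _ (conj_mem_conjSub (g := g) hx)
      calc x * (g⁻¹ * y * g) = g⁻¹ * (g * x * g⁻¹ * y) * g := by group
        _ = g⁻¹ * (y * (g * x * g⁻¹)) * g := by rw [e]
        _ = g⁻¹ * y * g * x := by group)
    have e1 : y = g * (g⁻¹ * y * g) * g⁻¹ := by group
    rcases h1 with h1 | h1
    · left; rw [e1, h1]; group
    · right; rw [e1, h1]
  · obtain ⟨a, ha, b, hb, hab⟩ := h.nab
    refine ⟨g * a * g⁻¹, conj_mem_conjSub ha, g * b * g⁻¹, conj_mem_conjSub hb, fun e => hab ?_⟩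
    have e1 : a * b = g⁻¹ * ((g * a * g⁻¹) * (g * b * g⁻¹)) * g := by group
    rw [e1, e]; group
  · intro s hs x hx
    have hs' : g⁻¹ * s * g * w = w * (g⁻¹ * s * g) := by
      calc g⁻¹ * s * g * w = g⁻¹ * (s * (g * w * g⁻¹)) * g := by group
        _ = g⁻¹ * (g * w * g⁻¹ * s) * g := by rw [hs]
        _ = w * (g⁻¹ * s * g) := by group
    have h1 := h.nrm _ hs' _ (KJ.mem_conjSub.1 hx)
    rw [KJ.mem_conjSub]
    have e1 : g⁻¹ * (s * x * s⁻¹) * g = (g⁻¹ * s * g) * (g⁻¹ * x * g) * (g⁻¹ * s * g)⁻¹ := by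
      group
    rw [e1]; exact h1

/-- every nontrivial subgroup of a package normalised by it contains `w` -/
theorem pk_min [Finite G] (hG : IsPGroup 2 G) {Q : Subgroup G} {w : G} (h : Pk Q w)
    (D : Subgroup G) (hDQ : D ≤ Q) (hD : D ≠ ⊥) (hn : ∀ x ∈ Q, ∀ d ∈ D, x * d * x⁻¹ ∈ D) :
    w ∈ D := by
  have : Fact (Nat.Prime 2) := ⟨Nat.prime_two⟩
  have : (D.subgroupOf Q).Normal := by
    constructor
    intro n hn' g
    rw [Subgroup.mem_subgroupOf] at hn' ⊢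
    simpa using hn g g.2 n hn'
  have hbot : D.subgroupOf Q ≠ ⊥ := by
    intro e
    apply hD
    rw [Subgroup.eq_bot_iff_forall]
    intro x hx
    have h1 : (⟨x, hDQ hx⟩ : ↥Q) ∈ D.subgroupOf Q := by
      rw [Subgroup.mem_subgroupOf]; exact hx
    rw [e, Subgroup.mem_bot] at h1
    exact congrArg Subtype.val h1
  obtain ⟨z, hz, hz1, -, hzc⟩ :=
    Helper7.PU.exists_central_p (hG.to_subgroup Q) (D.subgroupOf Q) hbot
  rw [Subgroup.mem_subgroupOf] at hz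
  have h1 := h.zc z.1 z.2 (fun x hx => congrArg Subtype.val (hzc ⟨x, hx⟩))
  rcases h1 with h1 | h1
  · exact absurd (Subtype.ext h1) hz1
  · rw [← h1]; exact hz

/-- two packages with different central involutions, each centralising the involution of the
other, meet trivially and commute elementwise -/
theorem pk_disj [Finite G] (hG : IsPGroup 2 G) {Q₁ Q₂ : Subgroup G} {w₁ w₂ : G}
    (h1 : Pk Q₁ w₁) (h2 : Pk Q₂ w₂) (hne : w₁ ≠ w₂) (c12 : ∀ x ∈ Q₁, x * w₂ = w₂ * x)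
    (c21 : ∀ x ∈ Q₂, x * w₁ = w₁ * x) :
    Q₁ ⊓ Q₂ = ⊥ ∧ ∀ a ∈ Q₁, ∀ b ∈ Q₂, a * b = b * a := by
  have n12 : ∀ a ∈ Q₁, ∀ x ∈ Q₂, a * x * a⁻¹ ∈ Q₂ := fun a ha => h2.nrm a (c12 a ha)
  have n21 : ∀ b ∈ Q₂, ∀ x ∈ Q₁, b * x * b⁻¹ ∈ Q₁ := fun b hb => h1.nrm b (c21 b hb)
  have hbot : Q₁ ⊓ Q₂ = ⊥ := by
    by_contra hD
    have hw2 : w₂ ∈ Q₁ ⊓ Q₂ := pk_min hG h2 _ inf_le_right hD (fun x hx d hd =>
      Subgroup.mem_inf.2 ⟨n21 x hx d (Subgroup.mem_inf.1 hd).1,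
        mul_mem (mul_mem hx (Subgroup.mem_inf.1 hd).2) (inv_mem hx)⟩)
    rcases h1.zc w₂ (Subgroup.mem_inf.1 hw2).1 (fun x hx => c12 x hx) with e | e
    · exact h2.ne e
    · exact hne e.symm
  refine ⟨hbot, fun a ha b hb => ?_⟩
  have hm : a * b * a⁻¹ * b⁻¹ ∈ Q₁ ⊓ Q₂ := by
    refine Subgroup.mem_inf.2 ⟨?_, mul_mem (n12 a ha b hb) (inv_mem hb)⟩
    have e : a * b * a⁻¹ * b⁻¹ = a * (b * a⁻¹ * b⁻¹) := by group
    rw [e]; exact mul_mem ha (n21 b hb _ (inv_mem ha))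
  rw [hbot, Subgroup.mem_bot] at hm
  calc a * b = (a * b * a⁻¹ * b⁻¹) * (b * a) := by group
    _ = b * a := by rw [hm, one_mul]

/-- the centre of a commuting product of two packages -/
theorem pair_center {Q₁ Q₂ : Subgroup G} {w₁ w₂ : G} (h1 : Pk Q₁ w₁) (h2 : Pk Q₂ w₂)
    (hc : ∀ a ∈ Q₁, ∀ b ∈ Q₂, a * b = b * a) {g : G} (hg : g ∈ Q₁ ⊔ Q₂)
    (c1 : ∀ x ∈ Q₁, x * g = g * x) (c2 : ∀ x ∈ Q₂, x * g = g * x) :
    g = 1 ∨ g = w₁ ∨ g = w₂ ∨ g = w₁ * w₂ := by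
  obtain ⟨a, ha, b, hb, rfl⟩ := mem_sup_comm Q₁ Q₂ hc hg
  have ea : a = 1 ∨ a = w₁ := h1.zc a ha (fun x hx => by
    have e := c1 x hx
    have e2 := hc x hx b hb
    have e3 : x * a * b = a * x * b := by
      calc x * a * b = x * (a * b) := mul_assoc _ _ _
        _ = a * b * x := e
        _ = a * (b * x) := mul_assoc _ _ _
        _ = a * (x * b) := by rw [e2]
        _ = a * x * b := (mul_assoc _ _ _).symm
    exact mul_right_cancel e3)
  have eb : b = 1 ∨ b = w₂ := h2.zc b hb (fun x hx => by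
    have e := c2 x hx
    have e2 := hc a ha x hx
    have e3 : a * (x * b) = a * (b * x) := by
      calc a * (x * b) = a * x * b := (mul_assoc _ _ _).symm
        _ = x * a * b := by rw [e2]
        _ = x * (a * b) := mul_assoc _ _ _
        _ = a * b * x := e
        _ = a * (b * x) := mul_assoc _ _ _
    exact mul_left_cancel e3)
  rcases ea with ea | ea <;> rcases eb with eb | eb <;> simp [ea, eb]

/-- three independent packages contradict sectional rank at most 4 -/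
theorem three [Finite G] (hG : IsPGroup 2 G)
    (hr : ∀ K N : Subgroup G, N ≤ K → (∀ x ∈ K, ∀ n ∈ N, x * n * x⁻¹ ∈ N) →
      (∀ x ∈ K, x ^ 2 ∈ N) → Nat.card K ≤ 16 * Nat.card N)
    (Q₁ Q₂ Q₃ : Subgroup G) (c : G)
    (n1 : ∃ a ∈ Q₁, ∃ b ∈ Q₁, a * b ≠ b * a) (n2 : ∃ a ∈ Q₂, ∃ b ∈ Q₂, a * b ≠ b * a)
    (n3 : ∃ a ∈ Q₃, ∃ b ∈ Q₃, a * b ≠ b * a)
    (hc2 : c * c = 1)
    (hcA : ∀ x ∈ Q₁ ⊔ Q₂, x * c = c * x) (hc3 : ∀ x ∈ Q₃, x * c = c * x)
    (h12 : ∀ a ∈ Q₁, ∀ b ∈ Q₂, a * b = b * a)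
    (h3 : ∀ a ∈ Q₁ ⊔ Q₂, ∀ x ∈ Q₃, a * x = x * a ∨ a * x = c * (x * a))
    (d12 : Q₁ ⊓ Q₂ = ⊥) (d3 : (Q₁ ⊔ Q₂) ⊓ Q₃ = ⊥) : False := by
  have secA := sec2 Q₁ Q₂ (Sq Q₁ ⊔ Sq Q₂)
    (fun x hx => conj_sup
      (fun n hn => mem_sup_left
        (sq_conj (fun y hy => mul_mem (mul_mem hx hy) (inv_mem hx)) n hn))
      (fun n hn => by
        rw [h12 x hx n (sq_le Q₂ hn), mul_inv_cancel_right]
        exact mem_sup_right hn))
    (fun x hx => conj_sup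
      (fun n hn => by
        rw [← h12 n (sq_le Q₁ hn) x hx, mul_inv_cancel_right]
        exact mem_sup_left hn)
      (fun n hn => mem_sup_right
        (sq_conj (fun y hy => mul_mem (mul_mem hx hy) (inv_mem hx)) n hn)))
    (fun x hx => mem_sup_left (sq_mem hx))
    (fun x hx => mem_sup_right (sq_mem hx))
    (fun x hx y hy => by
      rw [h12 x hx y hy, mul_inv_cancel_right, mul_inv_cancel]
      exact one_mem _)
  have hN12A : Sq Q₁ ⊔ Sq Q₂ ≤ Q₁ ⊔ Q₂ := sup_le_sup (sq_le Q₁) (sq_le Q₂)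
  have cA3 : ∀ a ∈ Q₁ ⊔ Q₂, ∀ y ∈ Sq Q₃, a * y = y * a := fun a ha =>
    sq_cent (fun x hx => sqc1 hc2 (hc3 x hx) (h3 a ha x hx))
  have h3' : ∀ a ∈ Q₁ ⊔ Q₂, ∀ x ∈ Q₃, x * a = a * x ∨ x * a = c * (a * x) := by
    intro a ha x hx
    rcases h3 a ha x hx with h | h
    · left; exact h.symm
    · right; rw [h, ← mul_assoc c c (x * a), hc2, one_mul]
  have c31 : ∀ x ∈ Q₃, ∀ y ∈ Sq Q₁, x * y = y * x := fun x hx =>
    sq_cent (fun y hy => sqc1 hc2 (hcA y (mem_sup_left hy)) (h3' y (mem_sup_left hy) x hx))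
  have c32 : ∀ x ∈ Q₃, ∀ y ∈ Sq Q₂, x * y = y * x := fun x hx =>
    sq_cent (fun y hy => sqc1 hc2 (hcA y (mem_sup_right hy)) (h3' y (mem_sup_right hy) x hx))
  have cz : ∀ g : G, g * c = c * g → ∀ y ∈ Subgroup.zpowers c,
      g * y * g⁻¹ ∈ Subgroup.zpowers c := by
    intro g hg y hy
    obtain ⟨i, rfl⟩ := Subgroup.mem_zpowers_iff.1 hy
    have e : g * c ^ i = c ^ i * g := ((show Commute g c from hg).zpow_right i).eq
    rw [e, mul_inv_cancel_right]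
    exact hy
  have secK := sec2 (Q₁ ⊔ Q₂) Q₃ (Sq Q₁ ⊔ Sq Q₂ ⊔ Sq Q₃ ⊔ Subgroup.zpowers c)
    (fun a ha => conj_sup
      (conj_sup
        (fun n hn => mem_sup_left (mem_sup_left ((secA a (mem_sup_left ha)).1 n hn)))
        (fun n hn => by
          rw [cA3 a ha n hn, mul_inv_cancel_right]
          exact mem_sup_left (mem_sup_right hn)))
      (fun n hn => mem_sup_right (cz a (hcA a ha) n hn)))
    (fun x hx => conj_sup
      (conj_sup
        (conj_sup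
          (fun n hn => by
            rw [c31 x hx n hn, mul_inv_cancel_right]
            exact mem_sup_left (mem_sup_left (mem_sup_left hn)))
          (fun n hn => by
            rw [c32 x hx n hn, mul_inv_cancel_right]
            exact mem_sup_left (mem_sup_left (mem_sup_right hn))))
        (fun n hn => mem_sup_left (mem_sup_right
          (sq_conj (fun y hy => mul_mem (mul_mem hx hy) (inv_mem hx)) n hn))))
      (fun n hn => mem_sup_right (cz x (hc3 x hx) n hn)))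
    (fun a ha => mem_sup_left (mem_sup_left ((secA a (mem_sup_left ha)).2)))
    (fun x hx => mem_sup_left (mem_sup_right (sq_mem hx)))
    (fun a ha x hx => by
      rcases h3 a ha x hx with h | h
      · rw [h, mul_inv_cancel_right, mul_inv_cancel]
        exact one_mem _
      · have e : a * x * a⁻¹ * x⁻¹ = (a * x) * (x * a)⁻¹ := by group
        rw [e, h, mul_inv_cancel_right]
        exact mem_sup_right (Subgroup.mem_zpowers c))
  have hk := hr _ _ le_sup_right (fun x hx => (secK x hx).1) (fun x hx => (secK x hx).2)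
  have b1 := card_sup_ge Q₁ Q₂ d12
  have b2 := card_sup_ge (Q₁ ⊔ Q₂) Q₃ d3
  have b3 : Nat.card ↥(Q₁ ⊔ Q₂ ⊔ Q₃)
      ≤ Nat.card ↥(Q₁ ⊔ Q₂ ⊔ Q₃ ⊔ (Sq Q₁ ⊔ Sq Q₂ ⊔ Sq Q₃ ⊔ Subgroup.zpowers c)) :=
    Subgroup.card_le_of_le le_sup_left
  have u1 := card_sup_le (Sq Q₁) (Sq Q₂) (fun a ha b hb => h12 a (sq_le Q₁ ha) b (sq_le Q₂ hb))
  have u2 := card_sup_le (Sq Q₁ ⊔ Sq Q₂) (Sq Q₃) (fun a ha b hb => cA3 a (hN12A ha) b hb)
  have u3 := card_sup_le (Sq Q₁ ⊔ Sq Q₂ ⊔ Sq Q₃) (Subgroup.zpowers c) (fun a ha b hb => by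
    obtain ⟨i, rfl⟩ := Subgroup.mem_zpowers_iff.1 hb
    have hac : a * c = c * a :=
      comm_sup (fun x hx => hcA x (hN12A hx)) (fun x hx => hc3 x (sq_le Q₃ hx)) a ha
    exact ((show Commute a c from hac).zpow_right i).eq)
  have u4 : Nat.card ↥(Subgroup.zpowers c) ≤ 2 := by
    rw [Nat.card_zpowers]
    exact Nat.le_of_dvd (by norm_num) (orderOf_dvd_of_pow_eq_one (by rw [pow_two]; exact hc2))
  have q1 := sq4 hG n1
  have q2 := sq4 hG n2
  have q3 := sq4 hG n3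
  have p1 : 0 < Nat.card ↥(Sq Q₁) := Nat.card_pos
  have p2 : 0 < Nat.card ↥(Sq Q₂) := Nat.card_pos
  have p3 : 0 < Nat.card ↥(Sq Q₃) := Nat.card_pos
  have A1 := Nat.mul_le_mul (Nat.mul_le_mul q1 q2) q3
  have A2 : Nat.card ↥Q₁ * Nat.card ↥Q₂ * Nat.card ↥Q₃ ≤ Nat.card ↥(Q₁ ⊔ Q₂) * Nat.card ↥Q₃ :=
    Nat.mul_le_mul_right _ b1
  have A3 : Nat.card ↥(Sq Q₁ ⊔ Sq Q₂ ⊔ Sq Q₃ ⊔ Subgroup.zpowers c)
      ≤ (Nat.card ↥(Sq Q₁) * Nat.card ↥(Sq Q₂) * Nat.card ↥(Sq Q₃)) * 2 :=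
    u3.trans (Nat.mul_le_mul (u2.trans (Nat.mul_le_mul_right _ u1)) u4)
  have A4 := A1.trans (A2.trans (b2.trans (b3.trans (hk.trans (Nat.mul_le_mul_left 16 A3)))))
  have hR : 0 < Nat.card ↥(Sq Q₁) * Nat.card ↥(Sq Q₂) * Nat.card ↥(Sq Q₃) :=
    Nat.mul_pos (Nat.mul_pos p1 p2) p3
  have e : 4 * Nat.card ↥(Sq Q₁) * (4 * Nat.card ↥(Sq Q₂)) * (4 * Nat.card ↥(Sq Q₃))
      = 64 * (Nat.card ↥(Sq Q₁) * Nat.card ↥(Sq Q₂) * Nat.card ↥(Sq Q₃)) := by ring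
  rw [e] at A4
  generalize Nat.card ↥(Sq Q₁) * Nat.card ↥(Sq Q₂) * Nat.card ↥(Sq Q₃) = R at A4 hR
  omega

/-- a subgroup commuting with and disjoint from a conjugate of itself has sectional rank `≤ 2` -/
theorem rank2 [Finite G]
    (hr : ∀ K N : Subgroup G, N ≤ K → (∀ x ∈ K, ∀ n ∈ N, x * n * x⁻¹ ∈ N) →
      (∀ x ∈ K, x ^ 2 ∈ N) → Nat.card K ≤ 16 * Nat.card N)
    (P : Subgroup G) (s : G) (hd : P ⊓ KJ.conjSub s P = ⊥)
    (hc : ∀ a ∈ P, ∀ b ∈ KJ.conjSub s P, a * b = b * a) :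
    Cfsg.SectionalPRankLE 2 2 ↥P := by
  apply sectional_of_card P
  intro K N hKP hNK hnorm hsq
  have hK' : KJ.conjSub s K ≤ KJ.conjSub s P := Subgroup.map_mono hKP
  have hN' : KJ.conjSub s N ≤ KJ.conjSub s K := Subgroup.map_mono hNK
  have hNP : N ≤ P := hNK.trans hKP
  have sec := sec2 K (KJ.conjSub s K) (N ⊔ KJ.conjSub s N)
    (fun x hx => conj_sup (fun n hn => mem_sup_left (hnorm x hx n hn))
      (fun n hn => by
        rw [hc x (hKP hx) n (hK' (hN' hn)), mul_inv_cancel_right]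
        exact mem_sup_right hn))
    (fun x hx => conj_sup
      (fun n hn => by
        rw [← hc n (hNP hn) x (hK' hx), mul_inv_cancel_right]
        exact mem_sup_left hn)
      (fun n hn => by
        apply mem_sup_right
        rw [KJ.mem_conjSub] at hx hn ⊢
        have e : s⁻¹ * (x * n * x⁻¹) * s = (s⁻¹ * x * s) * (s⁻¹ * n * s) * (s⁻¹ * x * s)⁻¹ := by
          group
        rw [e]
        exact hnorm _ hx _ hn))
    (fun x hx => mem_sup_left (hsq x hx))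
    (fun x hx => by
      apply mem_sup_right
      rw [KJ.mem_conjSub] at hx ⊢
      have e : s⁻¹ * x ^ 2 * s = (s⁻¹ * x * s) ^ 2 := by
        rw [pow_two, pow_two]; group
      rw [e]
      exact hsq _ hx)
    (fun x hx y hy => by
      rw [hc x (hKP hx) y (hK' hy), mul_inv_cancel_right, mul_inv_cancel]
      exact one_mem _)
  have h1 := hr (K ⊔ KJ.conjSub s K ⊔ (N ⊔ KJ.conjSub s N)) (N ⊔ KJ.conjSub s N) le_sup_right
    (fun x hx => (sec x hx).1) (fun x hx => (sec x hx).2)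
  have h2 : Nat.card K * Nat.card (KJ.conjSub s K) ≤ Nat.card ↥(K ⊔ KJ.conjSub s K) :=
    card_sup_ge K (KJ.conjSub s K) (eq_bot_iff.2 (by rw [← hd]; exact inf_le_inf hKP hK'))
  have h3 : Nat.card ↥(K ⊔ KJ.conjSub s K)
      ≤ Nat.card ↥(K ⊔ KJ.conjSub s K ⊔ (N ⊔ KJ.conjSub s N)) :=
    Subgroup.card_le_of_le le_sup_left
  have h4 : Nat.card ↥(N ⊔ KJ.conjSub s N) ≤ Nat.card N * Nat.card (KJ.conjSub s N) :=
    card_sup_le N (KJ.conjSub s N) (fun a ha b hb => hc a (hNP ha) b (hK' (hN' hb)))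
  rw [card_conjSub] at h2 h4
  have h5 : Nat.card K * Nat.card K ≤ (4 * Nat.card N) * (4 * Nat.card N) := by
    calc Nat.card K * Nat.card K ≤ 16 * Nat.card ↥(N ⊔ KJ.conjSub s N) := h2.trans (h3.trans h1)
      _ ≤ 16 * (Nat.card N * Nat.card N) := Nat.mul_le_mul_left _ h4
      _ = (4 * Nat.card N) * (4 * Nat.card N) := by ring
  exact Nat.mul_self_le_mul_self_iff.1 h5

end Cfsg.Agent.Helper10.SR4
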