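import Mathlib
import Cfsg.Agent.Helper10.SR4b

set_option autoImplicit false

/-! # 2-groups of sectional rank at most 4 (helper10): the main configuration

`P` non-abelian with centre `{1, z}`, `S₀ = C(z)` normalising `P`, `S₁ = S₀ ∪ s⁻¹ S₀` of index 2
over `S₀`.  Then `S₁` is the whole group. -/

namespace Cfsg.Agent.Helper10.SR4

open Subgroup
open scoped Pointwise

variable {G : Type*} [Group G]

/-- the configuration -/
structure Cfg (P S₀ S₁ : Subgroup G) (z s : G) : Prop where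
  pk : Pk P z
  mem0 : ∀ x, x ∈ S₀ ↔ x * z = z * x
  le : S₀ ≤ S₁
  hs : s ∈ S₁
  hs0 : s ∉ S₀
  cos : ∀ b ∈ S₁, s * b ∈ S₀ ∨ b ∈ S₀

/-- `u` lies outside `S₁` and normalises it -/
def Nu (S₁ : Subgroup G) (u : G) : Prop :=
  u ∉ S₁ ∧ (∀ x ∈ S₁, u * x * u⁻¹ ∈ S₁) ∧ (∀ x ∈ S₁, u⁻¹ * x * u ∈ S₁)

theorem nu_mul {S₁ : Subgroup G} {u s : G} (h : Nu S₁ u) (hs : s ∈ S₁) : Nu S₁ (u * s) := by
  refine ⟨fun hus => h.1 ?_, fun x hx => ?_, fun x hx => ?_⟩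
  · have e : u = (u * s) * s⁻¹ := by group
    rw [e]; exact mul_mem hus (inv_mem hs)
  · have e : u * s * x * (u * s)⁻¹ = u * (s * x * s⁻¹) * u⁻¹ := by group
    rw [e]; exact h.2.1 _ (mul_mem (mul_mem hs hx) (inv_mem hs))
  · have e : (u * s)⁻¹ * x * (u * s) = s⁻¹ * (u⁻¹ * x * u) * s := by group
    rw [e]; exact mul_mem (mul_mem (inv_mem hs) (h.2.2 x hx)) hs

theorem conj_le_of_nu {S₁ : Subgroup G} {u : G} (hu : Nu S₁ u) {Q : Subgroup G} (hQ : Q ≤ S₁) :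
    KJ.conjSub u Q ≤ S₁ := by
  intro x hx
  have h1 := hu.2.1 _ (hQ (KJ.mem_conjSub.1 hx))
  have e : u * (u⁻¹ * x * u) * u⁻¹ = x := by group
  rwa [e] at h1

namespace Cfg

variable {P S₀ S₁ : Subgroup G} {z s : G} (c : Cfg P S₀ S₁ z s)
include c

theorem ss : s * s ∈ S₀ := (c.cos s c.hs).resolve_right c.hs0

theorem nrm_s {x : G} (hx : x ∈ S₀) : s * x * s⁻¹ ∈ S₀ := by
  have h1 : s * x * s⁻¹ ∈ S₁ := mul_mem (mul_mem c.hs (c.le hx)) (inv_mem c.hs)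
  rcases c.cos _ h1 with h | h
  · exfalso
    apply c.hs0
    have e : s = (s * (s * x * s⁻¹))⁻¹ * ((s * s) * x) := by group
    rw [e]
    exact mul_mem (inv_mem h) (mul_mem c.ss hx)
  · exact h

theorem nrm_s' {x : G} (hx : x ∈ S₀) : s⁻¹ * x * s ∈ S₀ := by
  have e : s⁻¹ * x * s = (s * s)⁻¹ * (s * x * s⁻¹) * (s * s) := by group
  rw [e]
  exact mul_mem (mul_mem (inv_mem c.ss) (c.nrm_s hx)) c.ss

theorem P_le : P ≤ S₀ := fun x hx => (c.mem0 x).2 (c.pk.cen x hx)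

theorem mem0' (x : G) : x ∈ S₀ ↔ x * (s * z * s⁻¹) = (s * z * s⁻¹) * x := by
  constructor
  · intro hx
    have h := (c.mem0 _).1 (c.nrm_s' hx)
    calc x * (s * z * s⁻¹) = s * (s⁻¹ * x * s * z) * s⁻¹ := by group
      _ = s * (z * (s⁻¹ * x * s)) * s⁻¹ := by rw [h]
      _ = s * z * s⁻¹ * x := by group
  · intro h
    have h' : s⁻¹ * x * s * z = z * (s⁻¹ * x * s) := by
      calc s⁻¹ * x * s * z = s⁻¹ * (x * (s * z * s⁻¹)) * s := by group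
        _ = s⁻¹ * (s * z * s⁻¹ * x) * s := by rw [h]
        _ = z * (s⁻¹ * x * s) := by group
    have h2 := c.nrm_s ((c.mem0 _).2 h')
    have e : s * (s⁻¹ * x * s) * s⁻¹ = x := by group
    rwa [e] at h2

theorem pk2 : Pk (KJ.conjSub s P) (s * z * s⁻¹) := pk_conj c.pk s

theorem z_ne : z ≠ s * z * s⁻¹ := by
  intro e
  apply c.hs0
  rw [c.mem0]
  calc s * z = (s * z * s⁻¹) * s := by group
    _ = z * s := by rw [← e]

theorem P2_le : KJ.conjSub s P ≤ S₀ := by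
  intro x hx
  have h := c.nrm_s (c.P_le (KJ.mem_conjSub.1 hx))
  have e : s * (s⁻¹ * x * s) * s⁻¹ = x := by group
  rwa [e] at h

theorem disj [Finite G] (hG : IsPGroup 2 G) :
    P ⊓ KJ.conjSub s P = ⊥ ∧ ∀ a ∈ P, ∀ b ∈ KJ.conjSub s P, a * b = b * a :=
  pk_disj hG c.pk c.pk2 c.z_ne (fun x hx => (c.mem0' x).1 (c.P_le hx))
    (fun x hx => (c.mem0 x).1 (c.P2_le hx))

theorem A_le : P ⊔ KJ.conjSub s P ≤ S₁ := sup_le (c.P_le.trans c.le) (c.P2_le.trans c.le)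

theorem A_nrm0 {t : G} (ht : t ∈ S₀) :
    ∀ x ∈ P ⊔ KJ.conjSub s P, t * x * t⁻¹ ∈ P ⊔ KJ.conjSub s P :=
  conj_sup (fun x hx => mem_sup_left (c.pk.nrm t ((c.mem0 t).1 ht) x hx))
    (fun x hx => mem_sup_right (c.pk2.nrm t ((c.mem0' t).1 ht) x hx))

theorem A_nrm_s : ∀ x ∈ P ⊔ KJ.conjSub s P, s⁻¹ * x * s ∈ P ⊔ KJ.conjSub s P := by
  have h1 : ∀ x ∈ P, s⁻¹ * x * s⁻¹⁻¹ ∈ P ⊔ KJ.conjSub s P := by
    intro x hx
    apply mem_sup_right
    rw [KJ.mem_conjSub]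
    have e : s⁻¹ * (s⁻¹ * x * s⁻¹⁻¹) * s = (s * s)⁻¹ * x * (s * s)⁻¹⁻¹ := by
      simp only [inv_inv, mul_inv_rev, mul_assoc]
    rw [e]
    exact c.pk.nrm _ ((c.mem0 _).1 (inv_mem c.ss)) x hx
  have h2 : ∀ x ∈ KJ.conjSub s P, s⁻¹ * x * s⁻¹⁻¹ ∈ P ⊔ KJ.conjSub s P := by
    intro x hx
    rw [inv_inv]
    exact mem_sup_left (KJ.mem_conjSub.1 hx)
  intro x hx
  have h3 := conj_sup h1 h2 x hx
  rwa [inv_inv] at h3

theorem A_nrm {t : G} (ht : t ∈ S₁) :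
    ∀ x ∈ P ⊔ KJ.conjSub s P, t * x * t⁻¹ ∈ P ⊔ KJ.conjSub s P := by
  intro x hx
  rcases c.cos t ht with h | h
  · have e : t * x * t⁻¹ = s⁻¹ * ((s * t) * x * (s * t)⁻¹) * s := by group
    rw [e]
    exact c.A_nrm_s _ (c.A_nrm0 h x hx)
  · exact c.A_nrm0 h x hx

theorem e2 : s * (s * z * s⁻¹) = z * s := by
  have h := (c.mem0 _).1 c.ss
  calc s * (s * z * s⁻¹) = (s * s * z) * s⁻¹ := by group
    _ = z * (s * s) * s⁻¹ := by rw [h]
    _ = z * s := by group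

theorem zz2 : z * (s * z * s⁻¹) = (s * z * s⁻¹) * z := (c.mem0' z).1 (c.P_le c.pk.mem)

theorem c_cen {t : G} (ht : t ∈ S₁) :
    t * (z * (s * z * s⁻¹)) = (z * (s * z * s⁻¹)) * t := by
  have h0 : ∀ t ∈ S₀, Commute t (z * (s * z * s⁻¹)) := fun t ht =>
    Commute.mul_right (show Commute t z from (c.mem0 t).1 ht)
      (show Commute t (s * z * s⁻¹) from (c.mem0' t).1 ht)
  have hs : Commute s (z * (s * z * s⁻¹)) := by
    show s * (z * (s * z * s⁻¹)) = (z * (s * z * s⁻¹)) * s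
    calc s * (z * (s * z * s⁻¹)) = (s * z * s⁻¹) * (s * (s * z * s⁻¹)) := by group
      _ = (s * z * s⁻¹) * (z * s) := by rw [c.e2]
      _ = ((s * z * s⁻¹) * z) * s := by group
      _ = (z * (s * z * s⁻¹)) * s := by rw [← c.zz2]
  rcases c.cos t ht with h | h
  · have h3 : Commute (s⁻¹ * (s * t)) (z * (s * z * s⁻¹)) := (hs.inv_left).mul_left (h0 _ h)
    rw [inv_mul_cancel_left] at h3
    exact h3
  · exact h0 t h

theorem c_sq : (z * (s * z * s⁻¹)) * (z * (s * z * s⁻¹)) = 1 := by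
  have h1 := c.pk.sq
  have h2 := c.pk2.sq
  have h3 := c.zz2
  calc (z * (s * z * s⁻¹)) * (z * (s * z * s⁻¹))
      = z * ((s * z * s⁻¹) * z) * (s * z * s⁻¹) := by group
    _ = z * (z * (s * z * s⁻¹)) * (s * z * s⁻¹) := by rw [← h3]
    _ = (z * z) * ((s * z * s⁻¹) * (s * z * s⁻¹)) := by
      simp only [mul_assoc]
    _ = 1 := by rw [h1, h2, one_mul]

theorem c_ne : z * (s * z * s⁻¹) ≠ 1 := by
  intro e
  apply c.z_ne
  have hzi : z⁻¹ = z := inv_eq_of_mul_eq_one_right c.pk.sq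
  calc z = z⁻¹ := hzi.symm
    _ = s * z * s⁻¹ := inv_eq_of_mul_eq_one_right e

theorem c'_cen {u : G} (hu : Nu S₁ u) {t : G} (ht : t ∈ S₁) :
    t * (u * (z * (s * z * s⁻¹)) * u⁻¹) = (u * (z * (s * z * s⁻¹)) * u⁻¹) * t := by
  have h := c.c_cen (hu.2.2 t ht)
  generalize z * (s * z * s⁻¹) = C at h ⊢
  calc t * (u * C * u⁻¹) = u * (u⁻¹ * t * u * C) * u⁻¹ := by group
    _ = u * (C * (u⁻¹ * t * u)) * u⁻¹ := by rw [h]
    _ = u * C * u⁻¹ * t := by group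

theorem c'_sq (u : G) :
    (u * (z * (s * z * s⁻¹)) * u⁻¹) * (u * (z * (s * z * s⁻¹)) * u⁻¹) = 1 := by
  have h := c.c_sq
  generalize z * (s * z * s⁻¹) = C at h ⊢
  have e : (u * C * u⁻¹) * (u * C * u⁻¹) = u * (C * C) * u⁻¹ := by group
  rw [e, h]; group

theorem orb {b : G} (hb : b ∈ S₁) : b * z * b⁻¹ = z ∨ b * z * b⁻¹ = s * z * s⁻¹ := by
  rcases c.cos b hb with h | h
  · right
    have h1 := (c.mem0 _).1 h
    have h2 := (c.mem0 _).1 c.ss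
    calc b * z * b⁻¹ = s⁻¹ * (s * b * z) * b⁻¹ := by group
      _ = s⁻¹ * (z * (s * b)) * b⁻¹ := by rw [h1]
      _ = s⁻¹ * (z * (s * s)) * s⁻¹ := by group
      _ = s⁻¹ * (s * s * z) * s⁻¹ := by rw [h2]
      _ = s * z * s⁻¹ := by group
  · left
    have h1 := (c.mem0 _).1 h
    rw [h1, mul_inv_cancel_right]

/-- if the conjugate `u z u⁻¹` lies in `A = P * P^s` then it equals `z * z^s` -/
theorem LC [Finite G] (hG : IsPGroup 2 G) {u : G} (hu : Nu S₁ u)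
    (hA : u * z * u⁻¹ ∈ P ⊔ KJ.conjSub s P) : u * z * u⁻¹ = z * (s * z * s⁻¹) := by
  obtain ⟨hd, hcomm⟩ := c.disj hG
  obtain ⟨nr1, nr2⟩ := nrm_of_comm hcomm
  have hact : ∀ a ∈ S₁, a * (u * z * u⁻¹) * a⁻¹ * (u * z * u⁻¹)⁻¹ = 1 ∨
      a * (u * z * u⁻¹) * a⁻¹ * (u * z * u⁻¹)⁻¹ = u * (z * (s * z * s⁻¹)) * u⁻¹ := by
    intro a ha
    have e : a * (u * z * u⁻¹) * a⁻¹ * (u * z * u⁻¹)⁻¹
        = u * ((u⁻¹ * a * u) * z * (u⁻¹ * a * u)⁻¹) * u⁻¹ * (u * z * u⁻¹)⁻¹ := by group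
    rcases c.orb (hu.2.2 a ha) with h | h
    · left
      rw [e, h]; group
    · right
      rw [e, h]
      have hzi : z⁻¹ = z := inv_eq_of_mul_eq_one_right c.pk.sq
      calc u * (s * z * s⁻¹) * u⁻¹ * (u * z * u⁻¹)⁻¹ = u * ((s * z * s⁻¹) * z⁻¹) * u⁻¹ := by group
        _ = u * ((s * z * s⁻¹) * z) * u⁻¹ := by rw [hzi]
        _ = u * (z * (s * z * s⁻¹)) * u⁻¹ := by rw [← c.zz2]
  have hc'P : u * (z * (s * z * s⁻¹)) * u⁻¹ ∉ P := by
    intro hmem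
    rcases c.pk.zc _ hmem (fun x hx => c.c'_cen hu (c.le (c.P_le hx))) with h | h
    · apply c.c_ne
      have e : z * (s * z * s⁻¹) = u⁻¹ * (u * (z * (s * z * s⁻¹)) * u⁻¹) * u := by group
      rw [e, h]; group
    · apply c.hs0
      rw [c.mem0]
      have h1 := c.c'_cen hu c.hs
      rw [h] at h1
      exact h1
  have hc'P2 : u * (z * (s * z * s⁻¹)) * u⁻¹ ∉ KJ.conjSub s P := by
    intro hmem
    rcases c.pk2.zc _ hmem (fun x hx => c.c'_cen hu (c.le (c.P2_le hx))) with h | h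
    · apply c.c_ne
      have e : z * (s * z * s⁻¹) = u⁻¹ * (u * (z * (s * z * s⁻¹)) * u⁻¹) * u := by group
      rw [e, h]; group
    · apply c.z_ne
      have h1 := c.c'_cen hu c.hs
      rw [h] at h1
      rw [c.e2] at h1
      exact mul_right_cancel h1
  have cen1 : ∀ a ∈ P, a * (u * z * u⁻¹) = (u * z * u⁻¹) * a := by
    intro a ha
    rcases hact a (c.le (c.P_le ha)) with h | h
    · calc a * (u * z * u⁻¹)
          = (a * (u * z * u⁻¹) * a⁻¹ * (u * z * u⁻¹)⁻¹) * ((u * z * u⁻¹) * a) := by group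
        _ = (u * z * u⁻¹) * a := by rw [h, one_mul]
    · exfalso
      apply hc'P
      rw [← h]
      have e : a * (u * z * u⁻¹) * a⁻¹ * (u * z * u⁻¹)⁻¹
          = a * ((u * z * u⁻¹) * a⁻¹ * (u * z * u⁻¹)⁻¹) := by group
      rw [e]
      exact mul_mem ha (nr1 _ hA _ (inv_mem ha))
  have cen2 : ∀ a ∈ KJ.conjSub s P, a * (u * z * u⁻¹) = (u * z * u⁻¹) * a := by
    intro a ha
    rcases hact a (c.le (c.P2_le ha)) with h | h
    · calc a * (u * z * u⁻¹)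
          = (a * (u * z * u⁻¹) * a⁻¹ * (u * z * u⁻¹)⁻¹) * ((u * z * u⁻¹) * a) := by group
        _ = (u * z * u⁻¹) * a := by rw [h, one_mul]
    · exfalso
      apply hc'P2
      rw [← h]
      have e : a * (u * z * u⁻¹) * a⁻¹ * (u * z * u⁻¹)⁻¹
          = a * ((u * z * u⁻¹) * a⁻¹ * (u * z * u⁻¹)⁻¹) := by group
      rw [e]
      exact mul_mem ha (nr2 _ hA _ (inv_mem ha))
  rcases pair_center c.pk c.pk2 hcomm hA cen1 cen2 with h | h | h | h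
  · exfalso
    apply c.pk.ne
    have e : z = u⁻¹ * (u * z * u⁻¹) * u := by group
    rw [e, h]; group
  · exfalso
    apply hu.1
    apply c.le
    rw [c.mem0]
    calc u * z = (u * z * u⁻¹) * u := by group
      _ = z * u := by rw [h]
  · exfalso
    apply hu.1
    have h1 : s⁻¹ * u ∈ S₀ := by
      rw [c.mem0]
      calc s⁻¹ * u * z = s⁻¹ * (u * z * u⁻¹) * u := by group
        _ = s⁻¹ * (s * z * s⁻¹) * u := by rw [h]
        _ = z * (s⁻¹ * u) := by group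
    have e : u = s * (s⁻¹ * u) := by group
    rw [e]
    exact mul_mem c.hs (c.le h1)
  · exact h

/-- the conjugate `u z u⁻¹` lies in `A = P * P^s` -/
theorem LA [Finite G] (hG : IsPGroup 2 G)
    (hr : ∀ K N : Subgroup G, N ≤ K → (∀ x ∈ K, ∀ n ∈ N, x * n * x⁻¹ ∈ N) →
      (∀ x ∈ K, x ^ 2 ∈ N) → Nat.card K ≤ 16 * Nat.card N)
    {u : G} (hu : Nu S₁ u) : u * z * u⁻¹ ∈ P ⊔ KJ.conjSub s P := by
  by_contra hz3
  obtain ⟨hd, hcomm⟩ := c.disj hG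
  obtain ⟨nr1, nr2⟩ := nrm_of_comm hcomm
  have hAle := c.A_le
  have hz4 : u * (s * z * s⁻¹) * u⁻¹ ∉ P ⊔ KJ.conjSub s P := by
    intro h
    apply hz3
    have ht : (u * s * u⁻¹)⁻¹ ∈ S₁ := inv_mem (hu.2.1 s c.hs)
    have h1 := c.A_nrm ht _ h
    have e : (u * s * u⁻¹)⁻¹ * (u * (s * z * s⁻¹) * u⁻¹) * (u * s * u⁻¹)⁻¹⁻¹ = u * z * u⁻¹ := by
      group
    rwa [e] at h1
  have key : ∀ (Q : Subgroup G) (w : G), Pk Q w → Q ≤ S₀ →
      (∀ g ∈ P ⊔ KJ.conjSub s P, ∀ x ∈ Q, g * x * g⁻¹ ∈ Q) →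
      u * w * u⁻¹ ∉ P ⊔ KJ.conjSub s P →
      (P ⊔ KJ.conjSub s P) ⊓ KJ.conjSub u Q = ⊥ ∧
      ∀ g ∈ P ⊔ KJ.conjSub s P, g ∈ KJ.conjSub u (P ⊔ KJ.conjSub s P) →
        ∀ y ∈ Q, y * (u⁻¹ * g * u) = (u⁻¹ * g * u) * y := by
    intro Q w hpk hQ0 hAQ hw
    have hQ1 : KJ.conjSub u Q ≤ S₁ := conj_le_of_nu hu (hQ0.trans c.le)
    have hdQ : (P ⊔ KJ.conjSub s P) ⊓ KJ.conjSub u Q = ⊥ := by
      by_contra hne
      apply hw
      have h1 := pk_min hG (pk_conj hpk u) _ inf_le_right hne (fun x hx d hd' =>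
        Subgroup.mem_inf.2 ⟨c.A_nrm (hQ1 hx) d (Subgroup.mem_inf.1 hd').1,
          mul_mem (mul_mem hx (Subgroup.mem_inf.1 hd').2) (inv_mem hx)⟩)
      exact (Subgroup.mem_inf.1 h1).1
    refine ⟨hdQ, ?_⟩
    intro g hgA hgA' y hy
    have hy' : u * y * u⁻¹ ∈ KJ.conjSub u Q := conj_mem_conjSub hy
    have hm : g * (u * y * u⁻¹) * g⁻¹ * (u * y * u⁻¹)⁻¹
        ∈ (P ⊔ KJ.conjSub s P) ⊓ KJ.conjSub u Q := by
      refine Subgroup.mem_inf.2 ⟨?_, ?_⟩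
      · have e : g * (u * y * u⁻¹) * g⁻¹ * (u * y * u⁻¹)⁻¹
            = g * ((u * y * u⁻¹) * g⁻¹ * (u * y * u⁻¹)⁻¹) := by group
        rw [e]
        exact mul_mem hgA (c.A_nrm (hQ1 hy') _ (inv_mem hgA))
      · refine mul_mem ?_ (inv_mem hy')
        rw [KJ.mem_conjSub]
        have e : u⁻¹ * (g * (u * y * u⁻¹) * g⁻¹) * u
            = (u⁻¹ * g * u) * y * (u⁻¹ * g * u)⁻¹ := by group
        rw [e]
        exact hAQ _ (KJ.mem_conjSub.1 hgA') y hy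
    rw [hdQ, Subgroup.mem_bot] at hm
    calc y * (u⁻¹ * g * u)
        = u⁻¹ * (g * (u * y * u⁻¹) * g⁻¹ * (u * y * u⁻¹)⁻¹)⁻¹ * g * u * y := by group
      _ = (u⁻¹ * g * u) * y := by rw [hm]; group
  obtain ⟨d3, k3⟩ := key P z c.pk c.P_le nr1 hz3
  obtain ⟨d4, k4⟩ := key (KJ.conjSub s P) (s * z * s⁻¹) c.pk2 c.P2_le nr2 hz4
  have hA'n : ∀ t ∈ S₁, ∀ x ∈ KJ.conjSub u (P ⊔ KJ.conjSub s P),
      t * x * t⁻¹ ∈ KJ.conjSub u (P ⊔ KJ.conjSub s P) := by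
    intro t ht x hx
    rw [KJ.mem_conjSub] at hx ⊢
    have e : u⁻¹ * (t * x * t⁻¹) * u = (u⁻¹ * t * u) * (u⁻¹ * x * u) * (u⁻¹ * t * u)⁻¹ := by
      group
    rw [e]
    exact c.A_nrm (hu.2.2 t ht) _ hx
  have hP3A' : KJ.conjSub u P ≤ KJ.conjSub u (P ⊔ KJ.conjSub s P) :=
    Subgroup.map_mono le_sup_left
  have hP3S : KJ.conjSub u P ≤ S₁ := conj_le_of_nu hu (c.P_le.trans c.le)
  have hcl : ∀ a ∈ P ⊔ KJ.conjSub s P, ∀ x ∈ KJ.conjSub u P,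
      a * x = x * a ∨ a * x = (u * (z * (s * z * s⁻¹)) * u⁻¹) * (x * a) := by
    intro a ha x hx
    have hxS : x ∈ S₁ := hP3S hx
    have hgA : a * x * a⁻¹ * x⁻¹ ∈ P ⊔ KJ.conjSub s P := by
      have e : a * x * a⁻¹ * x⁻¹ = a * (x * a⁻¹ * x⁻¹) := by group
      rw [e]; exact mul_mem ha (c.A_nrm hxS _ (inv_mem ha))
    have hgA' : a * x * a⁻¹ * x⁻¹ ∈ KJ.conjSub u (P ⊔ KJ.conjSub s P) :=
      mul_mem (hA'n a (hAle ha) x (hP3A' hx)) (inv_mem (hP3A' hx))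
    have hg' : u⁻¹ * (a * x * a⁻¹ * x⁻¹) * u ∈ P ⊔ KJ.conjSub s P := KJ.mem_conjSub.1 hgA'
    rcases pair_center c.pk c.pk2 hcomm hg' (k3 _ hgA hgA') (k4 _ hgA hgA') with h | h | h | h
    · left
      have hk : a * x * a⁻¹ * x⁻¹ = 1 := by
        have e : a * x * a⁻¹ * x⁻¹ = u * (u⁻¹ * (a * x * a⁻¹ * x⁻¹) * u) * u⁻¹ := by group
        rw [e, h]; group
      calc a * x = (a * x * a⁻¹ * x⁻¹) * (x * a) := by group
        _ = x * a := by rw [hk, one_mul]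
    · exfalso; apply hz3
      have e : u * z * u⁻¹ = a * x * a⁻¹ * x⁻¹ := by
        rw [← h]; group
      rw [e]; exact hgA
    · exfalso; apply hz4
      have e : u * (s * z * s⁻¹) * u⁻¹ = a * x * a⁻¹ * x⁻¹ := by
        rw [← h]; group
      rw [e]; exact hgA
    · right
      have hk : a * x * a⁻¹ * x⁻¹ = u * (z * (s * z * s⁻¹)) * u⁻¹ := by
        rw [← h]; group
      calc a * x = (a * x * a⁻¹ * x⁻¹) * (x * a) := by group
        _ = _ := by rw [hk]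
  have hCc : ∀ t ∈ S₁, t * (u * (z * (s * z * s⁻¹)) * u⁻¹)
      = (u * (z * (s * z * s⁻¹)) * u⁻¹) * t := fun t ht => c.c'_cen hu ht
  exact three hG hr P (KJ.conjSub s P) (KJ.conjSub u P) (u * (z * (s * z * s⁻¹)) * u⁻¹)
    c.pk.nab c.pk2.nab (pk_conj c.pk u).nab (c.c'_sq u)
    (fun x hx => hCc x (hAle hx)) (fun x hx => hCc x (hP3S hx)) hcomm hcl hd d3

theorem no_u [Finite G] (hG : IsPGroup 2 G)
    (hr : ∀ K N : Subgroup G, N ≤ K → (∀ x ∈ K, ∀ n ∈ N, x * n * x⁻¹ ∈ N) →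
      (∀ x ∈ K, x ^ 2 ∈ N) → Nat.card K ≤ 16 * Nat.card N)
    {u : G} (hu : Nu S₁ u) : False := by
  have e1 := c.LC hG hu (c.LA hG hr hu)
  have hu' := nu_mul hu c.hs
  have e2 := c.LC hG hu' (c.LA hG hr hu')
  apply c.z_ne
  have e3 : u * z * u⁻¹ = u * s * z * (u * s)⁻¹ := e1.trans e2.symm
  calc z = u⁻¹ * (u * z * u⁻¹) * u := by group
    _ = u⁻¹ * (u * s * z * (u * s)⁻¹) * u := by rw [e3]
    _ = s * z * s⁻¹ := by group

end Cfg

theorem exists_pk (P : Subgroup G) (hP : ¬ IsMulCommutative ↥P)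
    (hZP : Nat.card ↥(Subgroup.center ↥P) = 2) (S₀ : Subgroup G)
    (hS₀ : S₀ = Subgroup.centralizer
      (((Subgroup.center ↥P).map P.subtype : Subgroup G) : Set G))
    (hPn : ∀ s ∈ S₀, ∀ x ∈ P, s * x * s⁻¹ ∈ P) :
    ∃ z : G, Pk P z ∧ ∀ s, s ∈ S₀ ↔ s * z = z * s := by
  obtain ⟨ζ, hζ, huniq⟩ := (Nat.card_eq_two_iff' (1 : ↥(Subgroup.center ↥P))).1 hZP
  have hmem : ∀ s, s ∈ S₀ ↔ s * ((ζ : ↥P) : G) = ((ζ : ↥P) : G) * s := by
    intro s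
    rw [hS₀, Subgroup.mem_centralizer_iff]
    constructor
    · intro h
      exact (h _ (Subgroup.mem_map.2 ⟨(ζ : ↥P), ζ.2, rfl⟩)).symm
    · intro h g hg
      obtain ⟨y, hy, rfl⟩ := Subgroup.mem_map.1 hg
      by_cases e : (⟨y, hy⟩ : ↥(Subgroup.center ↥P)) = 1
      · have e' : y = 1 := congrArg Subtype.val e
        rw [e']; simp
      · have e1 := huniq _ e
        have e' : y = (ζ : ↥P) := congrArg Subtype.val e1
        rw [e']; exact h.symm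
  refine ⟨((ζ : ↥P) : G), ⟨(ζ : ↥P).2, ?_, ?_, ?_, ?_, ?_, ?_⟩, hmem⟩
  · intro e
    apply hζ
    apply Subtype.ext
    apply Subtype.ext
    exact e
  · have h2 : ζ * ζ = 1 := by
      by_contra hne
      have h3 := huniq _ hne
      exact hζ (mul_right_cancel (h3.trans (one_mul ζ).symm))
    have h4 := congrArg (fun y : ↥(Subgroup.center ↥P) => ((y : ↥P) : G)) h2
    exact h4
  · intro x hx
    exact congrArg Subtype.val (Subgroup.mem_center_iff.1 ζ.2 ⟨x, hx⟩)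
  · intro y hy hyc
    by_cases e : (⟨⟨y, hy⟩, Subgroup.mem_center_iff.2 (fun g => Subtype.ext (hyc g.1 g.2))⟩ :
        ↥(Subgroup.center ↥P)) = 1
    · left
      exact congrArg (fun y : ↥(Subgroup.center ↥P) => ((y : ↥P) : G)) e
    · right
      exact congrArg (fun y : ↥(Subgroup.center ↥P) => ((y : ↥P) : G)) (huniq _ e)
  · by_contra hcon
    push Not at hcon
    exact hP ((KJ.isMulComm_iff P).2 (fun a ha b hb => hcon a ha b hb))
  · intro s hs x hx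
    exact hPn s ((hmem s).2 hs) x hx

theorem exists_S1 [Finite G] (hG : IsPGroup 2 G) (S₀ : Subgroup G) (h : S₀ ≠ ⊤) :
    ∃ S₁ : Subgroup G, S₀ ≤ S₁ ∧ S₀.relIndex S₁ = 2 := by
  have : Fact (Nat.Prime 2) := ⟨Nat.prime_two⟩
  obtain ⟨m, hm⟩ := IsPGroup.iff_card.1 hG
  obtain ⟨n, hn⟩ := IsPGroup.iff_card.1 (hG.to_subgroup S₀)
  have hlt : n < m := by
    have h1 : Nat.card S₀ < Nat.card G := by
      by_contra hcon
      push Not at hcon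
      exact h ((Subgroup.card_eq_iff_eq_top S₀).1
        (le_antisymm (Subgroup.card_le_card_group S₀) hcon))
    rw [hn, hm] at h1
    exact (Nat.pow_lt_pow_iff_right (by norm_num)).1 h1
  obtain ⟨S₁, hS₁, hle⟩ := Sylow.exists_subgroup_card_pow_succ (p := 2) (n := n)
    (by rw [hm]; exact pow_dvd_pow 2 hlt) hn
  refine ⟨S₁, hle, ?_⟩
  have h3 := KJ.card_mul_relIndex' hle
  rw [hn, hS₁, pow_succ] at h3
  exact Nat.eq_of_mul_eq_mul_left (by positivity) h3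

/-- S4401 -/
theorem main {S : Type*} [Group S] [Finite S] (h2 : IsPGroup 2 S)
    (hr : Cfsg.SectionalPRankLE 2 4 S) (P : Subgroup S) (hP : ¬ IsMulCommutative ↥P)
    (hZP : Nat.card ↥(Subgroup.center ↥P) = 2) (S₀ : Subgroup S)
    (hS₀ : S₀ = Subgroup.centralizer
      (((Subgroup.center ↥P).map P.subtype : Subgroup S) : Set S))
    (hPn : ∀ s ∈ S₀, ∀ x ∈ P, s * x * s⁻¹ ∈ P) :
    S₀ = ⊤ ∨ (Cfsg.SectionalPRankLE 2 2 ↥P ∧ S₀.index = 2) := by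
  by_cases hS : S₀ = ⊤
  · exact Or.inl hS
  right
  have : Fact (Nat.Prime 2) := ⟨Nat.prime_two⟩
  obtain ⟨z, pk, hmem⟩ := exists_pk P hP hZP S₀ hS₀ hPn
  obtain ⟨S₁, hle, hrel⟩ := exists_S1 h2 S₀ hS
  obtain ⟨s, hs, hs0, hcos⟩ := Subgroup.relIndex_eq_two_iff_exists_notMem_and'.1 hrel
  have c : Cfg P S₀ S₁ z s := ⟨pk, hmem, hle, hs, hs0, hcos⟩
  have hr4 : ∀ K N : Subgroup S, N ≤ K → (∀ x ∈ K, ∀ n ∈ N, x * n * x⁻¹ ∈ N) →
      (∀ x ∈ K, x ^ 2 ∈ N) → Nat.card K ≤ 16 * Nat.card N := by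
    intro K N a b d
    have h := card_le_of_sectional hr K N a b d
    rwa [show (2:ℕ) ^ 4 = 16 by norm_num] at h
  have hS₁ : S₁ = ⊤ := by
    by_contra hne
    have : Group.IsNilpotent S := h2.isNilpotent
    have hlt := Group.normalizerCondition_of_isNilpotent (G := S) S₁ (lt_top_iff_ne_top.2 hne)
    obtain ⟨u, hu, hu'⟩ := SetLike.exists_of_lt hlt
    rw [Subgroup.mem_normalizer_iff] at hu
    refine c.no_u h2 hr4 (u := u) ⟨hu', fun x hx => (hu x).1 hx, fun x hx => ?_⟩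
    apply (hu _).2
    have e : u * (u⁻¹ * x * u) * u⁻¹ = x := by group
    rw [e]; exact hx
  obtain ⟨hd, hcomm⟩ := c.disj h2
  refine ⟨rank2 hr4 P s hd hcomm, ?_⟩
  rw [hS₁, Subgroup.relIndex_top_right] at hrel
  exact hrel

end Cfsg.Agent.Helper10.SR4
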