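import Mathlib

set_option autoImplicit false

open scoped Pointwise

namespace Cfsg.Agent.Helper10

/-- Sylow's theorem inside a subgroup `C` that contains a Sylow `p`-subgroup `T` of `G`:
every `p`-subgroup `Q` of `C` is conjugate, by an element of `C`, into `T`. -/
theorem exists_conj_mem_sylow_of_le {G : Type*} [Group G] [Finite G] {p : ℕ} [Fact p.Prime]
    (C : Subgroup G) (T : Sylow p G) (hT : (T : Subgroup G) ≤ C) (Q : Subgroup G)
    (hQ : IsPGroup p Q) (hQC : Q ≤ C) :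
    ∃ h ∈ C, ∀ x ∈ Q, h⁻¹ * x * h ∈ (T : Subgroup G) := by
  have hQ' : IsPGroup p (Q.subgroupOf C) := hQ.comap_subtype
  obtain ⟨R, hR⟩ := hQ'.exists_le_sylow
  obtain ⟨h, hh⟩ := MulAction.exists_smul_eq C (T.subtype hT) R
  refine ⟨h, h.2, fun x hx => ?_⟩
  have hx' : (⟨x, hQC hx⟩ : C) ∈ Q.subgroupOf C := by
    rw [Subgroup.mem_subgroupOf]; exact hx
  have hxR : (⟨x, hQC hx⟩ : C) ∈ R := hR hx'
  rw [← hh] at hxR
  have hxR' : (⟨x, hQC hx⟩ : C) ∈ (MulAut.conj h • ((T.subtype hT : Sylow p C) : Subgroup C)) := hxR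
  rw [Subgroup.mem_smul_pointwise_iff_exists] at hxR'
  obtain ⟨t, ht, hte⟩ := hxR'
  have ht' : (t : G) ∈ (T : Subgroup G) := by
    have : t ∈ (T : Subgroup G).subgroupOf C := by
      rw [← Sylow.coe_subtype]; exact ht
    exact Subgroup.mem_subgroupOf.1 this
  have hte' : (h : G) * t * (h : G)⁻¹ = x := by
    have := congrArg Subtype.val hte
    simpa [MulAut.smul_def] using this
  rw [← hte']
  have : (h : G)⁻¹ * ((h : G) * t * (h : G)⁻¹) * h = t := by group
  rw [this]; exact ht'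

end Cfsg.Agent.Helper10
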