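import Mathlib
import Cfsg.Agent.Helper10.SR4a
import Cfsg.Agent.Helper10.E8a

set_option autoImplicit false
set_option maxHeartbeats 1000000
set_option linter.unusedSimpArgs false
set_option linter.unusedSectionVars false

/-! # The group `3^2 : D_8` acting irreducibly in characteristic 2 (helper10)

A configuration `Cfg c d r s` is a generating quadruple of a group satisfying the relations of
`3^2 : D_8`; the relations form a confluent rewriting system, used through `simp only`. The core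
lemma computes a faithful irreducible module which is the sum of the fixed points of `c` and `d`. -/

namespace Cfsg.Agent.Helper10.T72

variable {S : Type*} [Group S] {M : Type*} [AddCommGroup M] [Module (ZMod 2) M]

theorem add_self2 (m : M) : m + m = 0 := by
  have h : (1 : ZMod 2) + 1 = 0 := by decide
  calc m + m = (1 : ZMod 2) • m + (1 : ZMod 2) • m := by rw [one_smul]
    _ = ((1 : ZMod 2) + 1) • m := by rw [add_smul]
    _ = 0 := by rw [h, zero_smul]

theorem eq_of_add_eq_zero2 {x y : M} (h : x + y = 0) : y = x := by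
  calc y = (x + x) + y := by rw [add_self2, zero_add]
    _ = x + (x + y) := add_assoc _ _ _
    _ = x := by rw [h, add_zero]

theorem z2 (a : ZMod 2) : a = 0 ∨ a = 1 := by revert a; decide

theorem act_mul (ρ : Representation (ZMod 2) S M) (g h : S) (m : M) :
    ρ (g * h) m = ρ g (ρ h m) := by
  rw [map_mul]; rfl

theorem act_one (ρ : Representation (ZMod 2) S M) (m : M) : ρ 1 m = m := by
  rw [map_one]; rfl

theorem word_eq (ρ : Representation (ZMod 2) S M) {g h : S} (e : g = h) (m : M) :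
    ρ g m = ρ h m := by rw [e]

theorem word_one (ρ : Representation (ZMod 2) S M) {g : S} (e : g = 1) (m : M) :
    ρ g m = m := by rw [e, act_one]

/-- the fixed points of an endomorphism -/
def fixM (f : M →ₗ[ZMod 2] M) : Submodule (ZMod 2) M where
  carrier := {m | f m = m}
  add_mem' := by
    intro a b ha hb
    show f (a + b) = a + b
    rw [map_add, show f a = a from ha, show f b = b from hb]
  zero_mem' := map_zero f
  smul_mem' := by
    intro k a ha
    show f (k • a) = k • a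
    rw [map_smul, show f a = a from ha]

theorem mem_fixM {f : M →ₗ[ZMod 2] M} {m : M} : m ∈ fixM f ↔ f m = m := Iff.rfl

/-- the stabiliser of a vector -/
def stab (ρ : Representation (ZMod 2) S M) (m : M) : Subgroup S where
  carrier := {g | ρ g m = m}
  mul_mem' := by
    intro a b ha hb
    show ρ (a * b) m = m
    rw [act_mul, show ρ b m = m from hb, show ρ a m = m from ha]
  one_mem' := act_one ρ m
  inv_mem' := by
    intro a ha
    show ρ a⁻¹ m = m
    have h : ρ a m = m := ha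
    calc ρ a⁻¹ m = ρ a⁻¹ (ρ a m) := by rw [h]
      _ = m := by rw [← act_mul, inv_mul_cancel, act_one]

theorem mem_stab {ρ : Representation (ZMod 2) S M} {m : M} {g : S} : g ∈ stab ρ m ↔ ρ g m = m :=
  Iff.rfl

/-- invariance under generators implies invariance -/
theorem inv_of_gens [Finite S] (ρ : Representation (ZMod 2) S M) (N : Submodule (ZMod 2) M)
    (gens : Set S) (hgen : Subgroup.closure gens = ⊤) (h : ∀ g ∈ gens, ∀ m ∈ N, ρ g m ∈ N) :
    ∀ g : S, ∀ m ∈ N, ρ g m ∈ N := by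
  let Hm : Submonoid S :=
    { carrier := {g | ∀ m ∈ N, ρ g m ∈ N}
      mul_mem' := by
        intro a b ha hb m hm
        rw [act_mul]; exact ha _ (hb m hm)
      one_mem' := by
        intro m hm
        rw [act_one]; exact hm }
  let H : Subgroup S :=
    { Hm with
      inv_mem' := by
        intro a ha
        have e : a⁻¹ = a ^ (orderOf a - 1) := by
          apply inv_eq_of_mul_eq_one_right
          rw [← pow_succ', Nat.sub_add_cancel (orderOf_pos a), pow_orderOf_eq_one]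
        show a⁻¹ ∈ Hm
        rw [e]; exact pow_mem (show a ∈ Hm from ha) _ }
  have hle : Subgroup.closure gens ≤ H := (Subgroup.closure_le H).2 (fun g hg => h g hg)
  intro g
  exact hle (by rw [hgen]; trivial)

/-- a generating quadruple with the relations of `3^2 : D_8` -/
structure Cfg (c d r s : S) : Prop where
  c3 : c * (c * c) = 1
  d3 : d * (d * d) = 1
  dc : d * c = c * d
  r4 : r * (r * (r * r)) = 1
  s2 : s * s = 1
  rc : r * c = d * r
  rd : r * d = c * (c * r)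
  sc : s * c = c * s
  sd : s * d = d * (d * s)
  sr : s * r = r * (r * (r * s))
  gen : Subgroup.closure {c, d, r, s} = ⊤

theorem Cfg.c3x {c d r s : S} (h : Cfg c d r s) (x : S) : c * (c * (c * x)) = x := by
  calc c * (c * (c * x)) = (c * (c * c)) * x := by group
    _ = x := by rw [h.c3, one_mul]

theorem Cfg.d3x {c d r s : S} (h : Cfg c d r s) (x : S) : d * (d * (d * x)) = x := by
  calc d * (d * (d * x)) = (d * (d * d)) * x := by group
    _ = x := by rw [h.d3, one_mul]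

theorem Cfg.r4x {c d r s : S} (h : Cfg c d r s) (x : S) : r * (r * (r * (r * x))) = x := by
  calc r * (r * (r * (r * x))) = (r * (r * (r * r))) * x := by group
    _ = x := by rw [h.r4, one_mul]

theorem Cfg.s2x {c d r s : S} (h : Cfg c d r s) (x : S) : s * (s * x) = x := by
  calc s * (s * x) = (s * s) * x := by group
    _ = x := by rw [h.s2, one_mul]

theorem Cfg.dcx {c d r s : S} (h : Cfg c d r s) (x : S) : d * (c * x) = c * (d * x) := by
  calc d * (c * x) = (d * c) * x := by group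
    _ = (c * d) * x := by rw [h.dc]
    _ = c * (d * x) := by group

theorem Cfg.rcx {c d r s : S} (h : Cfg c d r s) (x : S) : r * (c * x) = d * (r * x) := by
  calc r * (c * x) = (r * c) * x := by group
    _ = (d * r) * x := by rw [h.rc]
    _ = d * (r * x) := by group

theorem Cfg.rdx {c d r s : S} (h : Cfg c d r s) (x : S) : r * (d * x) = c * (c * (r * x)) := by
  calc r * (d * x) = (r * d) * x := by group
    _ = (c * (c * r)) * x := by rw [h.rd]
    _ = c * (c * (r * x)) := by group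

theorem Cfg.scx {c d r s : S} (h : Cfg c d r s) (x : S) : s * (c * x) = c * (s * x) := by
  calc s * (c * x) = (s * c) * x := by group
    _ = (c * s) * x := by rw [h.sc]
    _ = c * (s * x) := by group

theorem Cfg.sdx {c d r s : S} (h : Cfg c d r s) (x : S) : s * (d * x) = d * (d * (s * x)) := by
  calc s * (d * x) = (s * d) * x := by group
    _ = (d * (d * s)) * x := by rw [h.sd]
    _ = d * (d * (s * x)) := by group

theorem Cfg.srx {c d r s : S} (h : Cfg c d r s) (x : S) :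
    s * (r * x) = r * (r * (r * (s * x))) := by
  calc s * (r * x) = (s * r) * x := by group
    _ = (r * (r * (r * s))) * x := by rw [h.sr]
    _ = r * (r * (r * (s * x))) := by group

/-- the second configuration -/
theorem Cfg.swap {c d r s : S} (h : Cfg c d r s) :
    Cfg (c * d) (d * (c * c)) r (s * (r * (r * r))) where
  c3 := by simp only [mul_assoc, mul_one, one_mul, h.c3, h.c3x, h.d3, h.d3x, h.r4, h.r4x, h.s2, h.s2x, h.dc, h.dcx, h.rc, h.rcx, h.rd, h.rdx, h.sc, h.scx, h.sd, h.sdx, h.sr, h.srx]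
  d3 := by simp only [mul_assoc, mul_one, one_mul, h.c3, h.c3x, h.d3, h.d3x, h.r4, h.r4x, h.s2, h.s2x, h.dc, h.dcx, h.rc, h.rcx, h.rd, h.rdx, h.sc, h.scx, h.sd, h.sdx, h.sr, h.srx]
  dc := by simp only [mul_assoc, mul_one, one_mul, h.c3, h.c3x, h.d3, h.d3x, h.r4, h.r4x, h.s2, h.s2x, h.dc, h.dcx, h.rc, h.rcx, h.rd, h.rdx, h.sc, h.scx, h.sd, h.sdx, h.sr, h.srx]
  r4 := h.r4
  s2 := by simp only [mul_assoc, mul_one, one_mul, h.c3, h.c3x, h.d3, h.d3x, h.r4, h.r4x, h.s2, h.s2x, h.dc, h.dcx, h.rc, h.rcx, h.rd, h.rdx, h.sc, h.scx, h.sd, h.sdx, h.sr, h.srx]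
  rc := by simp only [mul_assoc, mul_one, one_mul, h.c3, h.c3x, h.d3, h.d3x, h.r4, h.r4x, h.s2, h.s2x, h.dc, h.dcx, h.rc, h.rcx, h.rd, h.rdx, h.sc, h.scx, h.sd, h.sdx, h.sr, h.srx]
  rd := by simp only [mul_assoc, mul_one, one_mul, h.c3, h.c3x, h.d3, h.d3x, h.r4, h.r4x, h.s2, h.s2x, h.dc, h.dcx, h.rc, h.rcx, h.rd, h.rdx, h.sc, h.scx, h.sd, h.sdx, h.sr, h.srx]
  sc := by simp only [mul_assoc, mul_one, one_mul, h.c3, h.c3x, h.d3, h.d3x, h.r4, h.r4x, h.s2, h.s2x, h.dc, h.dcx, h.rc, h.rcx, h.rd, h.rdx, h.sc, h.scx, h.sd, h.sdx, h.sr, h.srx]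
  sd := by simp only [mul_assoc, mul_one, one_mul, h.c3, h.c3x, h.d3, h.d3x, h.r4, h.r4x, h.s2, h.s2x, h.dc, h.dcx, h.rc, h.rcx, h.rd, h.rdx, h.sc, h.scx, h.sd, h.sdx, h.sr, h.srx]
  sr := by simp only [mul_assoc, mul_one, one_mul, h.c3, h.c3x, h.d3, h.d3x, h.r4, h.r4x, h.s2, h.s2x, h.dc, h.dcx, h.rc, h.rcx, h.rd, h.rdx, h.sc, h.scx, h.sd, h.sdx, h.sr, h.srx]
  gen := by
    have hr : r ∈ Subgroup.closure ({c * d, d * (c * c), r, s * (r * (r * r))} : Set S) :=
      Subgroup.subset_closure (by simp)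
    have hs' : s * (r * (r * r)) ∈
        Subgroup.closure ({c * d, d * (c * c), r, s * (r * (r * r))} : Set S) :=
      Subgroup.subset_closure (by simp)
    have hc' : c * d ∈ Subgroup.closure ({c * d, d * (c * c), r, s * (r * (r * r))} : Set S) :=
      Subgroup.subset_closure (by simp)
    have hd' : d * (c * c) ∈
        Subgroup.closure ({c * d, d * (c * c), r, s * (r * (r * r))} : Set S) :=
      Subgroup.subset_closure (by simp)
    have hs : s ∈ Subgroup.closure ({c * d, d * (c * c), r, s * (r * (r * r))} : Set S) := by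
      have e : s = (s * (r * (r * r))) * r := by simp only [mul_assoc, mul_one, one_mul, h.c3, h.c3x, h.d3, h.d3x, h.r4, h.r4x, h.s2, h.s2x, h.dc, h.dcx, h.rc, h.rcx, h.rd, h.rdx, h.sc, h.scx, h.sd, h.sdx, h.sr, h.srx]
      have h1 := mul_mem hs' hr
      rw [← e] at h1; exact h1
    have hc : c ∈ Subgroup.closure ({c * d, d * (c * c), r, s * (r * (r * r))} : Set S) := by
      have e : c = (c * d) * ((c * d) * (d * (c * c))) := by simp only [mul_assoc, mul_one, one_mul, h.c3, h.c3x, h.d3, h.d3x, h.r4, h.r4x, h.s2, h.s2x, h.dc, h.dcx, h.rc, h.rcx, h.rd, h.rdx, h.sc, h.scx, h.sd, h.sdx, h.sr, h.srx]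
      have h1 := mul_mem hc' (mul_mem hc' hd')
      rw [← e] at h1; exact h1
    have hd : d ∈ Subgroup.closure ({c * d, d * (c * c), r, s * (r * (r * r))} : Set S) := by
      have e : d = ((c * d) * (d * (c * c))) * ((c * d) * (d * (c * c))) := by simp only [mul_assoc, mul_one, one_mul, h.c3, h.c3x, h.d3, h.d3x, h.r4, h.r4x, h.s2, h.s2x, h.dc, h.dcx, h.rc, h.rcx, h.rd, h.rdx, h.sc, h.scx, h.sd, h.sdx, h.sr, h.srx]
      have h1 := mul_mem (mul_mem hc' hd') (mul_mem hc' hd')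
      rw [← e] at h1; exact h1
    rw [eq_top_iff, ← h.gen, Subgroup.closure_le]
    intro x hx
    simp only [Set.mem_insert_iff, Set.mem_singleton_iff] at hx
    rcases hx with hx | hx | hx | hx
    · rw [hx]; exact hc
    · rw [hx]; exact hd
    · rw [hx]; exact hr
    · rw [hx]; exact hs

abbrev T4 := ZMod 2 × ZMod 2 × ZMod 2 × ZMod 2

def cC (t : T4) : T4 := (t.1, t.2.1, t.2.2.1 + t.2.2.2, t.2.2.1)
def cD (t : T4) : T4 := (t.2.1, t.1 + t.2.1, t.2.2.1, t.2.2.2)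
def cR (t : T4) : T4 := (t.2.2.1 + t.2.2.2, t.2.2.2, t.1, t.2.1)
def cT (t : T4) : T4 := (t.1 + t.2.1, t.2.1, t.2.2.1, t.2.2.2)

theorem cnt16 : Nat.card T4 = 16 := by
  rw [Nat.card_eq_fintype_card]; decide

theorem cnt4 : Nat.card {t : T4 // cT t = t ∧ cR (cR t) = t} = 4 := by
  rw [Nat.card_eq_fintype_card]; decide

theorem cnt2 : Nat.card {t : T4 // cT (cR t) = t ∧ cR (cR t) = t} = 2 := by
  rw [Nat.card_eq_fintype_card]; decide

theorem fix_inv_exists (σ : M →ₗ[ZMod 2] M) (hσ : ∀ m, σ (σ m) = m) (P : M → Prop)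
    (hP : ∀ m, P m → P (σ m)) (hadd : ∀ m m', P m → P m' → P (m + m'))
    {w : M} (hw : w ≠ 0) (hPw : P w) : ∃ v : M, v ≠ 0 ∧ σ v = v ∧ P v := by
  by_cases h : σ w = w
  · exact ⟨w, hw, h, hPw⟩
  · refine ⟨w + σ w, ?_, ?_, hadd _ _ hPw (hP _ hPw)⟩
    · intro h0
      exact h (eq_of_add_eq_zero2 h0)
    · rw [map_add, hσ, add_comm]

/-- the core computation -/
theorem core [Finite S] (ρ : Representation (ZMod 2) S M) {c d r s : S} (h : Cfg c d r s)
    (hirr : ∀ N : Submodule (ZMod 2) M, (∀ g : S, ∀ m ∈ N, ρ g m ∈ N) → N = ⊥ ∨ N = ⊤)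
    (hfix0 : ∀ m : M, ρ c m = m → ρ d m = m → m = 0)
    (hsum : ∀ m : M, ∃ m₁ m₂ : M, ρ c m₁ = m₁ ∧ ρ d m₂ = m₂ ∧ m = m₁ + m₂)
    (hM : Nontrivial M) :
    Nat.card M = 16 ∧ Nat.card {m : M // ρ s m = m ∧ ρ r (ρ r m) = m} = 4 ∧
      Nat.card {m : M // ρ s (ρ r m) = m ∧ ρ r (ρ r m) = m} = 2 := by
  have o1 : ∀ m : M, ρ c (ρ r m) = ρ r (ρ d (ρ d m)) := fun m => by
    simp only [← act_mul]; exact word_eq ρ (by simp only [mul_assoc, mul_one, one_mul, h.c3, h.c3x, h.d3, h.d3x, h.r4, h.r4x, h.s2, h.s2x, h.dc, h.dcx, h.rc, h.rcx, h.rd, h.rdx, h.sc, h.scx, h.sd, h.sdx, h.sr, h.srx]) m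
  have o2 : ∀ m : M, ρ c (ρ s m) = ρ s (ρ c m) := fun m => by
    simp only [← act_mul]; exact word_eq ρ (by simp only [mul_assoc, mul_one, one_mul, h.c3, h.c3x, h.d3, h.d3x, h.r4, h.r4x, h.s2, h.s2x, h.dc, h.dcx, h.rc, h.rcx, h.rd, h.rdx, h.sc, h.scx, h.sd, h.sdx, h.sr, h.srx]) m
  have o3 : ∀ m : M, ρ s (ρ s m) = m := fun m => by
    simp only [← act_mul]; exact word_one ρ (by simp only [mul_assoc, mul_one, one_mul, h.c3, h.c3x, h.d3, h.d3x, h.r4, h.r4x, h.s2, h.s2x, h.dc, h.dcx, h.rc, h.rcx, h.rd, h.rdx, h.sc, h.scx, h.sd, h.sdx, h.sr, h.srx]) m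
  have o4 : ∀ m : M, ρ r (ρ r (ρ r (ρ r m))) = m := fun m => by
    simp only [← act_mul]; exact word_one ρ (by simp only [mul_assoc, mul_one, one_mul, h.c3, h.c3x, h.d3, h.d3x, h.r4, h.r4x, h.s2, h.s2x, h.dc, h.dcx, h.rc, h.rcx, h.rd, h.rdx, h.sc, h.scx, h.sd, h.sdx, h.sr, h.srx]) m
  have o5 : ∀ m : M, ρ c (ρ r (ρ r m)) = ρ r (ρ r (ρ c (ρ c m))) := fun m => by
    simp only [← act_mul]; exact word_eq ρ (by simp only [mul_assoc, mul_one, one_mul, h.c3, h.c3x, h.d3, h.d3x, h.r4, h.r4x, h.s2, h.s2x, h.dc, h.dcx, h.rc, h.rcx, h.rd, h.rdx, h.sc, h.scx, h.sd, h.sdx, h.sr, h.srx]) m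
  have o6 : ∀ m : M, ρ s (ρ r (ρ r m)) = ρ r (ρ r (ρ s m)) := fun m => by
    simp only [← act_mul]; exact word_eq ρ (by simp only [mul_assoc, mul_one, one_mul, h.c3, h.c3x, h.d3, h.d3x, h.r4, h.r4x, h.s2, h.s2x, h.dc, h.dcx, h.rc, h.rcx, h.rd, h.rdx, h.sc, h.scx, h.sd, h.sdx, h.sr, h.srx]) m
  have o7 : ∀ m : M, ρ d (ρ d (ρ d m)) = m := fun m => by
    simp only [← act_mul]; exact word_one ρ (by simp only [mul_assoc, mul_one, one_mul, h.c3, h.c3x, h.d3, h.d3x, h.r4, h.r4x, h.s2, h.s2x, h.dc, h.dcx, h.rc, h.rcx, h.rd, h.rdx, h.sc, h.scx, h.sd, h.sdx, h.sr, h.srx]) m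
  have o9 : ∀ m : M, ρ c (ρ d m) = ρ d (ρ c m) := fun m => by
    simp only [← act_mul]; exact word_eq ρ (by simp only [mul_assoc, mul_one, one_mul, h.c3, h.c3x, h.d3, h.d3x, h.r4, h.r4x, h.s2, h.s2x, h.dc, h.dcx, h.rc, h.rcx, h.rd, h.rdx, h.sc, h.scx, h.sd, h.sdx, h.sr, h.srx]) m
  have o10 : ∀ m : M, ρ s (ρ d m) = ρ d (ρ d (ρ s m)) := fun m => by
    simp only [← act_mul]; exact word_eq ρ (by simp only [mul_assoc, mul_one, one_mul, h.c3, h.c3x, h.d3, h.d3x, h.r4, h.r4x, h.s2, h.s2x, h.dc, h.dcx, h.rc, h.rcx, h.rd, h.rdx, h.sc, h.scx, h.sd, h.sdx, h.sr, h.srx]) m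
  have o11 : ∀ m : M, ρ r (ρ r (ρ d m)) = ρ d (ρ d (ρ r (ρ r m))) := fun m => by
    simp only [← act_mul]; exact word_eq ρ (by simp only [mul_assoc, mul_one, one_mul, h.c3, h.c3x, h.d3, h.d3x, h.r4, h.r4x, h.s2, h.s2x, h.dc, h.dcx, h.rc, h.rcx, h.rd, h.rdx, h.sc, h.scx, h.sd, h.sdx, h.sr, h.srx]) m
  have o12 : ∀ m : M, ρ d (ρ r m) = ρ r (ρ c m) := fun m => by
    simp only [← act_mul]; exact word_eq ρ (by simp only [mul_assoc, mul_one, one_mul, h.c3, h.c3x, h.d3, h.d3x, h.r4, h.r4x, h.s2, h.s2x, h.dc, h.dcx, h.rc, h.rcx, h.rd, h.rdx, h.sc, h.scx, h.sd, h.sdx, h.sr, h.srx]) m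
  have o13 : ∀ m : M, ρ s (ρ r m) = ρ r (ρ r (ρ r (ρ s m))) := fun m => by
    simp only [← act_mul]; exact word_eq ρ (by simp only [mul_assoc, mul_one, one_mul, h.c3, h.c3x, h.d3, h.d3x, h.r4, h.r4x, h.s2, h.s2x, h.dc, h.dcx, h.rc, h.rcx, h.rd, h.rdx, h.sc, h.scx, h.sd, h.sdx, h.sr, h.srx]) m
  obtain ⟨m0, hm0⟩ := exists_ne (0 : M)
  have hR_inj : ∀ m : M, ρ r m = 0 → m = 0 := by
    intro m hm
    have h4 := o4 m
    rw [hm, map_zero, map_zero, map_zero] at h4
    exact h4.symm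
  have hD_inj : ∀ m : M, ρ d m = 0 → m = 0 := by
    intro m hm
    have h4 := o7 m
    rw [hm, map_zero, map_zero] at h4
    exact h4.symm
  have hw : ∃ w : M, w ≠ 0 ∧ ρ c w = w := by
    obtain ⟨m₁, m₂, h1, h2, h12⟩ := hsum m0
    by_cases hz : m₁ = 0
    · have hm2 : m₂ ≠ 0 := by
        intro h0; apply hm0; rw [h12, hz, h0, add_zero]
      refine ⟨ρ r m₂, fun h0 => hm2 (hR_inj _ h0), ?_⟩
      rw [o1, h2, h2]
    · exact ⟨m₁, hz, h1⟩
  obtain ⟨w, hw0, hCw⟩ := hw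
  obtain ⟨v₁, hv₁0, hTv₁, hCv₁⟩ := fix_inv_exists (ρ s) o3 (fun m => ρ c m = m)
    (fun m hm => by show ρ c (ρ s m) = ρ s m; rw [o2, hm])
    (fun m m' hm hm' => by show ρ c (m + m') = m + m'; rw [map_add, hm, hm']) hw0 hCw
  obtain ⟨v, hv0, hZv', hCv, hTv⟩ := fix_inv_exists (ρ r * ρ r) (fun m => o4 m)
    (fun m => ρ c m = m ∧ ρ s m = m)
    (fun m hm => by
      show ρ c (ρ r (ρ r m)) = ρ r (ρ r m) ∧ ρ s (ρ r (ρ r m)) = ρ r (ρ r m)
      rw [o5, o6, hm.1, hm.1, hm.2]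
      exact ⟨rfl, rfl⟩)
    (fun m m' hm hm' => by
      show ρ c (m + m') = m + m' ∧ ρ s (m + m') = m + m'
      rw [map_add, map_add, hm.1, hm'.1, hm.2, hm'.2]
      exact ⟨rfl, rfl⟩) hv₁0 ⟨hCv₁, hTv₁⟩
  have hZv : ρ r (ρ r v) = v := hZv'
  have hDDv : ρ d (ρ d v) = v + ρ d v := by
    have hu : v + ρ d v + ρ d (ρ d v) = 0 := by
      apply hfix0
      · simp only [map_add, o9, hCv]
      · simp only [map_add, o7]; abel
    exact eq_of_add_eq_zero2 hu
  have hDv_ne : ρ d v ≠ v := fun hh => hv0 (hfix0 v hCv hh)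
  have hDv0 : ρ d v ≠ 0 := fun hh => hv0 (hD_inj v hh)
  have hCDv : ρ c (ρ d v) = ρ d v := by rw [o9, hCv]
  have hTDv : ρ s (ρ d v) = v + ρ d v := by rw [o10, hTv, hDDv]
  have hZDv : ρ r (ρ r (ρ d v)) = v + ρ d v := by rw [o11, hZv, hDDv]
  have hCRv : ρ c (ρ r v) = ρ r v + ρ r (ρ d v) := by rw [o1, hDDv, map_add]
  have hCRDv : ρ c (ρ r (ρ d v)) = ρ r v := by rw [o1, o7]
  have hDRv : ρ d (ρ r v) = ρ r v := by rw [o12, hCv]
  have hDRDv : ρ d (ρ r (ρ d v)) = ρ r (ρ d v) := by rw [o12, hCDv]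
  have hTRv : ρ s (ρ r v) = ρ r v := by rw [o13, hTv, hZv]
  have hTRDv : ρ s (ρ r (ρ d v)) = ρ r (ρ d v) := by
    rw [o13, hTDv]
    simp only [map_add, hZv, hZDv]
    rw [← add_assoc, add_self2, zero_add]
  obtain ⟨φ, hφ⟩ : ∃ φ : T4 →ₗ[ZMod 2] M, ∀ t : T4,
      φ t = t.1 • v + (t.2.1 • ρ d v + (t.2.2.1 • ρ r v + t.2.2.2 • ρ r (ρ d v))) :=
    ⟨(LinearMap.toSpanSingleton (ZMod 2) M v).coprod
      ((LinearMap.toSpanSingleton (ZMod 2) M (ρ d v)).coprod
        ((LinearMap.toSpanSingleton (ZMod 2) M (ρ r v)).coprod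
          (LinearMap.toSpanSingleton (ZMod 2) M (ρ r (ρ d v))))), fun t => rfl⟩
  have fC : ∀ t : T4, ρ c (φ t) = φ (cC t) := by
    intro t
    rw [hφ, hφ]
    simp only [cC, map_add, map_smul, hCv, hCDv, hCRv, hCRDv, smul_add, add_smul]
    abel
  have fD : ∀ t : T4, ρ d (φ t) = φ (cD t) := by
    intro t
    rw [hφ, hφ]
    simp only [cD, map_add, map_smul, hDDv, hDRv, hDRDv, smul_add, add_smul]
    abel
  have fR : ∀ t : T4, ρ r (φ t) = φ (cR t) := by
    intro t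
    rw [hφ, hφ]
    simp only [cR, map_add, map_smul, hZv, hZDv, smul_add, add_smul]
    abel
  have fT : ∀ t : T4, ρ s (φ t) = φ (cT t) := by
    intro t
    rw [hφ, hφ]
    simp only [cT, map_add, map_smul, hTv, hTDv, hTRv, hTRDv, smul_add, add_smul]
    abel
  have hN : LinearMap.range φ = ⊤ := by
    have hinv : ∀ g : S, ∀ m ∈ LinearMap.range φ, ρ g m ∈ LinearMap.range φ := by
      apply inv_of_gens ρ (LinearMap.range φ) {c, d, r, s} h.gen
      intro g hg m hm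
      obtain ⟨t, ht⟩ := LinearMap.mem_range.1 hm
      simp only [Set.mem_insert_iff, Set.mem_singleton_iff] at hg
      rw [← ht]
      rcases hg with hg | hg | hg | hg
      · rw [hg]; exact LinearMap.mem_range.2 ⟨cC t, (fC t).symm⟩
      · rw [hg]; exact LinearMap.mem_range.2 ⟨cD t, (fD t).symm⟩
      · rw [hg]; exact LinearMap.mem_range.2 ⟨cR t, (fR t).symm⟩
      · rw [hg]; exact LinearMap.mem_range.2 ⟨cT t, (fT t).symm⟩
    rcases hirr _ hinv with h0 | h1
    · exfalso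
      have hv' : v ∈ LinearMap.range φ :=
        LinearMap.mem_range.2 ⟨(1, 0, 0, 0), by rw [hφ]; simp⟩
      rw [h0, Submodule.mem_bot] at hv'
      exact hv0 hv'
    · exact h1
  have hL : ∀ a b : ZMod 2, a • v + b • ρ d v = 0 → a = 0 ∧ b = 0 := by
    intro a b hab
    rcases z2 a with ha | ha <;> rcases z2 b with hb | hb
    · exact ⟨ha, hb⟩
    · exfalso; rw [ha, hb, zero_smul, one_smul, zero_add] at hab; exact hDv0 hab
    · exfalso; rw [ha, hb, zero_smul, one_smul, add_zero] at hab; exact hv0 hab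
    · exfalso; rw [ha, hb, one_smul, one_smul] at hab; exact hDv_ne (eq_of_add_eq_zero2 hab)
  have hinj : Function.Injective φ := by
    rw [injective_iff_map_eq_zero]
    rintro ⟨a, b, a', b'⟩ ht
    rw [hφ] at ht
    dsimp only at ht
    have hx : ρ c (a • v + b • ρ d v) = a • v + b • ρ d v := by
      simp only [map_add, map_smul, hCv, hCDv]
    have hy : ρ d (a' • ρ r v + b' • ρ r (ρ d v)) = a' • ρ r v + b' • ρ r (ρ d v) := by
      simp only [map_add, map_smul, hDRv, hDRDv]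
    have hxy : (a • v + b • ρ d v) + (a' • ρ r v + b' • ρ r (ρ d v)) = 0 := by
      rw [← ht]; abel
    have e : a' • ρ r v + b' • ρ r (ρ d v) = a • v + b • ρ d v := eq_of_add_eq_zero2 hxy
    have hx0 : a • v + b • ρ d v = 0 := hfix0 _ hx (by rw [← e]; exact hy)
    obtain ⟨ha, hb⟩ := hL a b hx0
    have hy0 : ρ r (a' • v + b' • ρ d v) = 0 := by
      rw [map_add, map_smul, map_smul, e]; exact hx0
    obtain ⟨ha', hb'⟩ := hL a' b' (hR_inj _ hy0)
    rw [ha, hb, ha', hb']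
    rfl
  have hbij : Function.Bijective φ := ⟨hinj, LinearMap.range_eq_top.1 hN⟩
  refine ⟨?_, ?_, ?_⟩
  · rw [← Nat.card_congr (Equiv.ofBijective φ hbij)]; exact cnt16
  · have h1 : Nat.card {t : T4 // cT t = t ∧ cR (cR t) = t}
        = Nat.card {m : M // ρ s m = m ∧ ρ r (ρ r m) = m} := by
      apply Nat.card_congr
      apply Equiv.subtypeEquiv (Equiv.ofBijective φ hbij)
      intro t
      show cT t = t ∧ cR (cR t) = t ↔ ρ s (φ t) = φ t ∧ ρ r (ρ r (φ t)) = φ t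
      rw [fT, fR, fR, hinj.eq_iff, hinj.eq_iff]
    rw [← h1]; exact cnt4
  · have h1 : Nat.card {t : T4 // cT (cR t) = t ∧ cR (cR t) = t}
        = Nat.card {m : M // ρ s (ρ r m) = m ∧ ρ r (ρ r m) = m} := by
      apply Nat.card_congr
      apply Equiv.subtypeEquiv (Equiv.ofBijective φ hbij)
      intro t
      show cT (cR t) = t ∧ cR (cR t) = t ↔ ρ s (ρ r (φ t)) = φ t ∧ ρ r (ρ r (φ t)) = φ t
      rw [fR, fT, fR, hinj.eq_iff, hinj.eq_iff]
    rw [← h1]; exact cnt2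

end Cfsg.Agent.Helper10.T72
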