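import Mathlib
import Cfsg.Prelude.Def_Transfer
import Cfsg.Agent.Helper10.SR4a
import Cfsg.Agent.Helper10.E8a
import Cfsg.Agent.Helper10.T72a
import Cfsg.Agent.Helper10.T72b

set_option autoImplicit false
set_option maxHeartbeats 1000000
set_option linter.unusedSimpArgs false
set_option linter.unusedSectionVars false

/-! # Faithful irreducible modules of `3^2 : D_8` in characteristic 2 (helper10)

The structure of a group `S = A X` with `A` self-centralising elementary abelian of order 9 and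
`X` dihedral of order 8, and the main theorem (statement S4407). -/

namespace Cfsg.Agent.Helper10.T72

section grp

variable {S : Type*} [Group S]

theorem one_of_sq_cube {x : S} (h2 : x * x = 1) (h3 : x ^ 3 = 1) : x = 1 := by
  rw [pow_succ, pow_two, h2, one_mul] at h3; exact h3

theorem mem3 [Finite S] {u x : S} (hu3 : u ^ 3 = 1) (hx : x ∈ Subgroup.zpowers u) :
    x = 1 ∨ x = u ∨ x = u⁻¹ := by
  obtain ⟨n, rfl⟩ := (Submonoid.mem_powers_iff _ _).1 (mem_powers_iff_mem_zpowers.2 hx)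
  have e : u ^ n = u ^ (n % 3) := by
    conv_lhs => rw [← Nat.div_add_mod n 3, pow_add, pow_mul, hu3, one_pow, one_mul]
  rcases (by omega : n % 3 = 0 ∨ n % 3 = 1 ∨ n % 3 = 2) with h | h | h
  · left; rw [e, h, pow_zero]
  · right; left; rw [e, h, pow_one]
  · right; right; rw [e, h]
    apply eq_inv_of_mul_eq_one_left
    rw [← pow_succ]; exact hu3

theorem basis_of [Finite S] (A : Subgroup S) (hAc : ∀ a ∈ A, ∀ b ∈ A, a * b = b * a)
    (hA3 : ∀ a ∈ A, a ^ 3 = 1) (hA9 : Nat.card ↥A = 9) {c d : S} (hc : c ∈ A) (hd : d ∈ A)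
    (t : S) (htc : MulAut.conj t c = c) (htd : MulAut.conj t d = d⁻¹) (hc1 : c ≠ 1)
    (hd1 : d ≠ 1) : Subgroup.zpowers c ⊔ Subgroup.zpowers d = A := by
  haveI : Fact (Nat.Prime 3) := ⟨by norm_num⟩
  have c3 : Nat.card ↥(Subgroup.zpowers c) = 3 := by
    rw [Nat.card_zpowers, orderOf_eq_prime (hA3 c hc) hc1]
  have d3 : Nat.card ↥(Subgroup.zpowers d) = 3 := by
    rw [Nat.card_zpowers, orderOf_eq_prime (hA3 d hd) hd1]
  have hdis : Subgroup.zpowers c ⊓ Subgroup.zpowers d = ⊥ := by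
    rw [eq_bot_iff]
    intro x hx
    obtain ⟨hx1, hx2⟩ := Subgroup.mem_inf.1 hx
    rw [Subgroup.mem_bot]
    have e1 : MulAut.conj t x = x := E8.fix_on htc hx1
    have e2 : MulAut.conj t x = x⁻¹ := E8.inv_on htd hx2
    have hxA : x ∈ A := Subgroup.zpowers_le.2 hc hx1
    rw [e1] at e2
    exact one_of_sq_cube (mul_eq_one_iff_eq_inv.2 e2) (hA3 x hxA)
  have hle : Subgroup.zpowers c ⊔ Subgroup.zpowers d ≤ A :=
    sup_le (Subgroup.zpowers_le.2 hc) (Subgroup.zpowers_le.2 hd)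
  apply Subgroup.eq_of_le_of_card_ge hle
  have h := SR4.card_sup_ge _ _ hdis
  rw [c3, d3] at h
  have h9 : (9 : ℕ) = 3 * 3 := by norm_num
  rw [hA9, h9]; exact h

theorem z_inverts [Finite S] (A : Subgroup S) [A.Normal]
    (hAc : ∀ a ∈ A, ∀ b ∈ A, a * b = b * a) (hA3 : ∀ a ∈ A, a ^ 3 = 1)
    (hA9 : Nat.card ↥A = 9) (r : S) (hr4 : r * (r * (r * r)) = 1)
    (hz1 : ∃ a ∈ A, MulAut.conj (r * r) a ≠ a) :
    ∀ a ∈ A, MulAut.conj (r * r) a = a⁻¹ := by
  have hn : ∀ g : S, ∀ a ∈ A, MulAut.conj g a ∈ A := fun g a ha => by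
    rw [MulAut.conj_apply]; exact (inferInstance : A.Normal).conj_mem a ha g
  have hzr : ∀ x, MulAut.conj (r * r) x = MulAut.conj r (MulAut.conj r x) := fun x => by
    rw [map_mul, MulAut.mul_apply]
  have hzz : ∀ x, MulAut.conj (r * r) (MulAut.conj (r * r) x) = x := by
    intro x
    rw [← MulAut.mul_apply, ← map_mul]
    have e : r * r * (r * r) = 1 := by rw [mul_assoc]; exact hr4
    rw [e, map_one, MulAut.one_apply]
  by_contra hcon
  push Not at hcon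
  obtain ⟨a₀, ha₀, hne⟩ := hcon
  obtain ⟨a₁, ha₁, hne₁⟩ := hz1
  have hfA : a₀ * MulAut.conj (r * r) a₀ ∈ A := mul_mem ha₀ (hn _ a₀ ha₀)
  have hf1 : a₀ * MulAut.conj (r * r) a₀ ≠ 1 := by
    intro h; apply hne
    exact eq_inv_of_mul_eq_one_right h
  have hfz : MulAut.conj (r * r) (a₀ * MulAut.conj (r * r) a₀)
      = a₀ * MulAut.conj (r * r) a₀ := by
    rw [map_mul, hzz, hAc _ (hn _ a₀ ha₀) _ ha₀]
  have huA : a₁ * (MulAut.conj (r * r) a₁)⁻¹ ∈ A := mul_mem ha₁ (inv_mem (hn _ a₁ ha₁))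
  have hu1 : a₁ * (MulAut.conj (r * r) a₁)⁻¹ ≠ 1 := by
    intro h; apply hne₁
    exact (mul_inv_eq_one.1 h).symm
  have huz : MulAut.conj (r * r) (a₁ * (MulAut.conj (r * r) a₁)⁻¹)
      = (a₁ * (MulAut.conj (r * r) a₁)⁻¹)⁻¹ := by
    rw [map_mul, map_inv, hzz, mul_inv_rev, inv_inv]
  generalize a₀ * MulAut.conj (r * r) a₀ = f at hfA hf1 hfz
  generalize a₁ * (MulAut.conj (r * r) a₁)⁻¹ = u at huA hu1 huz
  have hbas := basis_of A hAc hA3 hA9 hfA huA (r * r) hfz huz hf1 hu1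
  have hu'A : MulAut.conj r u ∈ A := hn r u huA
  have hu'z : MulAut.conj (r * r) (MulAut.conj r u) = (MulAut.conj r u)⁻¹ := by
    rw [hzr, ← hzr u, huz, map_inv]
  have hmem : MulAut.conj r u ∈ Subgroup.zpowers f ⊔ Subgroup.zpowers u := by
    rw [hbas]; exact hu'A
  obtain ⟨h, hh, k, hk, hhk⟩ := SR4.mem_sup_comm _ _
    (fun a ha b hb => hAc a (Subgroup.zpowers_le.2 hfA ha) b (Subgroup.zpowers_le.2 huA hb)) hmem
  have hhA : h ∈ A := Subgroup.zpowers_le.2 hfA hh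
  have hkA : k ∈ A := Subgroup.zpowers_le.2 huA hk
  have e1 : MulAut.conj (r * r) h = h := E8.fix_on hfz hh
  have e2 : MulAut.conj (r * r) k = k⁻¹ := E8.inv_on huz hk
  have hh1 : h = 1 := by
    have e3 := hu'z
    rw [hhk, map_mul, e1, e2, mul_inv_rev, hAc _ (inv_mem hkA) _ (inv_mem hhA)] at e3
    have e4 : h = h⁻¹ := mul_right_cancel e3
    exact one_of_sq_cube (mul_eq_one_iff_eq_inv.2 e4) (hA3 h hhA)
  have hk' : MulAut.conj r u ∈ Subgroup.zpowers u := by rw [hhk, hh1, one_mul]; exact hk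
  have huu : u = u⁻¹ := by
    rcases mem3 (hA3 u huA) hk' with h0 | h0 | h0
    · exfalso
      apply hu1
      apply (MulAut.conj r).injective
      rw [h0, map_one]
    · have e5 := huz
      rw [hzr, h0, h0] at e5
      exact e5
    · have e5 := huz
      rw [hzr, h0, map_inv, h0, inv_inv] at e5
      exact e5
  exact hu1 (one_of_sq_cube (mul_eq_one_iff_eq_inv.2 huu) (hA3 u huA))

theorem exists_cfg [Finite S] (A : Subgroup S) [A.Normal]
    (hAc : ∀ a ∈ A, ∀ b ∈ A, a * b = b * a) (hA3 : ∀ a ∈ A, a ^ 3 = 1)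
    (hA9 : Nat.card ↥A = 9) (X : Subgroup S)
    (hfa : ∀ x ∈ X, (∀ a ∈ A, MulAut.conj x a = a) → x = 1) (hAX : A ⊔ X = ⊤) (r s : S)
    (hrX : r ∈ X) (hsX : s ∈ X) (hr4 : r * (r * (r * r)) = 1) (hs2 : s * s = 1)
    (hsr : s * r = r * (r * (r * s))) (hz1 : r * r ≠ 1) (hsz : s * (r * r) ≠ 1)
    (hXgen : ∀ x ∈ X, ∃ i j : ℕ, x = r ^ i * s ^ j) :
    ∃ c d : S, c ∈ A ∧ d ∈ A ∧ c ≠ 1 ∧ Subgroup.zpowers c ⊔ Subgroup.zpowers d = A ∧
      Cfg c d r s := by
  have hn : ∀ g : S, ∀ a ∈ A, MulAut.conj g a ∈ A := fun g a ha => by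
    rw [MulAut.conj_apply]; exact (inferInstance : A.Normal).conj_mem a ha g
  have hzinv : ∀ a ∈ A, MulAut.conj (r * r) a = a⁻¹ := by
    apply z_inverts A hAc hA3 hA9 r hr4
    by_contra hcon
    push Not at hcon
    exact hz1 (hfa _ (mul_mem hrX hrX) hcon)
  have hss : ∀ x, MulAut.conj s (MulAut.conj s x) = x := by
    intro x
    rw [← MulAut.mul_apply, ← map_mul, hs2, map_one, MulAut.one_apply]
  have hex : ∃ a ∈ A, MulAut.conj s a ≠ a⁻¹ := by
    by_contra hcon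
    push Not at hcon
    apply hsz
    apply hfa _ (mul_mem hsX (mul_mem hrX hrX))
    intro a ha
    rw [map_mul, MulAut.mul_apply, hzinv a ha, map_inv, hcon a ha, inv_inv]
  obtain ⟨a, ha, hane⟩ := hex
  have hcA : a * MulAut.conj s a ∈ A := mul_mem ha (hn s a ha)
  have hc1 : a * MulAut.conj s a ≠ 1 := by
    intro h; apply hane
    exact eq_inv_of_mul_eq_one_right h
  have hsc : MulAut.conj s (a * MulAut.conj s a) = a * MulAut.conj s a := by
    rw [map_mul, hss, hAc _ (hn s a ha) _ ha]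
  generalize a * MulAut.conj s a = c at hcA hc1 hsc
  have hdA : MulAut.conj r c ∈ A := hn r c hcA
  have hd1 : MulAut.conj r c ≠ 1 := by
    intro h
    apply hc1
    apply (MulAut.conj r).injective
    rw [h, map_one]
  have hrd : MulAut.conj r (MulAut.conj r c) = c⁻¹ := by
    rw [← MulAut.mul_apply, ← map_mul]; exact hzinv c hcA
  have hsd : MulAut.conj s (MulAut.conj r c) = (MulAut.conj r c)⁻¹ := by
    calc MulAut.conj s (MulAut.conj r c) = MulAut.conj (s * r) c := by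
          rw [map_mul, MulAut.mul_apply]
      _ = MulAut.conj (r * (r * (r * s))) c := by rw [hsr]
      _ = MulAut.conj r (MulAut.conj (r * r) (MulAut.conj s c)) := by
          simp only [map_mul, MulAut.mul_apply]
      _ = (MulAut.conj r c)⁻¹ := by rw [hsc, hzinv c hcA, map_inv]
  have hdef : MulAut.conj r c = r * c * r⁻¹ := MulAut.conj_apply r c
  generalize MulAut.conj r c = d at hdA hd1 hrd hsd hdef
  have hbas := basis_of A hAc hA3 hA9 hcA hdA s hsc hsd hc1 hd1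
  have hc3 : c * (c * c) = 1 := by
    have h := hA3 c hcA
    rw [pow_succ, pow_two, mul_assoc] at h; exact h
  have hd3 : d * (d * d) = 1 := by
    have h := hA3 d hdA
    rw [pow_succ, pow_two, mul_assoc] at h; exact h
  have hcinv : c⁻¹ = c * c := inv_eq_of_mul_eq_one_right hc3
  have hdinv : d⁻¹ = d * d := inv_eq_of_mul_eq_one_right hd3
  rw [MulAut.conj_apply, hcinv] at hrd
  rw [MulAut.conj_apply, hdinv] at hsd
  rw [MulAut.conj_apply] at hsc
  refine ⟨c, d, hcA, hdA, hc1, hbas, ?_⟩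
  refine ⟨hc3, hd3, hAc _ hdA _ hcA, hr4, hs2, ?_, ?_, ?_, ?_, hsr, ?_⟩
  · rw [hdef, inv_mul_cancel_right]
  · rw [← mul_assoc, ← hrd, inv_mul_cancel_right]
  · exact mul_inv_eq_iff_eq_mul.1 hsc
  · rw [← mul_assoc, ← hsd, inv_mul_cancel_right]
  · rw [eq_top_iff, ← hAX]
    apply sup_le
    · rw [← hbas]
      exact sup_le (Subgroup.zpowers_le.2 (Subgroup.subset_closure (by simp)))
        (Subgroup.zpowers_le.2 (Subgroup.subset_closure (by simp)))
    · intro x hx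
      obtain ⟨i, j, rfl⟩ := hXgen x hx
      exact mul_mem (pow_mem (Subgroup.subset_closure (by simp)) i)
        (pow_mem (Subgroup.subset_closure (by simp)) j)

end grp

section modl

variable {S : Type*} [Group S] {M : Type*} [AddCommGroup M] [Module (ZMod 2) M]

theorem n12_inv [Finite S] (ρ : Representation (ZMod 2) S M) {c d r s : S} (h : Cfg c d r s) :
    ∀ g : S, ∀ m ∈ fixM (ρ c) ⊔ fixM (ρ d), ρ g m ∈ fixM (ρ c) ⊔ fixM (ρ d) := by
  have o1 : ∀ m : M, ρ c (ρ r m) = ρ r (ρ d (ρ d m)) := fun m => by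
    simp only [← act_mul]; exact word_eq ρ (by simp only [mul_assoc, mul_one, one_mul, h.c3, h.c3x, h.d3, h.d3x, h.r4, h.r4x, h.s2, h.s2x, h.dc, h.dcx, h.rc, h.rcx, h.rd, h.rdx, h.sc, h.scx, h.sd, h.sdx, h.sr, h.srx]) m
  have o2 : ∀ m : M, ρ c (ρ s m) = ρ s (ρ c m) := fun m => by
    simp only [← act_mul]; exact word_eq ρ (by simp only [mul_assoc, mul_one, one_mul, h.c3, h.c3x, h.d3, h.d3x, h.r4, h.r4x, h.s2, h.s2x, h.dc, h.dcx, h.rc, h.rcx, h.rd, h.rdx, h.sc, h.scx, h.sd, h.sdx, h.sr, h.srx]) m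
  have o9 : ∀ m : M, ρ c (ρ d m) = ρ d (ρ c m) := fun m => by
    simp only [← act_mul]; exact word_eq ρ (by simp only [mul_assoc, mul_one, one_mul, h.c3, h.c3x, h.d3, h.d3x, h.r4, h.r4x, h.s2, h.s2x, h.dc, h.dcx, h.rc, h.rcx, h.rd, h.rdx, h.sc, h.scx, h.sd, h.sdx, h.sr, h.srx]) m
  have o12 : ∀ m : M, ρ d (ρ r m) = ρ r (ρ c m) := fun m => by
    simp only [← act_mul]; exact word_eq ρ (by simp only [mul_assoc, mul_one, one_mul, h.c3, h.c3x, h.d3, h.d3x, h.r4, h.r4x, h.s2, h.s2x, h.dc, h.dcx, h.rc, h.rcx, h.rd, h.rdx, h.sc, h.scx, h.sd, h.sdx, h.sr, h.srx]) m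
  have o14 : ∀ m : M, ρ d (ρ s m) = ρ s (ρ d (ρ d m)) := fun m => by
    simp only [← act_mul]; exact word_eq ρ (by simp only [mul_assoc, mul_one, one_mul, h.c3, h.c3x, h.d3, h.d3x, h.r4, h.r4x, h.s2, h.s2x, h.dc, h.dcx, h.rc, h.rcx, h.rd, h.rdx, h.sc, h.scx, h.sd, h.sdx, h.sr, h.srx]) m
  apply inv_of_gens ρ _ {c, d, r, s} h.gen
  intro g hg m hm
  obtain ⟨m₁, h1, m₂, h2, hm12⟩ := Submodule.mem_sup.1 hm
  have h1' : ρ c m₁ = m₁ := h1
  have h2' : ρ d m₂ = m₂ := h2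
  simp only [Set.mem_insert_iff, Set.mem_singleton_iff] at hg
  rw [← hm12, map_add]
  rcases hg with hg | hg | hg | hg
  · rw [hg]
    exact Submodule.add_mem _
      (Submodule.mem_sup_left (show ρ c (ρ c m₁) = ρ c m₁ by rw [h1']; exact h1'))
      (Submodule.mem_sup_right (show ρ d (ρ c m₂) = ρ c m₂ by rw [← o9, h2']))
  · rw [hg]
    exact Submodule.add_mem _
      (Submodule.mem_sup_left (show ρ c (ρ d m₁) = ρ d m₁ by rw [o9, h1']))
      (Submodule.mem_sup_right (show ρ d (ρ d m₂) = ρ d m₂ by rw [h2']; exact h2'))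
  · rw [hg]
    exact Submodule.add_mem _
      (Submodule.mem_sup_right (show ρ d (ρ r m₁) = ρ r m₁ by rw [o12, h1']))
      (Submodule.mem_sup_left (show ρ c (ρ r m₂) = ρ r m₂ by rw [o1, h2', h2']))
  · rw [hg]
    exact Submodule.add_mem _
      (Submodule.mem_sup_left (show ρ c (ρ s m₁) = ρ s m₁ by rw [o2, h1']))
      (Submodule.mem_sup_right (show ρ d (ρ s m₂) = ρ s m₂ by rw [o14, h2', h2']))

theorem decomp4 (ρ : Representation (ZMod 2) S M) {c d : S} (hc3 : c * (c * c) = 1)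
    (hd3 : d * (d * d) = 1) (hdc : d * c = c * d)
    (hfix0 : ∀ m : M, ρ c m = m → ρ d m = m → m = 0) (m : M) :
    ∃ m₁ m₂ m₃ m₄ : M, ρ c m₁ = m₁ ∧ ρ d m₂ = m₂ ∧ ρ (c * d) m₃ = m₃ ∧
      ρ (d * (c * c)) m₄ = m₄ ∧ m = m₁ + m₂ + m₃ + m₄ := by
  have hC3 : ∀ x : M, ρ c (ρ c (ρ c x)) = x := fun x => by
    simp only [← act_mul, mul_assoc, hc3, act_one]
  have hD3 : ∀ x : M, ρ d (ρ d (ρ d x)) = x := fun x => by
    simp only [← act_mul, mul_assoc, hd3, act_one]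
  have hDC : ∀ x : M, ρ d (ρ c x) = ρ c (ρ d x) := fun x => by
    rw [← act_mul, ← act_mul, hdc]
  have hw0 : (m + ρ c m + ρ c (ρ c m) + ρ d m + ρ c (ρ d m) + ρ c (ρ c (ρ d m)) + ρ d (ρ d m) + ρ c (ρ d (ρ d m)) + ρ c (ρ c (ρ d (ρ d m)))) = 0 := by
    apply hfix0
    · simp only [map_add, hC3]; abel
    · simp only [map_add, hDC, hD3]; abel
  refine ⟨(m + ρ c m + ρ c (ρ c m)), (m + ρ d m + ρ d (ρ d m)), (m + ρ c (ρ d m) + ρ c (ρ c (ρ d (ρ d m)))), (m + ρ c (ρ c (ρ d m)) + ρ c (ρ d (ρ d m))), ?_, ?_, ?_, ?_, ?_⟩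
  · simp only [map_add, hC3]; abel
  · simp only [map_add, hD3]; abel
  · rw [act_mul]; simp only [map_add, hDC, hC3, hD3]; abel
  · rw [act_mul, act_mul]; simp only [map_add, hDC, hC3, hD3]; abel
  · have key : (m + ρ c m + ρ c (ρ c m)) + (m + ρ d m + ρ d (ρ d m)) + (m + ρ c (ρ d m) + ρ c (ρ c (ρ d (ρ d m)))) + (m + ρ c (ρ c (ρ d m)) + ρ c (ρ d (ρ d m))) = (m + ρ c m + ρ c (ρ c m) + ρ d m + ρ c (ρ d m) + ρ c (ρ c (ρ d m)) + ρ d (ρ d m) + ρ c (ρ d (ρ d m)) + ρ c (ρ c (ρ d (ρ d m)))) + (m + m) + m := by abel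
    rw [key, hw0, add_self2, zero_add, zero_add]

end modl

theorem main {S : Type*} [Group S] [Finite S]
    (A : Subgroup S) [A.Normal] (hA : Cfsg.IsElementaryAbelian 3 A) (hA9 : Nat.card ↥A = 9)
    (hAC : Subgroup.centralizer (A : Set S) = A) (X : Subgroup S)
    (hX : Nonempty (↥X ≃* DihedralGroup 4)) (hAX : A ⊔ X = ⊤)
    {M : Type*} [AddCommGroup M] [Module (ZMod 2) M] [Finite M]
    (ρ : Representation (ZMod 2) S M) (hfaith : Function.Injective ρ)
    (hirr : ∀ N : Submodule (ZMod 2) M, (∀ s : S, ∀ m ∈ N, ρ s m ∈ N) → N = ⊥ ∨ N = ⊤)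
    (hM : Nontrivial M) :
    Nat.card M = 16 ∧
      ∃! B : Subgroup S, B ≤ X ∧ Nat.card ↥B = 4 ∧ (∀ b ∈ B, b ^ 2 = 1) ∧
        Nat.card {m : M // ∀ b ∈ B, ρ b m = m} = 2 := by
  obtain ⟨ψ, hψi, hψX, hψs⟩ := exists_psi X hX
  have hAc : ∀ a ∈ A, ∀ b ∈ A, a * b = b * a := (KJ.isMulComm_iff A).1 hA.1
  have hA3 : ∀ a ∈ A, a ^ 3 = 1 := hA.2
  obtain ⟨r, hr⟩ : ∃ r : S, r = ψ (DihedralGroup.r 1) := ⟨_, rfl⟩
  obtain ⟨s, hs⟩ : ∃ s : S, s = ψ (DihedralGroup.sr 0) := ⟨_, rfl⟩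
  have hrX : r ∈ X := by rw [hr]; exact hψX _
  have hsX : s ∈ X := by rw [hs]; exact hψX _
  have hr4 : r * (r * (r * r)) = 1 := by
    rw [hr, ← map_mul ψ, ← map_mul ψ, ← map_mul ψ, d4_f1, map_one]
  have hs2 : s * s = 1 := by rw [hs, ← map_mul ψ, d4_f2, map_one]
  have hsr : s * r = r * (r * (r * s)) := by
    rw [hs, hr, ← map_mul ψ, ← map_mul ψ, ← map_mul ψ, ← map_mul ψ, d4_f3]
  have hz1 : r * r ≠ 1 := by
    intro h
    rw [hr, ← map_mul ψ, ← map_one ψ] at h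
    exact d4_f4 (hψi h)
  have hsz : s * (r * r) ≠ 1 := by
    intro h
    rw [hs, hr, ← map_mul ψ, ← map_mul ψ, ← map_one ψ] at h
    exact d4_f5 (hψi h)
  have hx8 : ∀ x ∈ X, x ^ 8 = 1 := by
    intro x hx
    obtain ⟨y, rfl⟩ := hψs x hx
    rw [← map_pow, d4_f6, map_one]
  have hXgen : ∀ x ∈ X, ∃ i j : ℕ, x = r ^ i * s ^ j := by
    intro x hx
    obtain ⟨y, rfl⟩ := hψs x hx
    obtain ⟨i, -, j, -, hy⟩ := d4_f7 y
    exact ⟨i, j, by rw [hy, map_mul ψ, map_pow, map_pow, hr, hs]⟩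
  have hfa : ∀ x ∈ X, (∀ a ∈ A, MulAut.conj x a = a) → x = 1 := by
    intro x hx hcen
    have hxA : x ∈ A := by
      rw [← hAC, Subgroup.mem_centralizer_iff]
      intro a ha
      have h := hcen a ha
      rw [MulAut.conj_apply] at h
      exact (mul_inv_eq_iff_eq_mul.1 h).symm
    have h3 := hA3 x hxA
    have h8 := hx8 x hx
    have h9 : x ^ 9 = 1 := by rw [show 9 = 3 * 3 from rfl, pow_mul, h3, one_pow]
    rw [pow_succ, h8, one_mul] at h9
    exact h9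
  obtain ⟨c, d, hcA, hdA, hc1, hbas, cfg⟩ :=
    exists_cfg A hAc hA3 hA9 X hfa hAX r s hrX hsX hr4 hs2 hsr hz1 hsz hXgen
  have hfixA : ∀ m : M, (∀ a ∈ A, ρ a m = m) → m = 0 := by
    let N0 : Submodule (ZMod 2) M :=
      { carrier := {m | ∀ a ∈ A, ρ a m = m}
        add_mem' := by
          intro x y hx hy a ha
          rw [map_add, hx a ha, hy a ha]
        zero_mem' := by
          intro a ha
          exact map_zero _
        smul_mem' := by
          intro k x hx a ha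
          rw [map_smul, hx a ha] }
    have hinv : ∀ g : S, ∀ m ∈ N0, ρ g m ∈ N0 := by
      intro g m hm a ha
      have e : a * g = g * (g⁻¹ * a * g) := by group
      have hconj : g⁻¹ * a * g ∈ A := by
        have h := (inferInstance : A.Normal).conj_mem a ha g⁻¹
        rw [inv_inv] at h; exact h
      rw [← act_mul, e, act_mul, hm _ hconj]
    rcases hirr N0 hinv with h0 | h1
    · intro m hm
      have h : m ∈ N0 := hm
      rw [h0, Submodule.mem_bot] at h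
      exact h
    · exfalso
      apply hc1
      apply hfaith
      rw [map_one]
      apply LinearMap.ext
      intro m
      have h : m ∈ N0 := by rw [h1]; trivial
      exact h c hcA
  have hfix_of_stab : ∀ m : M, c ∈ stab ρ m → d ∈ stab ρ m → m = 0 := by
    intro m h1 h2
    have hle : A ≤ stab ρ m := by
      rw [← hbas]
      exact sup_le (Subgroup.zpowers_le.2 h1) (Subgroup.zpowers_le.2 h2)
    exact hfixA m (fun a ha => hle ha)
  have hfix0 : ∀ m : M, ρ c m = m → ρ d m = m → m = 0 := fun m h1 h2 => hfix_of_stab m h1 h2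
  have o4 : ∀ m : M, ρ r (ρ r (ρ r (ρ r m))) = m := fun m => by
    simp only [← act_mul, mul_assoc, cfg.r4, act_one]
  have hkey : Nat.card M = 16 ∧
      ((Nat.card {m : M // ρ s m = m ∧ ρ r (ρ r m) = m} = 4 ∧
        Nat.card {m : M // ρ s (ρ r m) = m ∧ ρ r (ρ r m) = m} = 2) ∨
      (Nat.card {m : M // ρ s (ρ r m) = m ∧ ρ r (ρ r m) = m} = 4 ∧
        Nat.card {m : M // ρ s m = m ∧ ρ r (ρ r m) = m} = 2)) := by
    rcases hirr _ (n12_inv ρ cfg) with h0 | h1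
    · have hsum' : ∀ m : M, ∃ m₁ m₂ : M, ρ (c * d) m₁ = m₁ ∧ ρ (d * (c * c)) m₂ = m₂ ∧
          m = m₁ + m₂ := by
        intro m
        obtain ⟨m₁, m₂, m₃, m₄, e1, e2, e3, e4, e⟩ := decomp4 ρ cfg.c3 cfg.d3 cfg.dc hfix0 m
        have z1 : m₁ = 0 := by
          have h : m₁ ∈ fixM (ρ c) ⊔ fixM (ρ d) := Submodule.mem_sup_left e1
          rw [h0, Submodule.mem_bot] at h; exact h
        have z2 : m₂ = 0 := by
          have h : m₂ ∈ fixM (ρ c) ⊔ fixM (ρ d) := Submodule.mem_sup_right e2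
          rw [h0, Submodule.mem_bot] at h; exact h
        exact ⟨m₃, m₄, e3, e4, by rw [e, z1, z2, zero_add, zero_add]⟩
      have hfix0' : ∀ m : M, ρ (c * d) m = m → ρ (d * (c * c)) m = m → m = 0 := by
        intro m h1 h2
        have h1' : c * d ∈ stab ρ m := h1
        have h2' : d * (c * c) ∈ stab ρ m := h2
        have ec : c = (c * d) * ((c * d) * (d * (c * c))) := by simp only [mul_assoc, mul_one, one_mul, cfg.c3, cfg.c3x, cfg.d3, cfg.d3x, cfg.r4, cfg.r4x, cfg.s2, cfg.s2x, cfg.dc, cfg.dcx, cfg.rc, cfg.rcx, cfg.rd, cfg.rdx, cfg.sc, cfg.scx, cfg.sd, cfg.sdx, cfg.sr, cfg.srx]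
        have ed : d = ((c * d) * (d * (c * c))) * ((c * d) * (d * (c * c))) := by
          simp only [mul_assoc, mul_one, one_mul, cfg.c3, cfg.c3x, cfg.d3, cfg.d3x, cfg.r4, cfg.r4x, cfg.s2, cfg.s2x, cfg.dc, cfg.dcx, cfg.rc, cfg.rcx, cfg.rd, cfg.rdx, cfg.sc, cfg.scx, cfg.sd, cfg.sdx, cfg.sr, cfg.srx]
        apply hfix_of_stab m
        · have h3 := mul_mem h1' (mul_mem h1' h2')
          rw [← ec] at h3; exact h3
        · have h3 := mul_mem (mul_mem h1' h2') (mul_mem h1' h2')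
          rw [← ed] at h3; exact h3
      obtain ⟨k16, k4, k2⟩ := core ρ cfg.swap hirr hfix0' hsum' hM
      refine ⟨k16, Or.inr ⟨?_, ?_⟩⟩
      · refine (Nat.card_congr (Equiv.subtypeEquivRight (fun m => ?_))).trans k4
        constructor
        · rintro ⟨h1, h2⟩
          refine ⟨?_, h2⟩
          rw [act_mul, act_mul, act_mul, h2]; exact h1
        · rintro ⟨h1, h2⟩
          refine ⟨?_, h2⟩
          have e : ρ (s * (r * (r * r))) m = ρ s (ρ r m) := by
            rw [act_mul, act_mul, act_mul, h2]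
          rw [← e]; exact h1
      · refine (Nat.card_congr (Equiv.subtypeEquivRight (fun m => ?_))).trans k2
        have e : ρ (s * (r * (r * r))) (ρ r m) = ρ s m := by
          rw [act_mul, act_mul, act_mul, o4]
        rw [e]
    · have hsum : ∀ m : M, ∃ m₁ m₂ : M, ρ c m₁ = m₁ ∧ ρ d m₂ = m₂ ∧ m = m₁ + m₂ := by
        intro m
        have h : m ∈ fixM (ρ c) ⊔ fixM (ρ d) := by rw [h1]; trivial
        obtain ⟨y, hy, z, hz, hyz⟩ := Submodule.mem_sup.1 h
        exact ⟨y, z, hy, hz, hyz.symm⟩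
      obtain ⟨k16, k4, k2⟩ := core ρ cfg hirr hfix0 hsum hM
      exact ⟨k16, Or.inl ⟨k4, k2⟩⟩
  obtain ⟨k16, hcases⟩ := hkey
  refine ⟨k16, ?_⟩
  have hB1X : K1.map ψ ≤ X := by
    intro b hb
    obtain ⟨k, -, rfl⟩ := Subgroup.mem_map.1 hb
    exact hψX k
  have hB2X : K2.map ψ ≤ X := by
    intro b hb
    obtain ⟨k, -, rfl⟩ := Subgroup.mem_map.1 hb
    exact hψX k
  have hB1c : Nat.card ↥(K1.map ψ) = 4 := by
    rw [Subgroup.card_map_of_injective hψi, card_K1]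
  have hB2c : Nat.card ↥(K2.map ψ) = 4 := by
    rw [Subgroup.card_map_of_injective hψi, card_K2]
  have hB1e : ∀ b ∈ K1.map ψ, b ^ 2 = 1 := by
    intro b hb
    obtain ⟨k, hk, rfl⟩ := Subgroup.mem_map.1 hb
    rw [← map_pow, K1_sq k hk, map_one]
  have hB2e : ∀ b ∈ K2.map ψ, b ^ 2 = 1 := by
    intro b hb
    obtain ⟨k, hk, rfl⟩ := Subgroup.mem_map.1 hb
    rw [← map_pow, K2_sq k hk, map_one]
  have hB1f : Nat.card {m : M // ∀ b ∈ K1.map ψ, ρ b m = m}
      = Nat.card {m : M // ρ s m = m ∧ ρ r (ρ r m) = m} := by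
    apply Nat.card_congr
    apply Equiv.subtypeEquivRight
    intro m
    constructor
    · intro hall
      refine ⟨?_, ?_⟩
      · rw [hs]
        exact hall _ (Subgroup.mem_map_of_mem ψ (mem_K1.2 (Or.inr (Or.inr (Or.inl rfl)))))
      · have h := hall _ (Subgroup.mem_map_of_mem ψ (mem_K1.2 (Or.inr (Or.inl rfl))))
        rw [map_mul ψ, act_mul, ← hr] at h; exact h
    · rintro ⟨h1, h2⟩ b hb
      obtain ⟨k, hk, rfl⟩ := Subgroup.mem_map.1 hb
      rcases mem_K1.1 hk with h | h | h | h <;> rw [h]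
      · rw [map_one, act_one]
      · rw [map_mul ψ, act_mul, ← hr]; exact h2
      · rw [← hs]; exact h1
      · rw [map_mul ψ, map_mul ψ, act_mul, act_mul, ← hr, ← hs, h2]; exact h1
  have hB2f : Nat.card {m : M // ∀ b ∈ K2.map ψ, ρ b m = m}
      = Nat.card {m : M // ρ s (ρ r m) = m ∧ ρ r (ρ r m) = m} := by
    apply Nat.card_congr
    apply Equiv.subtypeEquivRight
    intro m
    constructor
    · intro hall
      refine ⟨?_, ?_⟩
      · have h := hall _ (Subgroup.mem_map_of_mem ψ (mem_K2.2 (Or.inr (Or.inr (Or.inl rfl)))))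
        rw [map_mul ψ, act_mul, ← hr, ← hs] at h; exact h
      · have h := hall _ (Subgroup.mem_map_of_mem ψ (mem_K2.2 (Or.inr (Or.inl rfl))))
        rw [map_mul ψ, act_mul, ← hr] at h; exact h
    · rintro ⟨h1, h2⟩ b hb
      obtain ⟨k, hk, rfl⟩ := Subgroup.mem_map.1 hb
      rcases mem_K2.1 hk with h | h | h | h <;> rw [h]
      · rw [map_one, act_one]
      · rw [map_mul ψ, act_mul, ← hr]; exact h2
      · rw [map_mul ψ, act_mul, ← hr, ← hs]; exact h1
      · rw [map_mul ψ, map_mul ψ, map_mul ψ, act_mul, act_mul, act_mul, ← hr, ← hs, h2]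
        exact h1
  have hcls : ∀ B : Subgroup S, B ≤ X → Nat.card ↥B = 4 → (∀ b ∈ B, b ^ 2 = 1) →
      B = K1.map ψ ∨ B = K2.map ψ := by
    intro B hBX hB4 hBe
    have hrange : B ≤ ψ.range := by
      intro b hb
      obtain ⟨y, hy⟩ := hψs b (hBX hb)
      exact ⟨y, hy⟩
    have hmap : (B.comap ψ).map ψ = B := Subgroup.map_comap_eq_self hrange
    have hc4 : Nat.card ↥(B.comap ψ) = 4 := by
      rw [← Subgroup.card_map_of_injective hψi, hmap]; exact hB4
    have hce : ∀ b ∈ B.comap ψ, b ^ 2 = 1 := by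
      intro b hb
      apply hψi
      rw [map_pow, map_one]
      exact hBe _ (Subgroup.mem_comap.1 hb)
    rcases d4_class _ hc4 hce with h | h
    · left; rw [← hmap, h]
    · right; rw [← hmap, h]
  rcases hcases with ⟨h4, h2⟩ | ⟨h4, h2⟩
  · refine ⟨K2.map ψ, ⟨hB2X, hB2c, hB2e, hB2f.trans h2⟩, ?_⟩
    rintro B ⟨hBX, hB4, hBe, hBf⟩
    rcases hcls B hBX hB4 hBe with h | h
    · exfalso
      rw [h, hB1f, h4] at hBf
      exact absurd hBf (by norm_num)
    · exact h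
  · refine ⟨K1.map ψ, ⟨hB1X, hB1c, hB1e, hB1f.trans h2⟩, ?_⟩
    rintro B ⟨hBX, hB4, hBe, hBf⟩
    rcases hcls B hBX hB4 hBe with h | h
    · exact h
    · exfalso
      rw [h, hB2f, h4] at hBf
      exact absurd hBf (by norm_num)

end Cfsg.Agent.Helper10.T72
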