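import Mathlib
import Cfsg.Prelude.Def_GeometricClasses

set_option autoImplicit false

namespace Cfsg.Agent.Helper10.U3B2

variable {F : Type*} [Field F] [Fintype F] {p : ℕ} [Fact p.Prime] [CharP F p]

theorem cube_root (ω : F) (hω : ω ≠ 1) (hω3 : ω ^ 3 = 1) (x y : F) (h : x ^ 3 = y ^ 3) :
    ∃ s : ℕ, x = ω ^ s * y := by
  have h1 : 1 + ω + ω ^ 2 = 0 := by
    have h2 : (ω - 1) * (1 + ω + ω ^ 2) = 0 := by linear_combination hω3
    rcases mul_eq_zero.mp h2 with h3 | h3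
    · exact absurd (sub_eq_zero.mp h3) hω
    · exact h3
  have h4 : (x - y) * (x - ω * y) * (x - ω ^ 2 * y) = 0 := by
    linear_combination h + (-x ^ 2 * y + x * y ^ 2) * h1 + (x * y ^ 2 - y ^ 3) * hω3
  rcases mul_eq_zero.mp h4 with h5 | h5
  · rcases mul_eq_zero.mp h5 with h6 | h6
    · exact ⟨0, by linear_combination h6⟩
    · exact ⟨1, by linear_combination h6⟩
  · exact ⟨2, by linear_combination h5⟩

theorem DC (ω : F) (d : Fin 3 → F) (s m : ℕ)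
    (e0 : d 0 = ω ^ s * d 2) (e1 : d 1 = ω ^ s * (ω ^ 2) ^ m * d 0)
    (e2 : d 2 = ω ^ s * ω ^ m * d 1) :
    Matrix.diagonal d * !![0, 0, 1; 1, 0, 0; 0, 1, 0] =
      (ω ^ s • (Matrix.diagonal ![1, ω ^ 2, ω] ^ m * !![0, 0, 1; 1, 0, 0; 0, 1, 0] ^ 1)) *
        Matrix.diagonal d := by
  rw [Matrix.diagonal_pow, pow_one]
  ext a b
  rw [Matrix.diagonal_mul, Matrix.mul_diagonal, Matrix.smul_apply, Matrix.diagonal_mul]
  fin_cases a <;> fin_cases b <;> simp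
  · exact e0
  · exact e1
  · exact e2

theorem diag_inv (ω : F) (hω3 : ω ^ 3 = 1) :
    Matrix.diagonal ![1, ω ^ 2, ω] * Matrix.diagonal ![1, ω, ω ^ 2] =
        (1 : Matrix (Fin 3) (Fin 3) F) ∧
      Matrix.diagonal ![1, ω, ω ^ 2] * Matrix.diagonal ![1, ω ^ 2, ω] =
        (1 : Matrix (Fin 3) (Fin 3) F) := by
  constructor
  · rw [Matrix.diagonal_mul_diagonal, ← Matrix.diagonal_one]
    congr 1
    funext i
    fin_cases i
    · simp
    · simp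
      linear_combination hω3
    · simp
      linear_combination hω3
  · rw [Matrix.diagonal_mul_diagonal, ← Matrix.diagonal_one]
    congr 1
    funext i
    fin_cases i
    · simp
    · simp
      linear_combination hω3
    · simp
      linear_combination hω3

theorem cyc_inv :
    (!![0, 0, 1; 1, 0, 0; 0, 1, 0] : Matrix (Fin 3) (Fin 3) F) * !![0, 1, 0; 0, 0, 1; 1, 0, 0] = 1 ∧
      (!![0, 1, 0; 0, 0, 1; 1, 0, 0] : Matrix (Fin 3) (Fin 3) F) * !![0, 0, 1; 1, 0, 0; 0, 1, 0] = 1 := by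
  constructor
  · rw [Matrix.mul_fin_three, Matrix.one_fin_three]
    simp
  · rw [Matrix.mul_fin_three, Matrix.one_fin_three]
    simp

theorem conj_into (R : Subgroup (GL (Fin 3) F)) (g : GL (Fin 3) F) (ω : F) (hω : ω ≠ 1)
    (hω3 : ω ^ 3 = 1)
    (hRd : ∀ y : GL (Fin 3) F, y ∈ R ↔ ∃ i j k : ℕ, (y : Matrix (Fin 3) (Fin 3) F) = (g : Matrix (Fin 3) (Fin 3) F) * (ω ^ i • (Matrix.diagonal ![1, ω ^ 2, ω] ^ j * !![0, 0, 1; 1, 0, 0; 0, 1, 0] ^ k)) * ((g⁻¹ : GL (Fin 3) F) : Matrix (Fin 3) (Fin 3) F))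
    (D : GL (Fin 3) F) (d : Fin 3 → F) (hD : (D : Matrix (Fin 3) (Fin 3) F) = Matrix.diagonal d)
    (h01 : d 0 ^ 3 = d 1 ^ 3) (h12 : d 1 ^ 3 = d 2 ^ 3) :
    ∀ y ∈ R, g * D * g⁻¹ * y * (g * D * g⁻¹)⁻¹ ∈ R := by
  obtain ⟨A', hA'⟩ : ∃ A' : GL (Fin 3) F,
      (A' : Matrix (Fin 3) (Fin 3) F) = Matrix.diagonal ![1, ω ^ 2, ω] :=
    ⟨⟨Matrix.diagonal ![1, ω ^ 2, ω], Matrix.diagonal ![1, ω, ω ^ 2], (diag_inv ω hω3).1,
      (diag_inv ω hω3).2⟩, rfl⟩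
  obtain ⟨C', hC'⟩ : ∃ C' : GL (Fin 3) F,
      (C' : Matrix (Fin 3) (Fin 3) F) = !![0, 0, 1; 1, 0, 0; 0, 1, 0] :=
    ⟨⟨!![0, 0, 1; 1, 0, 0; 0, 1, 0], !![0, 1, 0; 0, 0, 1; 1, 0, 0], cyc_inv.1, cyc_inv.2⟩, rfl⟩
  have hww : ω * ω ^ 2 = 1 := by linear_combination hω3
  have hww' : ω ^ 2 * ω = 1 := by linear_combination hω3
  obtain ⟨z', hz'⟩ : ∃ z' : GL (Fin 3) F,
      (z' : Matrix (Fin 3) (Fin 3) F) = ω • (1 : Matrix (Fin 3) (Fin 3) F) :=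
    ⟨⟨ω • 1, ω ^ 2 • 1, by rw [Matrix.smul_mul, Matrix.mul_smul, Matrix.one_mul, smul_smul, hww, one_smul],
      by rw [Matrix.smul_mul, Matrix.mul_smul, Matrix.one_mul, smul_smul, hww', one_smul]⟩, rfl⟩
  -- exponents
  obtain ⟨s, e0⟩ := cube_root ω hω hω3 (d 0) (d 2) (h01.trans h12)
  obtain ⟨t, ht⟩ := cube_root ω hω hω3 (d 1) (d 0) h01.symm
  have e1 : d 1 = ω ^ s * (ω ^ 2) ^ (2 * t + s) * d 0 := by
    have h : ω ^ s * (ω ^ 2) ^ (2 * t + s) = (ω ^ 3) ^ (s + t) * ω ^ t := by ring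
    rw [h, hω3, one_pow, one_mul]
    exact ht
  have e2 : d 2 = ω ^ s * ω ^ (2 * t + s) * d 1 := by
    have h : ω ^ s * ω ^ (2 * t + s) * (ω ^ t * (ω ^ s * d 2)) = (ω ^ 3) ^ (s + t) * d 2 := by
      ring
    rw [ht, e0, h, hω3, one_pow, one_mul]
  have hDC := DC ω d s (2 * t + s) e0 e1 e2
  have hDD : (D : Matrix (Fin 3) (Fin 3) F) * ((D⁻¹ : GL (Fin 3) F) : Matrix (Fin 3) (Fin 3) F) = 1 := by
    rw [← Units.val_mul, mul_inv_cancel, Units.val_one]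
  -- the subgroup of elements whose conjugate lies in R
  have hz : g * D * z' * (g * D)⁻¹ ∈ R := by
    have hcomm : D * z' = z' * D := by
      apply Units.ext
      rw [Units.val_mul, Units.val_mul, hz', Matrix.smul_mul, Matrix.mul_smul, Matrix.one_mul,
        Matrix.mul_one]
    have e : g * D * z' * (g * D)⁻¹ = g * z' * g⁻¹ := by
      have e' : g * D * z' * (g * D)⁻¹ = g * (D * z') * D⁻¹ * g⁻¹ := by group
      rw [e', hcomm]
      group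
    rw [e, hRd]
    refine ⟨1, 0, 0, ?_⟩
    rw [Units.val_mul, Units.val_mul, hz']
    simp
  have ha : g * D * A' * (g * D)⁻¹ ∈ R := by
    have hcomm : D * A' = A' * D := by
      apply Units.ext
      rw [Units.val_mul, Units.val_mul, hA', hD, Matrix.diagonal_mul_diagonal,
        Matrix.diagonal_mul_diagonal]
      congr 1
      funext i
      exact mul_comm _ _
    have e : g * D * A' * (g * D)⁻¹ = g * A' * g⁻¹ := by
      have e' : g * D * A' * (g * D)⁻¹ = g * (D * A') * D⁻¹ * g⁻¹ := by group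
      rw [e', hcomm]
      group
    rw [e, hRd]
    refine ⟨0, 1, 0, ?_⟩
    rw [Units.val_mul, Units.val_mul, hA']
    simp
  have hc : g * D * C' * (g * D)⁻¹ ∈ R := by
    have e : g * D * C' * (g * D)⁻¹ = g * (D * C' * D⁻¹) * g⁻¹ := by group
    rw [e, hRd]
    refine ⟨s, 2 * t + s, 1, ?_⟩
    rw [Units.val_mul, Units.val_mul, Units.val_mul, Units.val_mul, hC', hD, hDC, ← hD,
      Matrix.mul_assoc _ (D : Matrix (Fin 3) (Fin 3) F), hDD, Matrix.mul_one]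
  intro y hy
  obtain ⟨i, j, k, hym⟩ := (hRd y).mp hy
  have hyw : y = g * (z' ^ i * A' ^ j * C' ^ k) * g⁻¹ := by
    apply Units.ext
    rw [hym, Units.val_mul, Units.val_mul, Units.val_mul, Units.val_mul, Units.val_pow_eq_pow_val,
      Units.val_pow_eq_pow_val, Units.val_pow_eq_pow_val, hz', hA', hC', smul_pow, one_pow,
      Matrix.smul_mul, Matrix.smul_mul, Matrix.one_mul]
  have hconj : ∀ w : GL (Fin 3) F,
      g * D * g⁻¹ * (g * w * g⁻¹) * (g * D * g⁻¹)⁻¹ = g * D * w * (g * D)⁻¹ := by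
    intro w
    group
  have hmul : ∀ w₁ w₂ : GL (Fin 3) F, g * D * w₁ * (g * D)⁻¹ ∈ R → g * D * w₂ * (g * D)⁻¹ ∈ R →
      g * D * (w₁ * w₂) * (g * D)⁻¹ ∈ R := by
    intro w₁ w₂ h₁ h₂
    have e : g * D * (w₁ * w₂) * (g * D)⁻¹ =
        (g * D * w₁ * (g * D)⁻¹) * (g * D * w₂ * (g * D)⁻¹) := by group
    rw [e]
    exact R.mul_mem h₁ h₂
  have hpow : ∀ (w : GL (Fin 3) F), g * D * w * (g * D)⁻¹ ∈ R →
      ∀ n : ℕ, g * D * w ^ n * (g * D)⁻¹ ∈ R := by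
    intro w hw n
    induction n with
    | zero =>
      have e : g * D * w ^ 0 * (g * D)⁻¹ = 1 := by group
      rw [e]
      exact R.one_mem
    | succ n ih =>
      rw [pow_succ]
      exact hmul _ _ ih hw
  rw [hyw, hconj]
  exact hmul _ _ (hmul _ _ (hpow z' hz i) (hpow A' ha j)) (hpow C' hc k)

theorem nz_D (R : Subgroup (GL (Fin 3) F)) (g : GL (Fin 3) F) (ω : F) (hω : ω ≠ 1) (hω3 : ω ^ 3 = 1) (hRd : ∀ y : GL (Fin 3) F, y ∈ R ↔ ∃ i j k : ℕ, (y : Matrix (Fin 3) (Fin 3) F) = (g : Matrix (Fin 3) (Fin 3) F) * (ω ^ i • (Matrix.diagonal ![1, ω ^ 2, ω] ^ j * !![0, 0, 1; 1, 0, 0; 0, 1, 0] ^ k)) * ((g⁻¹ : GL (Fin 3) F) : Matrix (Fin 3) (Fin 3) F)) (D : GL (Fin 3) F) (d : Fin 3 → F) (hD : (D : Matrix (Fin 3) (Fin 3) F) = Matrix.diagonal d) (h01 : d 0 ^ 3 = d 1 ^ 3) (h12 : d 1 ^ 3 = d 2 ^ 3) : g * D * g⁻¹ ∈ Cfsg.Geo.subgroupNormalizer R := by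
  show g * D * g⁻¹ ∈ Subgroup.normalizer (R : Set (GL (Fin 3) F))
  exact Subgroup.mem_normalizer_fintype (conj_into R g ω hω hω3 hRd D d hD h01 h12)

end Cfsg.Agent.Helper10.U3B2
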