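import Mathlib
import Cfsg.Prelude.Def_ConjugacyFunctors
import Cfsg.Prelude.Def_LocalEven
import Cfsg.Prelude.Def_PLocal
import Cfsg.Agent.Helper10.ClimbP
import Cfsg.Agent.Helper10.SolvFus
import Cfsg.Agent.Helper10.KStable
import Cfsg.Agent.Helper10.RelCtl2
import Cfsg.Agent.Helper21.NpcZJ
import Cfsg.Agent.Helper23.ZJ3
import Cfsg.Agent.Helper23.Dk9
import Cfsg.Agent.Helper23.Dk18
import Cfsg.Agent.Helper26.Involves

/-!
# Local-to-global control of fusion by `N(Z(J(S)))`

* `isConjugacyFunctor_zjSub`: `P ↦ zjSub p e P` is a conjugacy functor.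
* `zj_loc_ctl`: in a subgroup `N` all of whose sections are quadratically stable, `N_N(zjSub R)`
  controls strong fusion in a Sylow `p`-subgroup `R` of `N`.
* `zj_ctl_of_local`: if `N_G(T)` has quadratically stable sections for every `Z(S) ≤ T ≤ S`, then
  `N_G(Z(J(S)))` controls strong fusion in `S`.
-/

set_option autoImplicit false

namespace Cfsg.Agent.Helper10

open Cfsg

universe u

section

variable {G : Type u} [Group G] [Finite G] {p : ℕ} [Fact p.Prime]

/-- `P ↦ zjSub p e P` is a conjugacy functor. -/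
theorem isConjugacyFunctor_zjSub (e : Bool) :
    Cfsg.IsConjugacyFunctor p (fun P : Subgroup G => Helper23.zjSub p e P) := by
  intro P hP
  refine ⟨Helper23.zjSub_le p e P, fun hne => ?_, fun g => ?_⟩
  · have h1 := ind_ne_bot (Helper21.zjW p e) (Helper21.zjW_char p e) P hP hne
    rw [Helper21.inducedFunctor_zjW] at h1
    exact h1
  · exact (Helper23.zjSub_map (MulAut.conj g) P).symm

omit [Fact p.Prime] in
/-- Central elements of `R` lie in `Z(J(R))` (abelian version). -/
theorem center_mem_zjSub {R : Subgroup G} {z : G} (hzR : z ∈ R)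
    (hzc : ∀ r ∈ R, r * z = z * r) : z ∈ Helper23.zjSub p false R := by
  unfold Helper23.zjSub
  rw [Subgroup.mem_sInf]
  intro A hA
  obtain ⟨hAR, hAg, hAmax⟩ := hA
  have hAc : ∀ a ∈ A, ∀ b ∈ A, a * b = b * a := by
    intro a ha b hb
    have h1 := (isMulCommutative_iff.1 hAg.1) ⟨a, ha⟩ ⟨b, hb⟩
    exact congrArg Subtype.val h1
  obtain ⟨B, hB⟩ : ∃ B : Subgroup G, B = Subgroup.closure ((A : Set G) ∪ {z}) := ⟨_, rfl⟩
  have hBc : IsMulCommutative B := by
    rw [hB]
    apply Subgroup.isMulCommutative_closure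
    intro x hx y hy
    rcases hx with hx | hx <;> rcases hy with hy | hy
    · exact hAc x hx y hy
    · rw [Set.mem_singleton_iff] at hy; rw [hy]; exact hzc x (hAR hx)
    · rw [Set.mem_singleton_iff] at hx; rw [hx]; exact (hzc y (hAR hy)).symm
    · rw [Set.mem_singleton_iff] at hx hy; rw [hx, hy]
  have hBR : B ≤ R := by
    rw [hB, Subgroup.closure_le]
    intro x hx
    rcases hx with hx | hx
    · exact hAR hx
    · rw [Set.mem_singleton_iff] at hx; rw [hx]; exact hzR
  have hAB : A ≤ B := by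
    rw [hB]; exact fun x hx => Subgroup.subset_closure (Or.inl hx)
  have hzB : z ∈ B := by
    rw [hB]; exact Subgroup.subset_closure (Or.inr rfl)
  have hcard := hAmax B hBR ⟨hBc, fun h => by simp at h⟩
  have hEq : A = B := Subgroup.eq_of_le_of_card_ge hAB hcard
  rw [hEq]; exact hzB

/-- In a subgroup `N` all of whose sections are quadratically stable, `N_N(zjSub p e R)` controls
strong fusion in a Sylow `p`-subgroup `R` of `N`. -/
theorem zj_loc_ctl (hp : p ≠ 2) (e : Bool) (N R : Subgroup G) (hRN : R ≤ N) (hRp : IsPGroup p R)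
    (hidx : ¬ p ∣ R.relIndex N)
    (hst : ∀ (Y : Type u) [Group Y], IsSec ↥N Y → QStab p Y)
    (A : Set G) (h : G) (hh : h ∈ N) (hA : A ⊆ (R : Set G)) (hhA : lc h A ⊆ (R : Set G)) :
    ∃ x ∈ N ⊓ Subgroup.normalizer ((Helper23.zjSub p e R : Subgroup G) : Set G),
      ∀ a ∈ A, x * a * x⁻¹ = h * a * h⁻¹ := by
  obtain ⟨R', hR'⟩ : ∃ R' : Sylow p ↥N, (R' : Subgroup ↥N) = R.subgroupOf N :=
    ⟨(hRp.comap_subtype (K := N)).toSylow hidx, IsPGroup.toSylow_coe _ _⟩
  have hmap : (R.subgroupOf N).map N.subtype = R := Subgroup.map_subgroupOf_eq_of_le hRN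
  obtain ⟨c, hc, ec⟩ := csf_of_qstab' (Helper21.zjW p e) (Helper21.zjW_char p e) (by
      intro X _ _ S hcons hsec
      have hQ : QStab p X := hsec X (IsSec.refl X)
      rw [Helper21.inducedFunctor_zjW]
      exact Helper23.zjSub_normal_gen hp e hcons S (Helper23.Dk.zjStable_of_qstab hQ _)
        (S : Subgroup X) le_rfl (fun x _ g h => h))
    hst R' (N.subtype ⁻¹' A) ⟨h, hh⟩ (by
      intro a ha
      rw [SetLike.mem_coe, hR']; exact Subgroup.mem_subgroupOf.mpr (hA ha)) (by
      rintro _ ⟨a, ha, rfl⟩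
      rw [SetLike.mem_coe, hR']; exact Subgroup.mem_subgroupOf.mpr (hhA ⟨a, ha, rfl⟩))
  refine ⟨(c : G), ⟨c.2, ?_⟩, fun a ha => ?_⟩
  · rw [Helper21.inducedFunctor_zjW, hR'] at hc
    have e2 : Helper23.zjSub p e R = (Helper23.zjSub p e (R.subgroupOf N)).map N.subtype := by
      rw [← Helper23.zjSub_map_of_injOn N.subtype (R.subgroupOf N)
        (fun x _ hx => Subtype.ext hx), hmap]
    rw [e2]
    exact Subgroup.le_normalizer_map N.subtype (Subgroup.mem_map_of_mem _ hc)
  · have h2 := ec ⟨a, hRN (hA ha)⟩ ha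
    exact congrArg Subtype.val h2

/-- **Local-to-global**: if all sections of `N_G(T)` are quadratically stable for every
`Z(S) ≤ T ≤ S`, then `N_G(Z(J(S)))` controls strong fusion in `S`. -/
theorem zj_ctl_of_local (hp : p ≠ 2) (S : Sylow p G)
    (hloc : ∀ T : Subgroup G,
      (S : Subgroup G) ⊓ Subgroup.centralizer ((S : Subgroup G) : Set G) ≤ T →
      T ≤ (S : Subgroup G) →
      ∀ (Y : Type u) [Group Y], IsSec ↥(Subgroup.normalizer (T : Set G)) Y → QStab p Y)
    (A : Set G) (g : G) (hA : A ⊆ ((S : Subgroup G) : Set G))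
    (hg : lc g A ⊆ ((S : Subgroup G) : Set G)) :
    ∃ n ∈ Subgroup.normalizer ((Helper23.zjSub p false (S : Subgroup G) : Subgroup G) : Set G),
      ∀ a ∈ A, n * a * n⁻¹ = g * a * g⁻¹ := by
  have hW := isConjugacyFunctor_zjSub (G := G) (p := p) false
  refine ctl_of_centric_wp S (fun P : Subgroup G => Helper23.zjSub p false P) hW _ ?_ A g hA hg
  intro U hwp hZU x hx
  have hUR : U ≤ (S : Subgroup G) ⊓ Subgroup.normalizer (U : Set G) :=
    le_inf hwp.1 Subgroup.le_normalizer
  refine climbP S (fun P : Subgroup G => Helper23.zjSub p false P) hW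
    (fun T => (S : Subgroup G) ⊓ Subgroup.centralizer ((S : Subgroup G) : Set G) ≤ T)
    ?_ ?_ _ U hZU hwp rfl (U : Set G) x hx hUR ?_
  · intro T hZT hwpT z hz
    apply center_mem_zjSub
    · exact ⟨hz.1, Subgroup.le_normalizer (hZT hz)⟩
    · intro r hr
      exact Subgroup.mem_centralizer_iff.mp hz.2 r hr.1
  · intro T hZT hwpT B h hh hB hhB
    obtain ⟨y, hy, ey⟩ := zj_loc_ctl hp false (Subgroup.normalizer (T : Set G))
      ((S : Subgroup G) ⊓ Subgroup.normalizer (T : Set G)) inf_le_right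
      (S.isPGroup'.to_le inf_le_left) (hwpT.2 0) (hloc T hZT hwpT.1) B h hh hB hhB
    exact ⟨y, hy.2, ey⟩
  · rintro _ ⟨u, hu, rfl⟩
    exact hUR ((Subgroup.mem_normalizer_iff.mp hx u).mp hu)

end

/-- A surjection from a subgroup `H` of `G` exhibits a section `H / K`. -/
theorem exists_section_of_surj {G : Type*} [Group G] {L : Type*} [Group L] (H : Subgroup G)
    (φ : ↥H →* L) (hφ : Function.Surjective φ) :
    ∃ (K : Subgroup G) (_ : (K.subgroupOf H).Normal), Nonempty ((↥H ⧸ K.subgroupOf H) ≃* L) := by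
  have hR : (φ.ker.map H.subtype).subgroupOf H = φ.ker :=
    Subgroup.comap_map_eq_self_of_injective (Subgroup.subtype_injective H) φ.ker
  have hn : ((φ.ker.map H.subtype).subgroupOf H).Normal := by
    rw [hR]; infer_instance
  exact ⟨φ.ker.map H.subtype, hn,
    ⟨(QuotientGroup.quotientMulEquivOfEq hR).trans
      (QuotientGroup.quotientKerEquivOfSurjective φ hφ)⟩⟩

/-- If `L` is involved in a subgroup `N` of `G`, there is a section `H / K ≃ L` with `H ≤ N`. -/
theorem exists_section_le_of_involves {G : Type*} [Group G] {L : Type*} [Group L] (N : Subgroup G)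
    (h : Involves L ↥N) :
    ∃ (H K : Subgroup G) (_ : (K.subgroupOf H).Normal), H ≤ N ∧
      Nonempty ((↥H ⧸ K.subgroupOf H) ≃* L) := by
  obtain ⟨K₀, f, hf⟩ := Helper26.exists_surj_of_involves h
  obtain ⟨K, hK, hiso⟩ := exists_section_of_surj (K₀.map N.subtype)
    (f.comp (K₀.equivMapOfInjective N.subtype N.subtype_injective).symm.toMonoidHom)
    (hf.comp (K₀.equivMapOfInjective N.subtype N.subtype_injective).symm.surjective)
  exact ⟨K₀.map N.subtype, K, hK, Subgroup.map_subtype_le K₀, hiso⟩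

end Cfsg.Agent.Helper10
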