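import Mathlib
import Cfsg.Prelude.Def_ConjugacyFunctors
import Cfsg.Prelude.Def_LocalEven
import Cfsg.Prelude.Def_PLocal
import Cfsg.Prelude.Def_Local
import Cfsg.Agent.Helper10.ClimbP
import Cfsg.Agent.Helper10.ZJLocal
import Cfsg.Agent.Helper10.RelCtl2
import Cfsg.Agent.Helper7.PLayer
import Cfsg.Agent.Helper19.Nilpotent
import Cfsg.Agent.Helper23.ZJ3
import Cfsg.Agent.S3836

/-!
# `N(Z(J(D)))` controls strong fusion when all `p`-locals are `p`-constrained and `G` is `p`-stable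

`D` a strongly closed subgroup of the Sylow `p`-subgroup `P`.
-/

set_option autoImplicit false

namespace Cfsg.Agent.Helper10

open Cfsg

universe u

section Lift

variable {p : ℕ} [Fact p.Prime]

/-- Lifting single-step control by `N(zjSub p e D)` through a surjection with kernel a normal
`p'`-subgroup. -/
theorem rctl_lift {X Q : Type*} [Group X] [Finite X] [Group Q] [Finite Q] (e : Bool)
    (π : X →* Q) (hπs : Function.Surjective π) (M : Subgroup X) [M.Normal]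
    (hM : (Nat.card M).Coprime p) (hπ1 : ∀ x : X, π x = 1 ↔ x ∈ M)
    (T : Sylow p X) (D : Subgroup X) (hDT : D ≤ (T : Subgroup X))
    (hsc : ∀ x ∈ D, ∀ g : X, g * x * g⁻¹ ∈ (T : Subgroup X) → g * x * g⁻¹ ∈ D)
    (h : ∀ Tb : Sylow p Q, (Tb : Subgroup Q) = (T : Subgroup X).map π →
      D.map π ≤ (Tb : Subgroup Q) →
      (∀ x ∈ D.map π, ∀ g : Q, g * x * g⁻¹ ∈ (Tb : Subgroup Q) → g * x * g⁻¹ ∈ D.map π) →
      ∀ (A' : Set Q) (g' : Q), A' ⊆ ((Tb : Subgroup Q) : Set Q) →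
        lc g' A' ⊆ ((Tb : Subgroup Q) : Set Q) →
        ∃ y ∈ Subgroup.normalizer ((Helper23.zjSub p e (D.map π) : Subgroup Q) : Set Q),
          ∀ a ∈ A', y * a * y⁻¹ = g' * a * g'⁻¹)
    (A : Set X) (g : X) (hA : A ⊆ ((T : Subgroup X) : Set X))
    (hg : lc g A ⊆ ((T : Subgroup X) : Set X)) :
    ∃ y ∈ Subgroup.normalizer ((Helper23.zjSub p e D : Subgroup X) : Set X),
      ∀ a ∈ A, y * a * y⁻¹ = g * a * g⁻¹ := by
  have hp : p.Prime := Fact.out
  have hinj : ∀ x ∈ (T : Subgroup X), π x = 1 → x = 1 := fun x hx h1 =>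
    eq_one_of_mem_coprime_of_mem_pGroup hM T.2 ((hπ1 x).mp h1) hx
  have hinj2 : ∀ x ∈ (T : Subgroup X), ∀ y ∈ (T : Subgroup X), π x = π y → x = y := by
    intro x hx y hy hxy
    have h1 : x * y⁻¹ = 1 := hinj _ (Subgroup.mul_mem _ hx (Subgroup.inv_mem _ hy))
      (by rw [map_mul, map_inv, hxy, mul_inv_cancel])
    exact mul_inv_eq_one.mp h1
  obtain ⟨Tb, hTb⟩ : ∃ Tb : Sylow p Q, (Tb : Subgroup Q) = (T : Subgroup X).map π :=
    ⟨T.mapSurjective hπs, Sylow.coe_mapSurjective hπs T⟩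
  have hidxT : ¬ p ∣ (T : Subgroup X).relIndex ((T : Subgroup X) ⊔ M) := by
    intro hdvd
    exact T.not_dvd_index (dvd_trans hdvd (Subgroup.relIndex_dvd_index_of_le le_sup_left))
  have hTM : ∀ x : X, π x ∈ (T : Subgroup X).map π → x ∈ (T : Subgroup X) ⊔ M := by
    intro x hx
    obtain ⟨t, ht, htt⟩ := hx
    have h3 : t⁻¹ * x ∈ M := by
      rw [← hπ1, map_mul, map_inv, htt, inv_mul_cancel]
    have h4 : x = t * (t⁻¹ * x) := by group
    rw [h4]
    exact Subgroup.mul_mem _ (Subgroup.mem_sup_left ht) (Subgroup.mem_sup_right h3)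
  have hconj : ∀ F : Subgroup X, IsPGroup p F → F ≤ (T : Subgroup X) ⊔ M →
      ∃ m ∈ M, ∀ x ∈ F, m * x * m⁻¹ ∈ (T : Subgroup X) := by
    intro F hFp hFTM
    obtain ⟨z₂, hz₂, hz₂F⟩ := exists_conj_into_of_relIndex ((T : Subgroup X) ⊔ M)
      (T : Subgroup X) T.2 hidxT F hFp hFTM
    obtain ⟨t₂, ht₂, m₂, hm₂, rfl⟩ := Subgroup.mem_sup_of_normal_right.mp hz₂
    refine ⟨m₂, hm₂, fun x hx => ?_⟩
    have h2 := hz₂F x hx
    have h3 : m₂ * x * m₂⁻¹ = t₂⁻¹ * (t₂ * m₂ * x * (t₂ * m₂)⁻¹) * t₂ := by group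
    rw [h3]
    exact Subgroup.mul_mem _ (Subgroup.mul_mem _ (Subgroup.inv_mem _ ht₂) h2) ht₂
  have hDbT : D.map π ≤ (Tb : Subgroup Q) := by rw [hTb]; exact Subgroup.map_mono hDT
  have hscb : ∀ x ∈ D.map π, ∀ gb : Q, gb * x * gb⁻¹ ∈ (Tb : Subgroup Q) →
      gb * x * gb⁻¹ ∈ D.map π := by
    intro x hx gb hgb
    obtain ⟨d, hd, rfl⟩ := hx
    obtain ⟨g₀, rfl⟩ := hπs gb
    have h1 : π (g₀ * d * g₀⁻¹) ∈ (T : Subgroup X).map π := by
      rw [← hTb, map_mul, map_mul, map_inv]; exact hgb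
    have h2 : (Subgroup.zpowers d).map (MulAut.conj g₀).toMonoidHom ≤ (T : Subgroup X) ⊔ M := by
      rw [Subgroup.map_le_iff_le_comap, Subgroup.zpowers_le, Subgroup.mem_comap]
      exact hTM _ h1
    have h3 : IsPGroup p ((Subgroup.zpowers d).map (MulAut.conj g₀).toMonoidHom) :=
      (T.2.to_le ((Subgroup.zpowers_le).mpr (hDT hd))).map _
    obtain ⟨m, hm, hmF⟩ := hconj _ h3 h2
    have h4 := hmF (g₀ * d * g₀⁻¹) ⟨d, Subgroup.mem_zpowers d, rfl⟩
    have h5 : m * (g₀ * d * g₀⁻¹) * m⁻¹ = (m * g₀) * d * (m * g₀)⁻¹ := by group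
    rw [h5] at h4
    have h6 := hsc d hd (m * g₀) h4
    refine ⟨_, h6, ?_⟩
    rw [map_mul, map_mul, map_inv, map_mul, (hπ1 m).mpr hm, one_mul]
  have hAb : π '' A ⊆ ((Tb : Subgroup Q) : Set Q) := by
    rintro _ ⟨a, ha, rfl⟩
    rw [hTb]; exact Subgroup.mem_map_of_mem _ (hA ha)
  have hgb : lc (π g) (π '' A) ⊆ ((Tb : Subgroup Q) : Set Q) := by
    rintro _ ⟨_, ⟨a, ha, rfl⟩, rfl⟩
    have h2 : π g * π a * (π g)⁻¹ = π (g * a * g⁻¹) := by simp
    show π g * π a * (π g)⁻¹ ∈ (Tb : Subgroup Q)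
    rw [hTb, h2]; exact Subgroup.mem_map_of_mem _ (hg ⟨a, ha, rfl⟩)
  obtain ⟨yb, hyb2, eyb⟩ := h Tb hTb hDbT hscb (π '' A) (π g) hAb hgb
  obtain ⟨W, hW⟩ : ∃ W, W = Helper23.zjSub p e D := ⟨_, rfl⟩
  have hWD : W ≤ D := by rw [hW]; exact Helper23.zjSub_le p e D
  have hWT : W ≤ (T : Subgroup X) := hWD.trans hDT
  have hWp : IsPGroup p W := T.2.to_le hWT
  have hWb : Helper23.zjSub p e (D.map π) = W.map π := by
    rw [hW]; exact Helper23.zjSub_map_of_injOn π D (fun x hx => hinj x (hDT hx))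
  rw [hWb] at hyb2
  rw [← hW]
  obtain ⟨y₀, hy₀⟩ := hπs yb
  have h1 : W.map (MulAut.conj y₀).toMonoidHom ≤ W ⊔ M := by
    rintro _ ⟨d, hd, rfl⟩
    have h2 : π (y₀ * d * y₀⁻¹) ∈ W.map π := by
      rw [map_mul, map_mul, map_inv, hy₀]
      exact (Subgroup.mem_normalizer_iff.mp hyb2 (π d)).mp (Subgroup.mem_map_of_mem _ hd)
    obtain ⟨d', hd', hdd⟩ := h2
    have h3 : d'⁻¹ * (y₀ * d * y₀⁻¹) ∈ M := by
      rw [← hπ1, map_mul, map_inv, hdd, inv_mul_cancel]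
    have h4 : y₀ * d * y₀⁻¹ = d' * (d'⁻¹ * (y₀ * d * y₀⁻¹)) := by group
    show y₀ * d * y₀⁻¹ ∈ W ⊔ M
    rw [h4]
    exact Subgroup.mul_mem _ (Subgroup.mem_sup_left hd') (Subgroup.mem_sup_right h3)
  have hidxW : ¬ p ∣ W.relIndex (W ⊔ M) := by
    rw [Cfsg.Agent.Helper19.relIndex_sup_normal W M]
    intro hdvd
    have h2 : W.relIndex M ∣ Nat.card M := Subgroup.relIndex_dvd_card W M
    exact (Nat.Prime.coprime_iff_not_dvd hp).mp hM.symm (dvd_trans hdvd h2)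
  obtain ⟨z, hz, hzD⟩ := exists_conj_into_of_relIndex (W ⊔ M) W hWp hidxW
    (W.map (MulAut.conj y₀).toMonoidHom) (hWp.map _) h1
  obtain ⟨d₁, hd₁, m₁, hm₁, rfl⟩ := Subgroup.mem_sup_of_normal_right.mp hz
  have hn : m₁ * y₀ ∈ Subgroup.normalizer (W : Set X) := by
    apply Cfsg.Agent.Helper9.mem_normalizer_of_conj_le W
    intro d hd
    have h2 := hzD (y₀ * d * y₀⁻¹) ⟨d, hd, rfl⟩
    have h3 : m₁ * y₀ * d * (m₁ * y₀)⁻¹ =
        d₁⁻¹ * (d₁ * m₁ * (y₀ * d * y₀⁻¹) * (d₁ * m₁)⁻¹) * d₁ := by group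
    rw [h3]
    exact W.mul_mem (W.mul_mem (W.inv_mem hd₁) h2) hd₁
  have hπn : π (m₁ * y₀) = yb := by rw [map_mul, (hπ1 m₁).mpr hm₁, one_mul, hy₀]
  obtain ⟨n, hnn⟩ : ∃ n, n = m₁ * y₀ := ⟨_, rfl⟩
  rw [← hnn] at hn hπn
  obtain ⟨F, hF⟩ : ∃ F : Subgroup X, F = Subgroup.closure (lc n A) ⊔ W := ⟨_, rfl⟩
  have hFT₁ : F ≤ (T : Subgroup X).map (MulAut.conj n).toMonoidHom := by
    rw [hF]
    apply sup_le
    · rw [Subgroup.closure_le]
      rintro _ ⟨b, hb, rfl⟩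
      exact ⟨b, hA hb, rfl⟩
    · intro d hd
      have h2 : n⁻¹ * d * n ∈ W := by
        have := (Subgroup.mem_normalizer_iff.mp (Subgroup.inv_mem _ hn) d).mp hd
        simpa using this
      refine ⟨n⁻¹ * d * n, hWT h2, ?_⟩
      show n * (n⁻¹ * d * n) * n⁻¹ = d
      group
  have hFp : IsPGroup p F := (T.2.map _).to_le hFT₁
  have hFTM : F ≤ (T : Subgroup X) ⊔ M := by
    rw [hF]
    apply sup_le
    · rw [Subgroup.closure_le]
      rintro _ ⟨b, hb, rfl⟩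
      apply hTM
      rw [← hTb, map_mul, map_mul, map_inv, hπn, eyb (π b) ⟨b, hb, rfl⟩]
      exact hgb ⟨π b, ⟨b, hb, rfl⟩, rfl⟩
    · exact hWT.trans le_sup_left
  obtain ⟨m₂, hm₂, hmF⟩ := hconj F hFp hFTM
  have hm₂D : m₂ ∈ Subgroup.centralizer (W : Set X) := by
    rw [Subgroup.mem_centralizer_iff]
    intro d hd
    have hdF : d ∈ F := by rw [hF]; exact Subgroup.mem_sup_right hd
    have h2 := hmF d hdF
    have h3 : m₂ * d * m₂⁻¹ = d := by
      apply hinj2 _ h2 _ (hWT hd)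
      rw [map_mul, map_mul, map_inv, (hπ1 m₂).mpr hm₂]; simp
    calc d * m₂ = (m₂ * d * m₂⁻¹) * m₂ := by rw [h3]
      _ = m₂ * d := by group
  refine ⟨m₂ * n, Subgroup.mul_mem _ (Subgroup.centralizer_le_normalizer _ hm₂D) hn,
    fun a ha => ?_⟩
  have hbF : n * a * n⁻¹ ∈ F := by
    rw [hF]; exact Subgroup.mem_sup_left (Subgroup.subset_closure ⟨a, ha, rfl⟩)
  have h2 := hmF _ hbF
  have h3 : m₂ * n * a * (m₂ * n)⁻¹ = m₂ * (n * a * n⁻¹) * m₂⁻¹ := by group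
  rw [h3]
  apply hinj2 _ h2 _ (hg ⟨a, ha, rfl⟩)
  rw [map_mul, map_mul, map_inv, (hπ1 m₂).mpr hm₂, map_mul, map_mul, map_inv, hπn,
    eyb (π a) ⟨a, ha, rfl⟩]
  simp

/-- `p`-stability in the acting-subgroup form from the normalizer form. -/
theorem isPStable_of_nps {X : Type*} [Group X] (hp2 : p ≠ 2) (hnps : IsNormalizerPStable p X)
    (hO : pCore p X ≠ ⊥) : IsPStable p X := by
  have hp : p.Prime := Fact.out
  refine ⟨hp.odd_of_ne_two hp2, hO, ?_⟩
  intro A P _ hP _ _ _ hquad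
  rintro _ ⟨⟨a, haN⟩, haA, rfl⟩
  have haA' : a ∈ A := Subgroup.mem_subgroupOf.mp haA
  have hle : Subgroup.zpowers a ≤ A := (Subgroup.zpowers_le).mpr haA'
  have hq : ⁅⁅P, Subgroup.zpowers a⁆, Subgroup.zpowers a⁆ = ⊥ := by
    rw [eq_bot_iff, ← hquad]
    exact Subgroup.commutator_mono (Subgroup.commutator_mono le_rfl hle) hle
  exact hnps P hP a haN hq

/-- In a `p`-constrained, `p`-stable group (`p` odd) `N(zjSub p e D)` controls strong fusion in a
Sylow `p`-subgroup `T`, for `D` strongly closed in `T`. -/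
theorem rctl_of_constrained {X : Type u} [Group X] [Finite X] (hp2 : p ≠ 2) (e : Bool)
    (hnps : IsNormalizerPStable p X) (hcon : IsPConstrained p X) (hO : pCore p X ≠ ⊥)
    (T : Sylow p X) (D : Subgroup X) (hDT : D ≤ (T : Subgroup X))
    (hsc : ∀ x ∈ D, ∀ g : X, g * x * g⁻¹ ∈ (T : Subgroup X) → g * x * g⁻¹ ∈ D)
    (A : Set X) (g : X) (hA : A ⊆ ((T : Subgroup X) : Set X))
    (hg : lc g A ⊆ ((T : Subgroup X) : Set X)) :
    ∃ y ∈ Subgroup.normalizer ((Helper23.zjSub p e D : Subgroup X) : Set X),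
      ∀ a ∈ A, y * a * y⁻¹ = g * a * g⁻¹ := by
  have hs : IsPStable p X := isPStable_of_nps hp2 hnps hO
  haveI hN : (pPrimeCore p X).Normal := Helper23.pPrimeCore_normal_fin p
  have hNc : (Nat.card (pPrimeCore p X)).Coprime p := Helper23.pPrimeCore_coprime p
  have hL := (Cfsg.Agent.Helper7.isPConstrained_iff_pLayer_eq_bot p).1 hcon
  have hF := Cfsg.Agent.Helper7.generalizedFitting_quotient_eq_pCore_of_pLayer_eq_bot p hL
  have hC := Cfsg.Agent.Helper7.centralizer_pCore_le_of_generalizedFitting_eq p hF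
  have hstq := Cfsg.Agent.Helper23.zjStable_quotient hs T hN
  refine rctl_lift e (QuotientGroup.mk' (pPrimeCore p X)) (QuotientGroup.mk'_surjective _)
    (pPrimeCore p X) hNc (fun x => QuotientGroup.eq_one_iff x) T D hDT hsc ?_ A g hA hg
  intro Tb hTb hDb hscb A' g' _ _
  refine ⟨g', ?_, fun a _ => rfl⟩
  have hZn : (Helper23.zjSub p e (D.map (QuotientGroup.mk' (pPrimeCore p X)))).Normal :=
    Helper23.zjSub_normal_gen hp2 e hC Tb (by rw [hTb]; exact hstq) _ hDb hscb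
  rw [Subgroup.normalizer_eq_top]; trivial

end Lift

section DFun

variable {G : Type u} [Group G] [Finite G] {p : ℕ} [Fact p.Prime]

/-- The part of `Q` fused into `D`. -/
def dPart (D Q : Subgroup G) : Subgroup G :=
  Subgroup.closure {x | x ∈ Q ∧ ∃ g : G, g * x * g⁻¹ ∈ D}

omit [Finite G] in
theorem dPart_le (D Q : Subgroup G) : dPart D Q ≤ Q := by
  unfold dPart; rw [Subgroup.closure_le]; exact fun x hx => hx.1

omit [Finite G] in
theorem dPart_eq_inf {P : Subgroup G} (D Q : Subgroup G)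
    (hsc : ∀ x ∈ D, ∀ g : G, g * x * g⁻¹ ∈ P → g * x * g⁻¹ ∈ D) (hQP : Q ≤ P) :
    dPart D Q = D ⊓ Q := by
  apply le_antisymm
  · unfold dPart
    rw [Subgroup.closure_le]
    rintro x ⟨hxQ, g, hg⟩
    refine ⟨?_, hxQ⟩
    have e : g⁻¹ * (g * x * g⁻¹) * g⁻¹⁻¹ = x := by group
    have h1 := hsc _ hg g⁻¹ (by rw [e]; exact hQP hxQ)
    rw [e] at h1; exact h1
  · intro x hx
    exact Subgroup.subset_closure ⟨hx.2, 1, by simpa using hx.1⟩

omit [Finite G] in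
theorem dPart_map (D Q : Subgroup G) (g : G) :
    dPart D (Q.map (MulAut.conj g).toMonoidHom) =
      (dPart D Q).map (MulAut.conj g).toMonoidHom := by
  unfold dPart
  rw [MonoidHom.map_closure]
  congr 1
  ext y
  constructor
  · rintro ⟨⟨x, hx, rfl⟩, h, hh⟩
    refine ⟨x, ⟨hx, h * g, ?_⟩, rfl⟩
    have e : h * g * x * (h * g)⁻¹ = h * (g * x * g⁻¹) * h⁻¹ := by group
    rw [e]; exact hh
  · rintro ⟨x, ⟨hx, h, hh⟩, rfl⟩
    refine ⟨⟨x, hx, rfl⟩, h * g⁻¹, ?_⟩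
    have e : h * g⁻¹ * (g * x * g⁻¹) * (h * g⁻¹)⁻¹ = h * x * h⁻¹ := by group
    show h * g⁻¹ * (g * x * g⁻¹) * (h * g⁻¹)⁻¹ ∈ D
    rw [e]; exact hh

open Classical in
/-- The conjugacy functor `Q ↦ zjSub p e (Q ∩ D)` (with the value `Q` when `Q ∩ D = 1`, to keep it
nontrivial). -/
noncomputable def wD (p : ℕ) (e : Bool) (D : Subgroup G) (Q : Subgroup G) : Subgroup G :=
  if dPart D Q = ⊥ then Q else Helper23.zjSub p e (dPart D Q)

theorem isConjugacyFunctor_wD (e : Bool) (D : Subgroup G) :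
    IsConjugacyFunctor p (wD p e D) := by
  intro Q hQ
  have hdp : IsPGroup p (dPart D Q) := hQ.to_le (dPart_le D Q)
  refine ⟨?_, fun hne => ?_, fun g => ?_⟩
  · unfold wD
    split_ifs with h
    · exact le_rfl
    · exact (Helper23.zjSub_le p e _).trans (dPart_le D Q)
  · unfold wD
    split_ifs with h
    · exact hne
    · exact ((isConjugacyFunctor_zjSub (G := G) (p := p) e) _ hdp).2.1 h
  · unfold wD
    rw [dPart_map]
    by_cases h : dPart D Q = ⊥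
    · rw [if_pos h, if_pos (by rw [h, Subgroup.map_bot])]
    · have h' : (dPart D Q).map (MulAut.conj g).toMonoidHom ≠ ⊥ := by
        intro h2
        exact h ((Subgroup.map_eq_bot_iff_of_injective _ (MulAut.conj g).injective).mp h2)
      rw [if_neg h, if_neg h']
      exact ((isConjugacyFunctor_zjSub (G := G) (p := p) e) _ hdp).2.2 g

omit [Fact p.Prime] in
theorem wD_eq {P : Subgroup G} (e : Bool) (D Q : Subgroup G)
    (hsc : ∀ x ∈ D, ∀ g : G, g * x * g⁻¹ ∈ P → g * x * g⁻¹ ∈ D) (hQP : Q ≤ P)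
    (hne : D ⊓ Q ≠ ⊥) : wD p e D Q = Helper23.zjSub p e (D ⊓ Q) := by
  unfold wD
  rw [dPart_eq_inf D Q hsc hQP, if_neg hne]

/-- A nontrivial strongly closed subgroup of `P` contains a nontrivial central element of `P`. -/
theorem exists_center_mem (P : Sylow p G) (D : Subgroup G) (hDP : D ≤ (P : Subgroup G))
    (hsc : ∀ x ∈ D, ∀ g : G, g * x * g⁻¹ ∈ (P : Subgroup G) → g * x * g⁻¹ ∈ D) (hDne : D ≠ ⊥) :
    ∃ z ∈ D, z ≠ 1 ∧ ∀ t ∈ (P : Subgroup G), z * t = t * z := by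
  haveI : Group.IsNilpotent ↥(P : Subgroup G) := P.2.isNilpotent
  haveI hn : (D.subgroupOf (P : Subgroup G)).Normal := by
    refine ⟨fun x hx g => ?_⟩
    rw [Subgroup.mem_subgroupOf] at hx ⊢
    exact hsc _ hx g ((P : Subgroup G).mul_mem ((P : Subgroup G).mul_mem g.2 (hDP hx))
      ((P : Subgroup G).inv_mem g.2))
  have hne : D.subgroupOf (P : Subgroup G) ≠ ⊥ := by
    intro h
    apply hDne
    rw [← Subgroup.map_subgroupOf_eq_of_le hDP, h, Subgroup.map_bot]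
  have h1 := Cfsg.Agent.Helper19.inf_center_ne_bot_of_normal _ hne
  obtain ⟨z', hz'⟩ := (Subgroup.ne_bot_iff_exists_ne_one).1 h1
  refine ⟨((z' : ↥(P : Subgroup G)) : G), Subgroup.mem_subgroupOf.1 z'.2.1, ?_, ?_⟩
  · intro h
    apply hz'
    apply Subtype.ext
    apply Subtype.ext
    exact h
  · intro t ht
    have h2 := Subgroup.mem_center_iff.1 z'.2.2 ⟨t, ht⟩
    exact (congrArg Subtype.val h2).symm

/-- The local step: in `N_G(T)` (`p`-constrained), `N(zjSub p e (D ∩ N_P(T)))` controls strong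
fusion in `N_P(T)`. -/
theorem zjD_loc (hp2 : p ≠ 2) (e : Bool) (P : Sylow p G) (D : Subgroup G)
    (hsc : ∀ x ∈ D, ∀ g : G, g * x * g⁻¹ ∈ (P : Subgroup G) → g * x * g⁻¹ ∈ D)
    (hst : IsNormalizerPStable p G) (T : Subgroup G) (hTP : T ≤ (P : Subgroup G)) (hTne : T ≠ ⊥)
    (hcon : IsPConstrained p ↥(Subgroup.normalizer (T : Set G)))
    (hidx : ¬ p ∣ ((P : Subgroup G) ⊓ Subgroup.normalizer (T : Set G)).relIndex
      (Subgroup.normalizer (T : Set G)))
    (B : Set G) (h : G) (hh : h ∈ Subgroup.normalizer (T : Set G))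
    (hB : B ⊆ (((P : Subgroup G) ⊓ Subgroup.normalizer (T : Set G) : Subgroup G) : Set G))
    (hhB : lc h B ⊆ (((P : Subgroup G) ⊓ Subgroup.normalizer (T : Set G) : Subgroup G) : Set G)) :
    ∃ x ∈ Subgroup.normalizer ((Helper23.zjSub p e
        (D ⊓ ((P : Subgroup G) ⊓ Subgroup.normalizer (T : Set G))) : Subgroup G) : Set G),
      ∀ a ∈ B, x * a * x⁻¹ = h * a * h⁻¹ := by
  have hTN0 : T ≤ Subgroup.normalizer (T : Set G) := Subgroup.le_normalizer
  have hn0 : (T.subgroupOf (Subgroup.normalizer (T : Set G))).Normal :=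
    Subgroup.normal_in_normalizer
  obtain ⟨N, hN⟩ : ∃ N : Subgroup G, N = Subgroup.normalizer (T : Set G) := ⟨_, rfl⟩
  rw [← hN] at hcon hidx hh hB hhB hTN0 hn0 ⊢
  obtain ⟨R, hR⟩ : ∃ R : Subgroup G, R = (P : Subgroup G) ⊓ N := ⟨_, rfl⟩
  rw [← hR] at hidx hB hhB ⊢
  have hRN : R ≤ N := by rw [hR]; exact inf_le_right
  have hRP : R ≤ (P : Subgroup G) := by rw [hR]; exact inf_le_left
  have hRp : IsPGroup p R := P.isPGroup'.to_le hRP
  obtain ⟨R', hR'⟩ : ∃ R' : Sylow p ↥N, (R' : Subgroup ↥N) = R.subgroupOf N :=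
    ⟨(hRp.comap_subtype (K := N)).toSylow hidx, IsPGroup.toSylow_coe _ _⟩
  have hnps : IsNormalizerPStable p ↥N := Cfsg.Agent.S3836.result hst N
  have hO : pCore p ↥N ≠ ⊥ := by
    intro hbot
    apply hTne
    have h1 : T.subgroupOf N ≤ pCore p ↥N :=
      Helper23.le_pCore hn0 ((P.isPGroup'.to_le hTP).comap_subtype (K := N))
    rw [hbot, le_bot_iff] at h1
    rw [← Subgroup.map_subgroupOf_eq_of_le hTN0, h1, Subgroup.map_bot]
  have hDRN : D ⊓ R ≤ N := inf_le_right.trans hRN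
  obtain ⟨y, hy, ey⟩ := rctl_of_constrained hp2 e hnps hcon hO R' ((D ⊓ R).subgroupOf N) (by
      intro x hx
      rw [hR']; exact Subgroup.mem_subgroupOf.mpr (Subgroup.mem_subgroupOf.mp hx).2) (by
      intro x hx g hg
      rw [hR'] at hg
      have hg' : ((g * x * g⁻¹ : ↥N) : G) ∈ R := Subgroup.mem_subgroupOf.mp hg
      exact Subgroup.mem_subgroupOf.mpr
        ⟨hsc _ (Subgroup.mem_subgroupOf.mp hx).1 g (hRP hg'), hg'⟩)
    (N.subtype ⁻¹' B) ⟨h, hh⟩ (by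
      intro a ha
      rw [SetLike.mem_coe, hR']; exact Subgroup.mem_subgroupOf.mpr (hB ha)) (by
      rintro _ ⟨a, ha, rfl⟩
      rw [SetLike.mem_coe, hR']; exact Subgroup.mem_subgroupOf.mpr (hhB ⟨a, ha, rfl⟩))
  refine ⟨(y : G), ?_, fun a ha => ?_⟩
  · have e2 : Helper23.zjSub p e (D ⊓ R) =
        (Helper23.zjSub p e ((D ⊓ R).subgroupOf N)).map N.subtype := by
      rw [← Helper23.zjSub_map_of_injOn N.subtype ((D ⊓ R).subgroupOf N)
        (fun x _ hx => Subtype.ext hx), Subgroup.map_subgroupOf_eq_of_le hDRN]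
    rw [e2]
    exact Subgroup.le_normalizer_map N.subtype (Subgroup.mem_map_of_mem _ hy)
  · have h2 := ey ⟨a, hRN (hB ha)⟩ ha
    exact congrArg Subtype.val h2

/-- **Main theorem**: `G` `p`-stable in the normalizer form (`p` odd), all `N_G(U)` (`1 ≠ U ≤ P`)
`p`-constrained, `D` strongly closed in `P`: `N_G(zjSub p e D)` controls strong fusion in `P`. -/
theorem zjD_ctl (hp2 : p ≠ 2) (e : Bool) (P : Sylow p G) (D : Subgroup G)
    (hDP : D ≤ (P : Subgroup G))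
    (hsc : ∀ x ∈ D, ∀ g : G, g * x * g⁻¹ ∈ (P : Subgroup G) → g * x * g⁻¹ ∈ D)
    (hst : IsNormalizerPStable p G)
    (hc : ∀ U : Subgroup G, U ≤ (P : Subgroup G) → U ≠ ⊥ →
      IsPConstrained p ↥(Subgroup.normalizer (U : Set G)))
    (A : Set G) (g : G) (hA : A ⊆ ((P : Subgroup G) : Set G))
    (hg : lc g A ⊆ ((P : Subgroup G) : Set G)) :
    ∃ n ∈ Subgroup.normalizer ((Helper23.zjSub p e D : Subgroup G) : Set G),
      ∀ a ∈ A, n * a * n⁻¹ = g * a * g⁻¹ := by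
  by_cases hDne : D = ⊥
  · refine ⟨g, ?_, fun a _ => rfl⟩
    have h0 : Helper23.zjSub p e D = ⊥ := by
      rw [eq_bot_iff, ← hDne]; exact Helper23.zjSub_le p e D
    rw [h0, Subgroup.normalizer_eq_top]; trivial
  obtain ⟨z, hzD, hz1, hzc⟩ := exists_center_mem P D hDP hsc hDne
  have hW := isConjugacyFunctor_wD (G := G) (p := p) e D
  have hDR : ∀ T : Subgroup G, T ≤ (P : Subgroup G) →
      D ⊓ ((P : Subgroup G) ⊓ Subgroup.normalizer (T : Set G)) ≠ ⊥ := by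
    intro T hTP hbot
    apply hz1
    have hzN : z ∈ Subgroup.normalizer (T : Set G) := by
      apply Subgroup.centralizer_le_normalizer
      rw [Subgroup.mem_centralizer_iff]
      intro t ht
      exact (hzc t (hTP ht)).symm
    have hmem : z ∈ D ⊓ ((P : Subgroup G) ⊓ Subgroup.normalizer (T : Set G)) :=
      ⟨hzD, hDP hzD, hzN⟩
    rw [hbot] at hmem
    exact Subgroup.mem_bot.mp hmem
  have hWP : wD p e D (P : Subgroup G) = Helper23.zjSub p e D := by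
    rw [wD_eq e D _ hsc le_rfl (by rw [inf_eq_left.mpr hDP]; exact hDne), inf_eq_left.mpr hDP]
  rw [← hWP]
  have hfam := isConjugationFamily_of_hyp P
    {T : Subgroup G | IsWellPlaced p (wD p e D) (P : Subgroup G) T}
    (fun U hU => hU.1) (fun T hT => by
      obtain ⟨h, hwp, -⟩ := exists_wellPlaced_conj P (wD p e D) hW _ T hT rfl
      exact ⟨_, hwp, ⟨h, rfl⟩, hwp.2 0⟩)
  have hdec := hfam A g⁻¹ hA (by
    rw [cj_subset_iff]
    intro a ha
    rw [inv_inv]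
    exact hg ⟨a, ha, rfl⟩)
  obtain ⟨n, hn, en⟩ := good_of_dec
    (Subgroup.normalizer ((wD p e D (P : Subgroup G) : Subgroup G) : Set G)) _
    (fun U hU y hy => by
      by_cases hUne : U = ⊥
      · refine ⟨1, Subgroup.one_mem _, fun a ha => ?_⟩
        rw [hUne, Subgroup.mem_bot] at ha
        rw [ha]; group
      have hUR : U ≤ (P : Subgroup G) ⊓ Subgroup.normalizer (U : Set G) :=
        le_inf hU.1 Subgroup.le_normalizer
      obtain ⟨n, hn, en⟩ := climbP P (wD p e D) hW (fun T => T ≠ ⊥)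
        (by
          intro T hT hwpT
          apply (hW _ (P.isPGroup'.to_le inf_le_left)).2.1
          intro hbot
          apply hT
          rw [eq_bot_iff, ← hbot]
          exact le_inf hwpT.1 Subgroup.le_normalizer)
        (by
          intro T hT hwpT B h hh hB hhB
          have hTP := hwpT.1
          obtain ⟨x, hx, ex⟩ := zjD_loc hp2 e P D hsc hst T hTP hT (hc T hTP hT)
            (hwpT.2 0) B h hh hB hhB
          refine ⟨x, ?_, ex⟩
          rw [wD_eq e D _ hsc inf_le_left (hDR T hTP)]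
          exact hx)
        _ U hUne hU rfl (U : Set G) y⁻¹ (Subgroup.inv_mem _ hy) hUR (by
          rintro _ ⟨u, hu, rfl⟩
          exact hUR ((Subgroup.mem_normalizer_iff.mp (Subgroup.inv_mem _ hy) u).mp hu))
      exact ⟨n, hn, fun a ha => by rw [en a ha, inv_inv]⟩) A g⁻¹ hdec
  exact ⟨n, hn, fun a ha => by rw [en a ha, inv_inv]⟩

end DFun

end Cfsg.Agent.Helper10
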